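import Cfsg.Agent.Lib.SU3Sylow.Auto

/-!
Additive maps on a quadratic extension in characteristic 2 which commute with the scalars of the subfield
and with an element of norm one outside it.
-/

set_option autoImplicit false
set_option linter.unusedSectionVars false

namespace Cfsg.Agent.UThreeEven.Algebra

open CharTwo

universe u w x

section Biadd

variable {K : Type u} [Field K] [CharP K 2] {M : Type w} [AddCommGroup M] [Module K M]
variable {X : Type x} [AddCommGroup X] [Module K X]

/-- A biadditive map which is homogeneous on the diagonal of the scalars is semibilinear. -/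
theorem biadd_sq (χ : K →+* K) (f : M → M → X) (hl : ∀ x x' y, f (x + x') y = f x y + f x' y)
    (hr : ∀ x y y', f x (y + y') = f x y + f x y')
    (hc : ∀ (l : K) (x y : M), f (l • x) (l • y) = χ l • f x y) (a b : K) (x y : M) :
    f ((a * a) • x) ((b * b) • y) = χ (a * b) • f x y := by
  have h0l : ∀ y, f 0 y = 0 := fun y => by simpa using hl 0 0 y
  have key : ∀ s : K, f x ((s * s) • y) = χ s • f x y := fun s => by
    have h := hc (s + 1) x (s • y)
    have e : (s + 1) • (s • y) = (s * s) • y + s • y := by rw [smul_smul, add_mul, one_mul, add_smul]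
    rw [e, add_smul, one_smul, hl, hr, hr, map_add, map_one, add_smul, one_smul] at h
    have h1 : f (s • x) ((s * s) • y) = χ s • f x (s • y) := by rw [mul_smul]; exact hc s x (s • y)
    rw [h1, hc s x y] at h
    have h2 : (χ s • f x (s • y) + f x (s • y)) + (χ s • f x y + f x ((s * s) • y)) =
        (χ s • f x (s • y) + f x (s • y)) + 0 := by
      rw [add_zero]; refine Eq.trans ?_ h; abel
    have h3 := add_left_cancel h2
    calc f x ((s * s) • y) = -(χ s • f x y) := (neg_eq_of_add_eq_zero_right h3).symm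
      _ = χ s • f x y := by rw [← neg_smul, CharTwo.neg_eq]
  rcases eq_or_ne a 0 with rfl | ha
  · simp [h0l]
  · have e : (b * b) • y = (a * a) • ((b / a * (b / a)) • y) := by
      rw [smul_smul]; congr 1; field_simp
    rw [e, hc, key, smul_smul, ← map_mul]
    congr 2
    field_simp

end Biadd

section Ext

variable {F : Type u} [Field F] [CharP F 2] [Finite F] {σ : F →+* F}

theorem exists_sq (l : F) (hl : σ l = l) : ∃ a, σ a = a ∧ a * a = l := by
  have hinj : Function.Injective fun a : F => a * a := fun a b h => by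
    have h' : (a + b) * (a + b) = 0 := by
      simp only at h
      linear_combination h + (a * b + b * b) * (CharTwo.two_eq_zero : (2 : F) = 0)
    exact CharTwo.add_eq_zero.1 (mul_self_eq_zero.1 h')
  obtain ⟨a, ha⟩ := (Finite.injective_iff_surjective.1 hinj) l
  refine ⟨a, hinj ?_, ha⟩
  show σ a * σ a = a * a
  rw [← map_mul, show a * a = l from ha, hl]

variable (hi : ∀ a, σ (σ a) = a) {d : F} (hd : d * σ d = 1) (hd' : σ d ≠ d)
include hi hd hd'

theorem trace_ne : d + σ d ≠ 0 := fun h => hd' (CharTwo.add_eq_zero.1 h).symm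

theorem sq_eq : d * d = (d + σ d) * d + 1 := by
  linear_combination -hd - (CharTwo.two_eq_zero : (2 : F) = 0)

theorem decomp (v : F) : ∃ a b, σ a = a ∧ σ b = b ∧ v = a + b * d := by
  have ht := trace_ne hi hd hd'
  refine ⟨(v * σ d + σ v * d) / (d + σ d), (v + σ v) / (d + σ d), ?_, ?_, ?_⟩
  · simp only [map_div₀, map_add, map_mul, hi]
    rw [add_comm (σ d) d, add_comm (σ v * d)]
  · simp only [map_div₀, map_add, hi]
    rw [add_comm (σ d) d, add_comm (σ v)]
  · field_simp
    linear_combination (-(σ v * d)) * (CharTwo.two_eq_zero : (2 : F) = 0)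

theorem additive_scalar (g : F → F) (hg : ∀ x y, g (x + y) = g x + g y)
    (hs : ∀ l x, σ l = l → g (l * x) = l * g x) (hgd : ∀ x, g (d * x) = d * g x) (v : F) :
    g v = g 1 * v := by
  obtain ⟨a, b, ha, hb, rfl⟩ := decomp hi hd hd' v
  have h1 := hs a 1 ha
  have h2 := hs b d hb
  have h3 := hgd 1
  rw [mul_one] at h1 h3
  rw [hg, h1, h2, h3]
  ring

theorem additive_invariant (g : F → F) (hg : ∀ x y, g (x + y) = g x + g y)
    (hgd : ∀ x, g (d * x) = g x) (v : F) : g v = 0 := by
  have h1 : d + 1 ≠ 0 := fun h => hd' (by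
    rw [CharTwo.add_eq_zero.1 h, map_one])
  have h := hgd (v / (d + 1))
  have h2 : g (d * (v / (d + 1))) + g (v / (d + 1)) = g v := by
    rw [← hg]; congr 1; field_simp
  rw [← h2, h, CharTwo.add_self_eq_zero]

/-- An alternating biadditive map into `F` commuting with the scalars and with `d` vanishes. -/
theorem alternating_eq_zero (f : F → F → F) (hl : ∀ x x' y, f (x + x') y = f x y + f x' y)
    (hr : ∀ x y y', f x (y + y') = f x y + f x y') (hself : ∀ x, f x x = 0)
    (hc : ∀ l x y, σ l = l → f (l * x) (l * y) = l * f x y)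
    (hfd : ∀ x y, f (d * x) (d * y) = d * f x y) (x y : F) : f x y = 0 := by
  have B : ∀ {a b : F}, σ a = a → σ b = b → ∀ x y, f (a * a * x) (b * b * y) = a * b * f x y :=
    fun {a b} ha hb x y => biadd_sq (K := ↥(Hermitian.fixed σ)) (M := F) (X := F) (RingHom.id _) f hl hr
      (fun l x y => hc _ _ _ l.2) ⟨a, ha⟩ ⟨b, hb⟩ x y
  have hsymm : ∀ x y, f y x = f x y := fun x y => by
    have h := hself (x + y)
    rw [hl, hr, hr, hself, hself, zero_add, add_zero] at h
    exact (CharTwo.add_eq_zero.1 h).symm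
  obtain ⟨r, hr', hrr⟩ := exists_sq (d + σ d) (by rw [map_add, hi, add_comm])
  have hc0 : f 1 d = 0 := by
    have h := hfd 1 d
    rw [mul_one, sq_eq hi hd hd', hr, ← hrr] at h
    have h2 := B (map_one σ) hr' d d
    rw [hself, mul_zero, one_mul, one_mul] at h2
    rw [h2, zero_add, hsymm] at h
    by_contra hne
    have hd1 : d = 1 := mul_right_cancel₀ hne (by rw [one_mul]; exact h.symm)
    exact hd' (by rw [hd1, map_one])
  obtain ⟨a, b, ha, hb, rfl⟩ := decomp hi hd hd' x
  obtain ⟨a', b', ha', hb', rfl⟩ := decomp hi hd hd' y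
  have Z : ∀ {p q : F}, σ p = p → σ q = q → ∀ u v : F, f u v = 0 → f (p * u) (q * v) = 0 := by
    intro p q hp hq u v huv
    obtain ⟨p', hp', rfl⟩ := exists_sq p hp
    obtain ⟨q', hq', rfl⟩ := exists_sq q hq
    rw [B hp' hq', huv, mul_zero]
  have z1 := Z ha ha' 1 1 (hself 1)
  have z2 := Z ha hb' 1 d hc0
  have z3 := Z hb ha' d 1 (by rw [hsymm]; exact hc0)
  have z4 := Z hb hb' d d (hself d)
  simp only [mul_one] at z1 z2 z3
  rw [hl, hr, hr, z1, z2, z3, z4]
  simp

/-- A biadditive form of weight two invariant under `d` is a twisted trace. -/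
theorem form_eq_trace (f : F → F → F) (hl : ∀ x x' y, f (x + x') y = f x y + f x' y)
    (hr : ∀ x y y', f x (y + y') = f x y + f x y') (hfix : ∀ x y, σ (f x y) = f x y)
    (hc : ∀ l x y, σ l = l → f (l * x) (l * y) = l * l * f x y)
    (hfd : ∀ x y, f (d * x) (d * y) = f x y) :
    ∃ c : F, ∀ x y, f x y = c * (σ x * y) + σ (c * (σ x * y)) := by
  have ht := trace_ne hi hd hd'
  have hlin : ∀ {a b : F}, σ a = a → σ b = b → ∀ x y, f (a * x) (b * y) = a * b * f x y := by
    intro a b ha hb x y
    obtain ⟨a', ha', rfl⟩ := exists_sq a ha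
    obtain ⟨b', hb', rfl⟩ := exists_sq b hb
    exact (biadd_sq (K := ↥(Hermitian.fixed σ)) (M := F) (X := F)
      ((frobenius ↥(Hermitian.fixed σ) 2)) f hl hr
      (fun l x y => by
        show f ((l : F) * x) ((l : F) * y) = ((frobenius _ 2 l : ↥(Hermitian.fixed σ)) : F) * f x y
        rw [hc _ _ _ l.2, frobenius_def, SubmonoidClass.coe_pow, sq])
      ⟨a', ha'⟩ ⟨b', hb'⟩ x y).trans (by
        show ((frobenius _ 2 (⟨a', ha'⟩ * ⟨b', hb'⟩) : ↥(Hermitian.fixed σ)) : F) * f x y = _
        rw [frobenius_def, SubmonoidClass.coe_pow]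
        show (a' * b') ^ 2 * f x y = _
        ring)
  refine ⟨(f 1 d + f 1 1 * σ d) / (d + σ d), fun x y => ?_⟩
  obtain ⟨a, b, ha, hb, rfl⟩ := decomp hi hd hd' x
  obtain ⟨a', b', ha', hb', rfl⟩ := decomp hi hd hd' y
  have hτ : σ (d + σ d) = d + σ d := by rw [map_add, hi, add_comm]
  have h11 := hlin ha ha' 1 1
  have h12 := hlin ha hb' 1 d
  have h21 := hlin hb ha' d 1
  have h22 := hlin hb hb' d d
  have hdd : f d d = f 1 1 := by have := hfd 1 1; rwa [mul_one] at this
  have hd1 : f d 1 = f 1 d + (d + σ d) * f 1 1 := by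
    have h := hfd 1 d
    rw [mul_one, sq_eq hi hd hd', hr] at h
    have h2 := hlin (map_one σ) hτ d d
    rw [one_mul, one_mul, hdd] at h2
    rw [h2] at h
    linear_combination h - ((d + σ d) * f 1 1) * (CharTwo.two_eq_zero : (2 : F) = 0)
  rw [mul_one] at h11 h12 h21
  rw [mul_one] at h11
  rw [hl, hr, hr, h11, h12, h21, h22, hdd, hd1]
  simp only [map_add, map_mul, map_div₀, hi, hfix, ha, hb, ha', hb', add_comm (σ d) d]
  field_simp
  linear_combination (-(σ d + d) * f 1 1 * b' * b) * hd + (-(d * σ d * a * f 1 1 * b') +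
    d * σ d * a' * f 1 1 * b - d * σ d * b' * f 1 d * b - a * a' * f 1 d) *
    (CharTwo.two_eq_zero : (2 : F) = 0)

/-- A quadratic form of weight two invariant under `d` is a multiple of the norm. -/
theorem quadratic_eq_norm (g : F → F) (f : F → F → F) (hg : ∀ x y, g (x + y) = g x + g y + f x y)
    (hl : ∀ x x' y, f (x + x') y = f x y + f x' y)
    (hgs : ∀ l x, σ l = l → g (l * x) = l * l * g x) (hgd : ∀ x, g (d * x) = g x) (v : F) :
    g v = g 1 * (v * σ v) := by
  obtain ⟨a, b, ha, hb, rfl⟩ := decomp hi hd hd' v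
  have hr : ∀ x y y', f x (y + y') = f x y + f x y' := fun x y y' => by
    have hs : ∀ x y, f x y = f y x := fun x y => by
      have h1 := hg x y
      rw [add_comm x y, hg y x] at h1
      linear_combination -h1
    rw [hs, hl, hs y, hs y']
  have hτ : σ (d + σ d) = d + σ d := by rw [map_add, hi, add_comm]
  have hτ0 := trace_ne hi hd hd'
  -- the polar form is bilinear
  have hc : ∀ l x y, σ l = l → f (l * x) (l * y) = l * l * f x y := fun l x y hl' => by
    have h1 := hg (l * x) (l * y)
    rw [← mul_add, hgs l _ hl', hgs l x hl', hgs l y hl', hg x y] at h1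
    linear_combination -h1
  have hlin : ∀ {p q : F}, σ p = p → σ q = q → ∀ x y, f (p * x) (q * y) = p * q * f x y := by
    intro p q hp hq x y
    obtain ⟨p', hp', rfl⟩ := exists_sq p hp
    obtain ⟨q', hq', rfl⟩ := exists_sq q hq
    exact (biadd_sq (K := ↥(Hermitian.fixed σ)) (M := F) (X := F)
      ((frobenius ↥(Hermitian.fixed σ) 2)) f hl hr
      (fun l x y => by
        show f ((l : F) * x) ((l : F) * y) = ((frobenius _ 2 l : ↥(Hermitian.fixed σ)) : F) * f x y
        rw [hc _ _ _ l.2, frobenius_def, SubmonoidClass.coe_pow, sq])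
      ⟨p', hp'⟩ ⟨q', hq'⟩ x y).trans (by
        show ((frobenius _ 2 (⟨p', hp'⟩ * ⟨q', hq'⟩) : ↥(Hermitian.fixed σ)) : F) * f x y = _
        rw [frobenius_def, SubmonoidClass.coe_pow]
        show (p' * q') ^ 2 * f x y = _
        ring)
  have hd1 : g d = g 1 := by have := hgd 1; rwa [mul_one] at this
  have hf1d : f 1 d = (d + σ d) * g 1 := by
    have h := hgd d
    have h2 := hg ((d + σ d) * d) 1
    rw [← sq_eq hi hd hd', h, hgs _ _ hτ, hd1] at h2
    have h3 := hlin hτ (map_one σ) d 1
    rw [one_mul, mul_one] at h3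
    rw [h3] at h2
    have hs1 : f d 1 = f 1 d := by
      have h4 := hg d 1
      rw [add_comm d 1, hg 1 d] at h4
      linear_combination -h4
    rw [hs1] at h2
    refine mul_left_cancel₀ hτ0 ?_
    linear_combination -h2 - ((d + σ d) * (d + σ d) * g 1) * (CharTwo.two_eq_zero : (2 : F) = 0)
  have h1 := hgs a 1 ha
  have h2 := hgs b d hb
  have h3 := hlin ha hb 1 d
  rw [mul_one] at h1 h3
  rw [hg, h1, h2, hd1, h3, hf1d]
  simp only [map_add, map_mul, ha, hb]
  linear_combination (-(b * b * g 1)) * hd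

omit hd hd' in
/-- The additive maps preserving the norm. -/
theorem isometry (g : F → F) (hg : ∀ x y, g (x + y) = g x + g y)
    (hN : ∀ x, g x * σ (g x) = x * σ x) :
    ∃ m : F, m * σ m = 1 ∧ ((∀ x, g x = m * x) ∨ ∀ x, g x = m * σ x) := by
  have hm : g 1 * σ (g 1) = 1 := by simpa using hN 1
  refine ⟨g 1, hm, ?_⟩
  have hcase : ∀ x, g x = g 1 * x ∨ g x = g 1 * σ x := fun x => by
    have hT := hN (x + 1)
    rw [hg, map_add, map_add, map_one] at hT
    have hTr : g x * σ (g 1) + g 1 * σ (g x) = x + σ x := by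
      linear_combination hT - hN x - hm
    have h0 : (g x - g 1 * x) * (g x - g 1 * σ x) = 0 := by
      linear_combination (g x * g 1) * hTr - (g 1 * g 1) * hN x - (g x * g x) * hm
    rcases mul_eq_zero.1 h0 with h | h
    · exact Or.inl (sub_eq_zero.1 h)
    · exact Or.inr (sub_eq_zero.1 h)
  by_contra hcon
  push Not at hcon
  obtain ⟨⟨x, hx⟩, ⟨y, hy⟩⟩ := hcon
  have hx' := (hcase x).resolve_left hx
  have hy' := (hcase y).resolve_right hy
  rcases hcase (x + y) with h | h
  · rw [hg, hx', hy', mul_add] at h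
    exact hx (hx'.trans (add_right_cancel h))
  · rw [hg, hx', hy', map_add, mul_add] at h
    exact hy (hy'.trans (add_left_cancel h))

end Ext

end Cfsg.Agent.UThreeEven.Algebra
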