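import Cfsg.Agent.Lib.SU3Sylow.AutStructure
import Cfsg.Prelude.Def_Local
import Cfsg.Prelude.Def_Classical
import Cfsg.Prelude.Def_TwoFusion

/-!
An involution whose centraliser is `E × U` with `U` of type `U₃(2ⁿ)`: the hypotheses, and what is used about
the structure of `U` (see `tools/scope/S3151_helper4.md`).
-/

set_option autoImplicit false
set_option linter.style.haveILetI false
set_option linter.unusedSectionVars false

namespace Cfsg.Agent.UThreeEven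

open Subgroup

universe u v

variable {G : Type u} [Group G]

/-- The centraliser of `t`. -/
abbrev cen (t : G) : Subgroup G := centralizer ({t} : Set G)

/-- The automorphism `(a, b) ↦ (m a, m σm b)` of the Sylow 2-subgroup of `SU₃(q)`. -/
def torus {F : Type v} [Field F] [CharP F 2] (σ : F →+* F) [SU3Sylow.Inv2 σ] (m : Fˣ) :
    MulAut (SU3Sylow.Heis σ) :=
  SU3Sylow.Heis.scale (RingEquiv.refl F) (fun x => by rw [RingEquiv.refl_apply, RingEquiv.refl_apply]) m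

@[simp] theorem torus_a {F : Type v} [Field F] [CharP F 2] (σ : F →+* F) [SU3Sylow.Inv2 σ] (m : Fˣ)
    (x : SU3Sylow.Heis σ) : (torus σ m x).a = m * x.a := rfl

@[simp] theorem torus_b {F : Type v} [Field F] [CharP F 2] (σ : F →+* F) [SU3Sylow.Inv2 σ] (m : Fˣ)
    (x : SU3Sylow.Heis σ) : (torus σ m x).b = m * σ (m : F) * x.b := rfl

/-- The hypotheses of the theorem which do not mention the type of `U₀`. -/
structure Setup (t : G) (E U U₀ : Subgroup G) : Prop where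
  ord : orderOf t = 2
  dir : Cfsg.IsInternalDirectProduct E U (cen t)
  ea : Cfsg.IsElementaryAbelian 2 E
  ne : E ≠ ⊥
  le : U₀ ≤ U
  nrm : (U₀.subgroupOf U).Normal
  qs : Cfsg.IsQuasisimple ↥U₀
  cU : U ⊓ centralizer (U₀ : Set G) = (center ↥U₀).map U₀.subtype
  cE : ∀ e ∈ E, orderOf e = 2 → cen e = cen t

/-- What is used about a group of type `U₃(2ⁿ)` with its outer automorphisms. -/
structure Model (t : G) (E U U₀ : Subgroup G) {F : Type v} [Field F] [CharP F 2] (σ : F →+* F)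
    [SU3Sylow.Inv2 σ] (n : ℕ) where
  two_le : 2 ≤ n
  ne_id : σ ≠ RingHom.id F
  card_fixed : Nat.card ↥(Hermitian.fixed σ) = 2 ^ n
  odd_Z : Odd (Nat.card ↥(U ⊓ centralizer (U₀ : Set G)))
  /-- the Sylow subgroup of `U₀` in coordinates -/
  ι : SU3Sylow.Heis σ →* G
  inj : Function.Injective ι
  range_le : ι.range ≤ U₀
  sylow₀ : ∀ P : Subgroup G, IsPGroup 2 P → P ≤ U₀ → ι.range ≤ P → P ≤ ι.range
  cen_S : cen t ⊓ centralizer (ι.range : Set G) =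
    E ⊔ ((center (SU3Sylow.Heis σ)).map ι ⊔ (U ⊓ centralizer (U₀ : Set G)))
  act : ∀ c ∈ cen t, c ∈ normalizer (ι.range : Set G) →
    ∃ (θ : F ≃+* F) (hθ : ∀ x, θ (σ x) = σ (θ x)) (m : Fˣ) (s : SU3Sylow.Heis σ),
      ∀ x, c * ι x * c⁻¹ = ι (s * SU3Sylow.Heis.scale θ hθ m x * s⁻¹)
  /-- the centraliser of `Z₀` among the odd elements normalising `S₀`, modulo `S₀` -/
  D : Subgroup G
  D_le : D ≤ U
  D_odd : Odd (Nat.card ↥D)
  D_comm : ∀ a ∈ D, ∀ b ∈ D, a * b = b * a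
  D_Z : U ⊓ centralizer (U₀ : Set G) ≤ D
  D_act : ∀ d ∈ D, ∃ m : Fˣ, (m : F) * σ m = 1 ∧
    ∀ x, d * ι x * d⁻¹ = ι (torus σ m x)
  D_moved : ∃ d ∈ D, ∃ m : Fˣ, (m : F) * σ m = 1 ∧ σ (m : F) ≠ m ∧
    ∀ x, d * ι x * d⁻¹ = ι (torus σ m x)
  D_hall : ∀ c ∈ cen t, Odd (orderOf c) → c ∈ normalizer (ι.range : Set G) →
    c ∈ centralizer (((center (SU3Sylow.Heis σ)).map ι : Subgroup G) : Set G) → c ∈ ι.range ⊔ D
  /-- the fixed points of the torus of `U₀` centralising `Z₀` -/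
  J : Subgroup G
  J_le : J ≤ U₀
  J_iso : Nonempty (↥J ≃* Matrix.ProjectiveSpecialLinearGroup (Fin 2) ↥(Hermitian.fixed σ))
  J_comm : ∀ j ∈ J, ∀ d ∈ D, j * d = d * j
  Z_le_J : (center (SU3Sylow.Heis σ)).map ι ≤ J
  J_two : ∀ c ∈ cen t, IsPGroup 2 (zpowers c) → c ∈ centralizer (D : Set G) → c ∈ E ⊔ J
  /-- the split torus -/
  H : Subgroup G
  H_le : H ≤ J
  H_odd : Odd (Nat.card ↥H)
  H_comm : ∀ a ∈ H, ∀ b ∈ H, a * b = b * a
  H_act : ∀ h ∈ H, ∃ l : Fˣ, σ (l : F) = l ∧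
    ∀ x, h * ι x * h⁻¹ = ι (torus σ l x)
  H_surj : ∀ l : Fˣ, σ (l : F) = l → ∃ h ∈ H,
    ∀ x, h * ι x * h⁻¹ = ι (torus σ l x)
  /-- the field automorphisms -/
  Φ : Subgroup G
  Φ_le : Φ ≤ U
  Φ_S : Φ ≤ normalizer (ι.range : Set G)
  Φ_D : Φ ≤ normalizer (D : Set G)
  Φ_H : Φ ≤ normalizer (H : Set G)
  Φ_two : IsPGroup 2 ↥(E ⊔ (ι.range ⊔ Φ))
  Φ_sylow : ∀ P : Subgroup G, IsPGroup 2 P → P ≤ cen t → E ⊔ (ι.range ⊔ Φ) ≤ P → P ≤ E ⊔ (ι.range ⊔ Φ)
  /-- the outer automorphisms form a group with derived subgroup of odd order -/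
  two_commutator : ∀ c ∈ ⁅cen t, cen t⁆, IsPGroup 2 (zpowers c) → c ∈ U₀

end Cfsg.Agent.UThreeEven
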