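import Cfsg.Agent.Lib.UThreeEven.Algebra
import Cfsg.Agent.Lib.SU3Sylow.AutStructure
import Cfsg.Agent.Lib.UThreeEven.Defs

/-!
Automorphisms of the Sylow 2-subgroup of `SU₃(q)` commuting with the torus.
-/

set_option autoImplicit false
set_option linter.unusedSectionVars false

namespace Cfsg.Agent.UThreeEven.HeisAux

open Hermitian SU3Sylow

universe u

variable {F : Type u} [Field F] [CharP F 2] [Finite F] {σ : F →+* F} [hi : Inv2 σ]
variable (hne : σ ≠ RingHom.id F)

omit [Finite F] in
theorem conj_a (s y : Heis σ) : (s * y * s⁻¹).a = y.a := by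
  simp only [Heis.mul_a, Heis.inv_a]
  linear_combination s.a * (CharTwo.two_eq_zero : (2 : F) = 0)

omit [Finite F] in
theorem conj_b (s y : Heis σ) : (s * y * s⁻¹).b = y.b + (σ s.a * y.a + σ y.a * s.a) := by
  simp only [Heis.mul_a, Heis.mul_b, Heis.inv_a, Heis.inv_b, map_add]
  linear_combination s.eq

omit [Finite F] in
theorem comm_cen (x : Heis σ) (c : fixed σ) : x * Heis.cen c = Heis.cen c * x :=
  (Heis.comm_iff _ _).2 (by simp)

omit [Finite F] in
theorem cen_add (c c' : fixed σ) : Heis.cen (c + c') = Heis.cen c * Heis.cen c' :=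
  Heis.ext (by simp) (by simp)

omit [Finite F] in
theorem one_eq_cen : (1 : Heis σ) = Heis.cen 0 := Heis.ext rfl rfl

include hne

/-- A 2-element of the Galois group fixing an element outside the fixed field of `σ` is trivial. -/
theorem galois_eq_one {f : F ≃+* F} {k : ℕ} (hk : f ^ (2 ^ k) = 1) {d : F} (hd : f d = d) (hd' : σ d ≠ d) :
    f = 1 := by
  induction k generalizing f with
  | zero => rwa [pow_zero, pow_one] at hk
  | succ k ih =>
    have h2 : f * f = 1 := by
      have h1 : (f * f) ^ (2 ^ k) = 1 := by rw [← sq, ← pow_mul, ← pow_succ', hk]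
      exact ih h1 (by show f (f d) = d; rw [hd, hd])
    by_contra hf
    have hfn : f.toRingHom ≠ RingHom.id F := fun h => hf (RingEquiv.ext fun x => RingHom.congr_fun h x)
    have hfi : ∀ a, f.toRingHom (f.toRingHom a) = a := fun a => congrArg (fun g : F ≃+* F => g a) h2
    have e : Nat.card (fixed f.toRingHom) = Nat.card (fixed σ) := by
      have h1 := card_eq_sq hfn hfi
      have h3 := card_eq_sq hne hi.inv2
      exact Nat.pow_left_injective (by norm_num) (h1.symm.trans h3)
    refine hd' ?_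
    rw [apply_eq_pow hne hi.inv2, ← e, ← apply_eq_pow hfn hfi]
    exact hd

/-- Semilinear coordinates of a power. -/
theorem iterate_a {φ : MulAut (Heis σ)} {f : F ≃+* F} {m : Fˣ} (hφ : ∀ x : Heis σ, (φ x).a = m * f x.a)
    (j : ℕ) : ∃ m' : Fˣ, ∀ x : Heis σ, ((φ ^ j) x).a = m' * (f ^ j) x.a := by
  induction j with
  | zero => exact ⟨1, fun x => by simp⟩
  | succ j ih =>
    obtain ⟨m', hm'⟩ := ih
    refine ⟨m * Units.map f.toRingHom.toMonoidHom m', fun x => ?_⟩
    rw [pow_succ', pow_succ']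
    show (φ ((φ ^ j) x)).a = _ * f ((f ^ j) x.a)
    rw [hφ, hm', map_mul, Units.val_mul, ← mul_assoc]
    rfl

/-- An automorphism commuting with a torus element acting as a scalar outside the fixed field, trivial on the
central quotient, is trivial. -/
theorem fixQuot_eq_one {φ : MulAut (Heis σ)} (hφ : φ ∈ Heis.fixQuot (σ := σ)) {d : Fˣ}
    (hd : (d : F) * σ d = 1) (hd' : σ (d : F) ≠ d)
    (hc : ∀ x, φ (torus σ d x) =
      torus σ d (φ x)) : φ = 1 := by
  set δ : Heis σ → F := fun x => (x⁻¹ * φ x).b with hδ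
  have hsplit : ∀ x, φ x = x * Heis.cen ⟨δ x, Heis.b_fixed (Heis.fixQuot_delta hne hφ x)⟩ := fun x => by
    rw [← Heis.eq_cen (Heis.fixQuot_delta hne hφ x), mul_inv_cancel_left]
  have hb : ∀ x, (φ x).b = x.b + δ x := fun x => by
    conv_lhs => rw [hsplit x]
    simp
  have hadd : ∀ x y, δ (x * y) = δ x + δ y := fun x y => by
    have h := hb (x * y)
    rw [map_mul, Heis.mul_b, Heis.mul_b, hφ, hφ, hb, hb] at h
    linear_combination -h
  have hcen : ∀ z : Heis σ, z.a = 0 → δ z = 0 := fun z hz => by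
    have h := hb z
    rw [Heis.fixQuot_center hne hφ hz] at h
    linear_combination -h
  have hsame : ∀ x y : Heis σ, x.a = y.a → δ x = δ y := fun x y h => by
    have h1 : (x⁻¹ * y).a = 0 := by rw [Heis.mul_a, Heis.inv_a, h, CharTwo.add_self_eq_zero]
    calc δ x = δ x + δ (x⁻¹ * y) := by rw [hcen _ h1, add_zero]
      _ = δ y := by rw [← hadd, mul_inv_cancel_left]
  choose mk hmk using Heis.exists_mk (σ := σ) hne
  have hinv : ∀ x, δ (torus σ d x) = δ x := fun x => by
    have h := hb (torus σ d x)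
    rw [hc, torus_b, torus_b, hb] at h
    simp only [hd, one_mul] at h
    linear_combination -h
  have h0 := Algebra.additive_invariant hi.inv2 hd hd' (fun a => δ (mk a))
    (fun x y => by
      show δ (mk (x + y)) = δ (mk x) + δ (mk y)
      rw [← hadd]
      exact hsame _ _ (by rw [Heis.mul_a, hmk, hmk, hmk]))
    (fun x => by
      show δ (mk ((d : F) * x)) = δ (mk x)
      rw [← hinv (mk x)]
      exact hsame _ _ (by rw [torus_a, hmk, hmk]))
  refine MulEquiv.ext fun x => Heis.ext (hφ x) ?_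
  rw [hb, hsame x (mk x.a) (hmk _).symm]
  show x.b + δ (mk x.a) = x.b
  rw [h0, add_zero]

/-- A 2-power automorphism commuting with such a torus element is trivial. -/
theorem eq_one_of_commute {φ : MulAut (Heis σ)} {k : ℕ} (hk : φ ^ (2 ^ k) = 1) {d : Fˣ}
    (hd : (d : F) * σ d = 1) (hd' : σ (d : F) ≠ d)
    (hc : ∀ x, φ (torus σ d x) =
      torus σ d (φ x)) : φ = 1 := by
  obtain ⟨f, m, hfm⟩ := Heis.exists_semilinear hne φ
  obtain ⟨y, hy⟩ := Heis.exists_mk (σ := σ) hne 1
  have hfd : f (d : F) = d := by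
    have h := congrArg Heis.a (hc y)
    rw [hfm, torus_a, torus_a, hfm, hy, mul_one,
      map_one, mul_one] at h
    exact mul_left_cancel₀ m.ne_zero (h.trans (mul_comm _ _))
  obtain ⟨m', hm'⟩ := iterate_a hne hfm (2 ^ k)
  rw [hk] at hm'
  have hfk : f ^ (2 ^ k) = 1 := by
    have hall : ∀ a, ((1 : Fˣ) : F) * (1 : F ≃+* F) a = (m' : F) * (f ^ (2 ^ k)) a := fun a => by
      obtain ⟨x, rfl⟩ := Heis.exists_mk (σ := σ) hne a
      rw [← hm' x]
      simp
    exact (Heis.semilinear_unique hne hall).2.symm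
  have hf := galois_eq_one hne hfk hfd hd'
  subst hf
  have hpow : ∀ j : ℕ, ∀ x : Heis σ, ((φ ^ j) x).a = (m : F) ^ j * x.a := by
    intro j
    induction j with
    | zero => simp
    | succ j ih =>
      intro x
      rw [pow_succ']
      show (φ ((φ ^ j) x)).a = _
      rw [hfm, RingAut.one_apply, ih, pow_succ']
      ring
  have hm : (m : F) = 1 := by
    have h := hpow (2 ^ k) y
    rw [hk, MulAut.one_apply, hy, mul_one] at h
    have h2 : ((m : F) - 1) ^ (2 ^ k) = 0 := by rw [sub_pow_char_pow, one_pow, ← h, sub_self]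
    exact sub_eq_zero.1 (eq_zero_of_pow_eq_zero h2)
  exact fixQuot_eq_one hne (fun x => by rw [hfm, hm, one_mul, RingAut.one_apply]) hd hd' hc

end Cfsg.Agent.UThreeEven.HeisAux
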