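import Cfsg.Agent.Lib.UThreeEven.Setup
import Cfsg.Agent.Lib.UThreeEven.HeisAux

/-!
The Sylow 2-subgroup of `U₀` in coordinates, its centre and its automorphisms inside the centraliser of `t`.
-/

set_option autoImplicit false
set_option linter.style.haveILetI false
set_option linter.unusedSectionVars false

namespace Cfsg.Agent.UThreeEven.Model

open Subgroup SU3Sylow
open Hermitian (fixed mem_fixed)

universe u v

variable {G : Type u} [Group G] {t : G} {E U U₀ : Subgroup G} {F : Type v} [Field F] [CharP F 2]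
  {σ : F →+* F} [SU3Sylow.Inv2 σ] {n : ℕ}

/-- The Sylow subgroup of `U₀`. -/
abbrev S₀ (M : Model t E U U₀ σ n) : Subgroup G := M.ι.range

/-- Its centre. -/
abbrev Z₀ (M : Model t E U U₀ σ n) : Subgroup G := (center (Heis σ)).map M.ι

/-- `E × Z₀`. -/
abbrev A (M : Model t E U U₀ σ n) : Subgroup G := E ⊔ M.Z₀

/-- `E × S₀`. -/
abbrev W (M : Model t E U U₀ σ n) : Subgroup G := E ⊔ M.S₀

/-- A Sylow subgroup of the centraliser. -/
abbrev Sg (M : Model t E U U₀ σ n) : Subgroup G := E ⊔ (M.S₀ ⊔ M.Φ)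

variable [Finite G] [Finite F] (hS : Setup t E U U₀) (M : Model t E U U₀ σ n)
include M

/-! ### The field -/

theorem four_le : 4 ≤ 2 ^ n := by
  calc 4 = 2 ^ 2 := rfl
    _ ≤ 2 ^ n := Nat.pow_le_pow_right (by norm_num) M.two_le

theorem card_field : Nat.card F = 2 ^ n * 2 ^ n := by
  rw [Hermitian.card_eq_sq M.ne_id (Inv2.inv2 (σ := σ)), M.card_fixed, sq]

/-! ### Membership -/

theorem mem_S₀ {g : G} : g ∈ M.S₀ ↔ ∃ x, M.ι x = g := MonoidHom.mem_range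

theorem ι_mem (x : Heis σ) : M.ι x ∈ M.S₀ := ⟨x, rfl⟩

theorem cen_mem_center (c : fixed σ) : Heis.cen c ∈ center (Heis σ) :=
  (Heis.mem_center_iff M.ne_id _).2 rfl

theorem mem_Z₀ {g : G} : g ∈ M.Z₀ ↔ ∃ c : fixed σ, M.ι (Heis.cen c) = g := by
  constructor
  · rintro ⟨x, hx, rfl⟩
    have ha := (Heis.mem_center_iff M.ne_id x).1 hx
    exact ⟨⟨x.b, Heis.b_fixed ha⟩, by rw [← Heis.eq_cen ha]⟩
  · rintro ⟨c, rfl⟩
    exact ⟨_, M.cen_mem_center c, rfl⟩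

theorem ι_mem_Z₀ {x : Heis σ} : M.ι x ∈ M.Z₀ ↔ x.a = 0 := by
  constructor
  · rintro ⟨y, hy, hyx⟩
    rw [← M.inj hyx]
    exact (Heis.mem_center_iff M.ne_id y).1 hy
  · intro h
    exact ⟨x, (Heis.mem_center_iff M.ne_id x).2 h, rfl⟩

theorem Z₀_le : M.Z₀ ≤ M.S₀ := map_le_range _ _

include hS in
theorem S₀_le_U : M.S₀ ≤ U := M.range_le.trans hS.le

include hS in
theorem S₀_le_cen : M.S₀ ≤ cen t := (M.S₀_le_U hS).trans hS.U_le

include hS in
theorem Z₀_le_cen : M.Z₀ ≤ cen t := M.Z₀_le.trans (M.S₀_le_cen hS)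

include hS in
theorem A_le_W : M.A ≤ M.W := sup_le_sup_left M.Z₀_le E

include hS in
theorem W_le_cen : M.W ≤ cen t := sup_le hS.E_le (M.S₀_le_cen hS)

include hS in
theorem A_le_cen : M.A ≤ cen t := (M.A_le_W hS).trans (M.W_le_cen hS)

theorem W_le_Sg : M.W ≤ M.Sg := sup_le_sup_left le_sup_left E

include hS in
theorem Sg_le_cen : M.Sg ≤ cen t :=
  sup_le hS.E_le (sup_le (M.S₀_le_cen hS) (M.Φ_le.trans hS.U_le))

include hS in
theorem E_S₀_comm {e x : G} (he : e ∈ E) (hx : x ∈ M.S₀) : e * x = x * e :=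
  hS.EU_comm he (M.S₀_le_U hS hx)

include hS in
theorem E_le_normalizer : E ≤ normalizer (M.S₀ : Set G) := fun e he =>
  mem_normalizer_fintype fun x hx => by
    rw [M.E_S₀_comm hS he hx, mul_inv_cancel_right]; exact hx

include hS in
theorem Sg_le_normalizer : M.Sg ≤ normalizer (M.S₀ : Set G) :=
  sup_le (M.E_le_normalizer hS) (sup_le le_normalizer M.Φ_S)

/-! ### Orders -/

theorem card_S₀ : Nat.card M.S₀ = (2 ^ n) ^ 3 := by
  rw [← Heis.card_eq M.ne_id M.card_fixed]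
  exact (Nat.card_congr (MonoidHom.ofInjective M.inj).toEquiv).symm

theorem card_Z₀ : Nat.card M.Z₀ = 2 ^ n := by
  rw [← Heis.card_center M.ne_id M.card_fixed]
  exact (Nat.card_congr (equivMapOfInjective _ M.ι M.inj).toEquiv).symm

include hS in
theorem inf_E_S₀ : E ⊓ M.S₀ = ⊥ :=
  le_bot_iff.1 ((inf_le_inf_left E (M.S₀_le_U hS)).trans hS.dir.2.2.2.1.le)

include hS in
theorem card_W : Nat.card M.W = Nat.card E * (2 ^ n) ^ 3 := by
  rw [card_sup_comm (fun a ha b hb => M.E_S₀_comm hS ha hb) (M.inf_E_S₀ hS), M.card_S₀]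

include hS in
theorem card_A : Nat.card M.A = Nat.card E * 2 ^ n := by
  rw [card_sup_comm (fun a ha b hb => M.E_S₀_comm hS ha (M.Z₀_le hb))
    (le_bot_iff.1 ((inf_le_inf_left E M.Z₀_le).trans (M.inf_E_S₀ hS).le)), M.card_Z₀]

include hS in
theorem mem_A {g : G} : g ∈ M.A ↔ ∃ e ∈ E, ∃ c : fixed σ, g = e * M.ι (Heis.cen c) := by
  constructor
  · intro hg
    obtain ⟨e, he, z, hz, rfl⟩ := mem_sup_comm (fun a ha b hb => M.E_S₀_comm hS ha (M.Z₀_le hb)) hg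
    obtain ⟨c, rfl⟩ := M.mem_Z₀.1 hz
    exact ⟨e, he, c, rfl⟩
  · rintro ⟨e, he, c, rfl⟩
    exact mul_mem_sup he (M.mem_Z₀.2 ⟨c, rfl⟩)

include hS in
theorem mem_W {g : G} : g ∈ M.W ↔ ∃ e ∈ E, ∃ x, g = e * M.ι x := by
  constructor
  · intro hg
    obtain ⟨e, he, z, hz, rfl⟩ := mem_sup_comm (fun a ha b hb => M.E_S₀_comm hS ha hb) hg
    obtain ⟨x, rfl⟩ := M.mem_S₀.1 hz
    exact ⟨e, he, x, rfl⟩
  · rintro ⟨e, he, x, rfl⟩
    exact mul_mem_sup he (M.ι_mem x)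

include hS in
theorem mul_self_eq {e : G} (he : e ∈ E) (x : Heis σ) : e * M.ι x * (e * M.ι x) = M.ι (x * x) := by
  rw [map_mul, ← mul_assoc, mul_assoc e (M.ι x) e, ← M.E_S₀_comm hS he (M.ι_mem x), ← mul_assoc,
    hS.E_mul_self he, one_mul]

include hS in
theorem A_ea : Cfsg.IsElementaryAbelian 2 M.A := by
  refine ⟨⟨⟨fun a b => Subtype.ext ?_⟩⟩, fun a ha => ?_⟩
  · obtain ⟨e, he, c, ha⟩ := (M.mem_A hS).1 a.2
    obtain ⟨e', he', c', hb⟩ := (M.mem_A hS).1 b.2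
    show (a : G) * b = b * a
    rw [ha, hb]
    calc e * M.ι (Heis.cen c) * (e' * M.ι (Heis.cen c'))
        = e * e' * (M.ι (Heis.cen c) * M.ι (Heis.cen c')) := by
          rw [mul_assoc, ← mul_assoc (M.ι _) e', ← M.E_S₀_comm hS he' (M.ι_mem _), mul_assoc e', ← mul_assoc e]
      _ = e' * e * (M.ι (Heis.cen c') * M.ι (Heis.cen c)) := by
          rw [hS.E_comm he he', ← map_mul, ← map_mul, HeisAux.comm_cen]
      _ = _ := by
          rw [mul_assoc e', ← mul_assoc e, M.E_S₀_comm hS he (M.ι_mem _), mul_assoc, ← mul_assoc e']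
  · obtain ⟨e, he, c, rfl⟩ := (M.mem_A hS).1 ha
    rw [sq, M.mul_self_eq hS he, (Heis.mul_self_eq_one_iff _).2 rfl, map_one]

include hS in
theorem A_two : IsPGroup 2 M.A := fun a => ⟨1, Subtype.ext (by simpa using (M.A_ea hS).2 a a.2)⟩

theorem Sg_two : IsPGroup 2 M.Sg := M.Φ_two

theorem W_two : IsPGroup 2 M.W := M.Sg_two.to_le M.W_le_Sg

theorem S₀_two : IsPGroup 2 M.S₀ := M.Sg_two.to_le (le_sup_left.trans le_sup_right)

include hS in
theorem Sg_inf_U₀ : M.Sg ⊓ U₀ = M.S₀ :=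
  le_antisymm (M.sylow₀ _ (M.Sg_two.to_le inf_le_left) inf_le_right
    (le_inf (le_sup_left.trans le_sup_right) M.range_le)) (le_inf (le_sup_left.trans le_sup_right) M.range_le)

/-! ### Automorphisms -/

theorem exists_auto {g : G} (hg : g ∈ normalizer (M.S₀ : Set G)) :
    ∃ φ : MulAut (Heis σ), ∀ x, g * M.ι x * g⁻¹ = M.ι (φ x) := by
  have hm : ∀ x, ∃ y, M.ι y = g * M.ι x * g⁻¹ := fun x =>
    M.mem_S₀.1 ((mem_normalizer_iff.1 hg _).1 (M.ι_mem x))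
  choose f hf using hm
  refine ⟨MulEquiv.ofBijective (MonoidHom.mk' f fun a b => M.inj (by
    rw [map_mul, hf, hf, hf, map_mul]; group)) ?_, fun x => (hf x).symm⟩
  refine Finite.injective_iff_bijective.1 fun a b h => M.inj ?_
  have h1 : M.ι (f a) = M.ι (f b) := congrArg M.ι h
  rw [hf, hf] at h1
  exact mul_left_cancel (mul_right_cancel h1)

theorem auto_pow {g : G} {φ : MulAut (Heis σ)} (h : ∀ x, g * M.ι x * g⁻¹ = M.ι (φ x)) (k : ℕ) (x : Heis σ) :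
    g ^ k * M.ι x * (g ^ k)⁻¹ = M.ι ((φ ^ k) x) := by
  induction k with
  | zero => simp
  | succ k ih =>
    rw [pow_succ' φ, MulAut.mul_apply, ← h, ← ih, pow_succ']
    group

/-- A 2-element normalising `S₀` and centralising `D` centralises `S₀`. -/
theorem key {g : G} (hg : g ∈ normalizer (M.S₀ : Set G)) (h2 : IsPGroup 2 (zpowers g))
    (hd : ∀ d ∈ M.D, g * d = d * g) : g ∈ centralizer (M.S₀ : Set G) := by
  obtain ⟨φ, hφ⟩ := M.exists_auto hg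
  obtain ⟨d, hdD, m, hm, hm', hdm⟩ := M.D_moved
  obtain ⟨k, hk⟩ := exists_pow_eq_one h2
  have hone : φ ^ (2 ^ k) = 1 := MulEquiv.ext fun x => M.inj (by
    rw [← M.auto_pow hφ, hk]; simp)
  have hφ1 : φ = 1 := HeisAux.eq_one_of_commute M.ne_id hone hm hm' fun x => M.inj (by
    rw [← hφ, ← hdm, ← hdm, ← hφ]
    calc g * (d * M.ι x * d⁻¹) * g⁻¹ = g * d * M.ι x * (g * d)⁻¹ := by group
      _ = d * g * M.ι x * (d * g)⁻¹ := by rw [hd d hdD]
      _ = _ := by group)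
  refine mem_centralizer_iff.2 fun x hx => ?_
  obtain ⟨y, rfl⟩ := M.mem_S₀.1 hx
  have h := hφ y
  rw [hφ1, MulAut.one_apply] at h
  exact (mul_inv_eq_iff_eq_mul.1 h).symm

theorem conj_mem_Z₀ {g x : G} (hg : g ∈ normalizer (M.S₀ : Set G)) (hx : x ∈ M.Z₀) :
    g * x * g⁻¹ ∈ M.Z₀ := by
  obtain ⟨φ, hφ⟩ := M.exists_auto hg
  obtain ⟨y, hy, rfl⟩ := hx
  rw [hφ]
  refine ⟨φ y, mem_center_iff.2 fun z => ?_, rfl⟩
  obtain ⟨w, rfl⟩ := φ.surjective z
  rw [← map_mul, ← map_mul, mem_center_iff.1 hy w]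

theorem normalizer_le_Z₀ : normalizer (M.S₀ : Set G) ≤ normalizer (M.Z₀ : Set G) := fun _ hg =>
  mem_normalizer_fintype fun _ hx => M.conj_mem_Z₀ hg hx

/-! ### The tori -/

theorem D_le_normalizer : M.D ≤ normalizer (M.S₀ : Set G) := fun d hd =>
  mem_normalizer_fintype fun x hx => by
    obtain ⟨y, rfl⟩ := M.mem_S₀.1 hx
    obtain ⟨m, -, h⟩ := M.D_act d hd
    rw [h]; exact M.ι_mem _

theorem D_comm_Z₀ {d z : G} (hd : d ∈ M.D) (hz : z ∈ M.Z₀) : d * z = z * d := by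
  obtain ⟨c, rfl⟩ := M.mem_Z₀.1 hz
  obtain ⟨m, hm, h⟩ := M.D_act d hd
  have h1 := h (Heis.cen c)
  have e : torus σ m (Heis.cen c) = Heis.cen c := Heis.ext (by simp) (by simp [hm])
  rw [e] at h1
  exact mul_inv_eq_iff_eq_mul.1 h1

/-- The fixed points of `D` in `S₀`. -/
theorem mem_Z₀_of_commute {x : G} (hx : x ∈ M.S₀) (h : ∀ d ∈ M.D, d * x = x * d) : x ∈ M.Z₀ := by
  obtain ⟨y, rfl⟩ := M.mem_S₀.1 hx
  rw [M.ι_mem_Z₀]
  obtain ⟨d, hdD, m, hm, hm', hdm⟩ := M.D_moved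
  have h1 := hdm y
  rw [h d hdD, mul_inv_cancel_right] at h1
  have h2 := congrArg Heis.a (M.inj h1)
  rw [torus_a] at h2
  by_contra hy
  refine hm' ?_
  have : (m : F) = 1 := mul_right_cancel₀ hy (by rw [one_mul]; exact h2.symm)
  rw [this, map_one]

theorem H_le_normalizer : M.H ≤ normalizer (M.S₀ : Set G) := fun d hd =>
  mem_normalizer_fintype fun x hx => by
    obtain ⟨y, rfl⟩ := M.mem_S₀.1 hx
    obtain ⟨m, -, h⟩ := M.H_act d hd
    rw [h]; exact M.ι_mem _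

theorem H_comm_D {h d : G} (hh : h ∈ M.H) (hd : d ∈ M.D) : h * d = d * h := M.J_comm h (M.H_le hh) d hd

include hS in
theorem H_le_cen : M.H ≤ cen t := M.H_le.trans (M.J_le.trans (hS.le.trans hS.U_le))

include hS in
theorem J_le_cen : M.J ≤ cen t := M.J_le.trans (hS.le.trans hS.U_le)

include hS in
theorem D_le_cen : M.D ≤ cen t := M.D_le.trans hS.U_le

/-- The split torus is transitive on the involutions of `Z₀`. -/
theorem H_trans {c c' : fixed σ} (hc : c ≠ 0) (hc' : c' ≠ 0) :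
    ∃ h ∈ M.H, h * M.ι (Heis.cen c) * h⁻¹ = M.ι (Heis.cen c') := by
  have hc0 : (c : F) ≠ 0 := fun h => hc (Subtype.ext h)
  have hr : σ ((c' : F) / c) = (c' : F) / c := by rw [map_div₀, mem_fixed.1 c.2, mem_fixed.1 c'.2]
  obtain ⟨a, ha, haa⟩ := Algebra.exists_sq _ hr
  have ha0 : a ≠ 0 := fun h => hc' (Subtype.ext (by
    rw [h, zero_mul, eq_comm, div_eq_zero_iff] at haa
    exact haa.resolve_right hc0))
  obtain ⟨h, hh, hact⟩ := M.H_surj (Units.mk0 a ha0) ha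
  refine ⟨h, hh, ?_⟩
  rw [hact]
  congr 1
  refine Heis.ext (by simp) ?_
  simp only [torus_b, Units.val_mk0, Heis.cen_b, ha, haa]
  field_simp

/-! ### Elements acting trivially on `S₀/Z₀` -/

include hS in
theorem mem_of_trivial {c : G} (hc : c ∈ cen t) (hn : c ∈ normalizer (M.S₀ : Set G)) {φ : MulAut (Heis σ)}
    (hφ : ∀ x, c * M.ι x * c⁻¹ = M.ι (φ x)) (ha : ∀ x, (φ x).a = x.a) :
    c ∈ M.W ⊔ (U ⊓ centralizer (U₀ : Set G)) := by
  obtain ⟨θ, hθ, m, s, hact⟩ := M.act c hc hn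
  have hsemi : ∀ a : F, (m : F) * θ a = ((1 : Fˣ) : F) * (RingEquiv.refl F) a := fun a => by
    obtain ⟨x, rfl⟩ := Heis.exists_mk (σ := σ) M.ne_id a
    have e : φ x = s * Heis.scale θ hθ m x * s⁻¹ := M.inj (by rw [← hφ, hact])
    have e1 := congrArg Heis.a e
    rw [HeisAux.conj_a, Heis.scale_a, ha] at e1
    rw [← e1]; simp
  obtain ⟨hm, hθ1⟩ := Heis.semilinear_unique M.ne_id hsemi
  subst hm hθ1
  have hsc : ∀ x, Heis.scale (RingEquiv.refl F) hθ 1 x = x := fun x => Heis.ext (by simp) (by simp)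
  have hmem : (M.ι s)⁻¹ * c ∈ cen t ⊓ centralizer (M.S₀ : Set G) := by
    refine mem_inf.2 ⟨mul_mem (inv_mem (M.S₀_le_cen hS (M.ι_mem s))) hc, mem_centralizer_iff.2 fun x hx => ?_⟩
    obtain ⟨y, rfl⟩ := M.mem_S₀.1 hx
    have h := hact y
    rw [hsc, map_mul, map_mul, map_inv] at h
    symm
    calc (M.ι s)⁻¹ * c * M.ι y = (M.ι s)⁻¹ * (c * M.ι y * c⁻¹) * c := by group
      _ = M.ι y * ((M.ι s)⁻¹ * c) := by rw [h]; group
  rw [M.cen_S] at hmem
  have hle : E ⊔ (M.Z₀ ⊔ (U ⊓ centralizer (U₀ : Set G))) ≤ M.W ⊔ (U ⊓ centralizer (U₀ : Set G)) :=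
    sup_le (le_sup_left.trans le_sup_left)
      (sup_le ((M.Z₀_le.trans le_sup_right).trans le_sup_left) le_sup_right)
  have := mul_mem (mem_sup_left (T := U ⊓ centralizer (U₀ : Set G)) (mem_sup_right (S := E) (M.ι_mem s)))
    (hle hmem)
  rwa [mul_inv_cancel_left] at this

include hS in
theorem W_comm_Z {w z : G} (hw : w ∈ M.W) (hz : z ∈ U ⊓ centralizer (U₀ : Set G)) : w * z = z * w := by
  obtain ⟨e, he, x, rfl⟩ := (M.mem_W hS).1 hw
  rw [mul_assoc, mem_centralizer_iff.1 (mem_inf.1 hz).2 _ (M.range_le (M.ι_mem x)), ← mul_assoc,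
    hS.EU_comm he (mem_inf.1 hz).1, mul_assoc]

include hS in
theorem mem_W_of_two {c : G} (hc : c ∈ M.W ⊔ (U ⊓ centralizer (U₀ : Set G)))
    (h2 : IsPGroup 2 (zpowers c)) : c ∈ M.W := by
  obtain ⟨w, hw, z, hz, rfl⟩ := mem_sup_comm (fun a ha b hb => M.W_comm_Z hS ha hb) hc
  obtain ⟨k, hk⟩ := exists_pow_eq_one h2
  obtain ⟨j, hj⟩ := (M.W_two).to_le le_rfl ⟨w, hw⟩
  have hj' : w ^ (2 ^ j) = 1 := congrArg Subtype.val hj
  have hcm : Commute w z := M.W_comm_Z hS hw hz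
  have hw' : w ^ (2 ^ (k + j)) = 1 := by rw [pow_add, mul_comm, pow_mul, hj', one_pow]
  have hwz : (w * z) ^ (2 ^ (k + j)) = 1 := by rw [pow_add, pow_mul, hk, one_pow]
  rw [hcm.mul_pow, hw', one_mul] at hwz
  rw [eq_one_of_odd M.odd_Z hz hwz, mul_one]
  exact hw

include hS in
/-- A 2-element of the centraliser acting trivially on `S₀/Z₀` lies in `W`. -/
theorem mem_W_of_trivial {c : G} (hc : c ∈ cen t) (hn : c ∈ normalizer (M.S₀ : Set G))
    {φ : MulAut (Heis σ)} (hφ : ∀ x, c * M.ι x * c⁻¹ = M.ι (φ x)) (ha : ∀ x, (φ x).a = x.a)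
    (h2 : IsPGroup 2 (zpowers c)) : c ∈ M.W :=
  M.mem_W_of_two hS (M.mem_of_trivial hS hc hn hφ ha) h2

include hS in
theorem mem_A_of_centralizer {c : G} (hc : c ∈ cen t) (hcen : c ∈ centralizer (M.S₀ : Set G))
    (h2 : IsPGroup 2 (zpowers c)) : c ∈ M.A := by
  have hm : c ∈ cen t ⊓ centralizer (M.S₀ : Set G) := mem_inf.2 ⟨hc, hcen⟩
  rw [M.cen_S, ← sup_assoc] at hm
  obtain ⟨a, ha, z, hz, rfl⟩ := mem_sup_comm
    (fun a ha b hb => M.W_comm_Z hS (M.A_le_W hS ha) hb) hm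
  have hw := M.mem_W_of_two hS (mul_mem_sup (M.A_le_W hS ha) hz) h2
  obtain ⟨k, hk⟩ := exists_pow_eq_one h2
  obtain ⟨j, hj⟩ := M.W_two ⟨a * z, hw⟩
  have hzW : z ∈ M.W := by
    have := mul_mem (inv_mem (M.A_le_W hS ha)) hw
    rwa [inv_mul_cancel_left] at this
  obtain ⟨i, hi⟩ := M.W_two ⟨z, hzW⟩
  rw [eq_one_of_odd M.odd_Z hz (congrArg Subtype.val hi), mul_one]
  exact ha

include hS in
theorem W_eq_trivial {c : G} (hc : c ∈ M.W) {φ : MulAut (Heis σ)} (hφ : ∀ x, c * M.ι x * c⁻¹ = M.ι (φ x))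
    (x : Heis σ) : (φ x).a = x.a := by
  obtain ⟨e, he, s, rfl⟩ := (M.mem_W hS).1 hc
  have h : φ x = s * x * s⁻¹ := M.inj (by
    rw [← hφ, map_mul, map_mul, map_inv, mul_inv_rev]
    calc e * M.ι s * M.ι x * ((M.ι s)⁻¹ * e⁻¹) = e * (M.ι s * M.ι x * (M.ι s)⁻¹) * e⁻¹ := by group
      _ = _ := by
        rw [M.E_S₀_comm hS he (mul_mem (mul_mem (M.ι_mem s) (M.ι_mem x)) (inv_mem (M.ι_mem s))),
          mul_inv_cancel_right])
  rw [h, HeisAux.conj_a]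

end Cfsg.Agent.UThreeEven.Model
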