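import Cfsg.Agent.Lib.UThreeEven.NormW
import Cfsg.Prelude.Def_TwoFusion

/-!
If the Sylow subgroup of the centraliser is one of the whole group then `E` is strongly closed in it
(section A of `tools/scope/S3151_helper4.md`).
-/

set_option autoImplicit false
set_option linter.style.haveILetI false
set_option linter.unusedSectionVars false

namespace Cfsg.Agent.UThreeEven.Model

open Subgroup SU3Sylow
open Hermitian (fixed mem_fixed)
open scoped Pointwise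

universe u v

variable {G : Type u} [Group G] {t : G} {E U U₀ : Subgroup G} {F : Type v} [Field F] [CharP F 2]
  {σ : F →+* F} [SU3Sylow.Inv2 σ] {n : ℕ}
variable [Finite G] [Finite F] (hS : Setup t E U U₀) (M : Model t E U U₀ σ n)
include M

include hS in
theorem cen_of_sq {τ : G} (hτ : τ ∈ M.Stab hS) : τ * τ ∈ cen t := by
  obtain ⟨-, hZ, hE⟩ := (mem_Stab hS).1 hτ
  obtain ⟨z, hz, h⟩ := hE t (hS.t_mem M.odd_Z)
  have hzz : z * z = 1 := by
    obtain ⟨c, rfl⟩ := M.mem_Z₀.1 hz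
    rw [← map_mul, (Heis.mul_self_eq_one_iff _).2 rfl, map_one]
  refine mem_centralizer_singleton_iff.2 (mul_inv_eq_iff_eq_mul.1 ?_)
  rw [show τ * τ * t * (τ * τ)⁻¹ = τ * (τ * t * τ⁻¹) * τ⁻¹ by group, h,
    show τ * (t * z) * τ⁻¹ = τ * t * τ⁻¹ * (τ * z * τ⁻¹) by group, h, hZ z hz, mul_assoc, hzz, mul_one]

include hS in
/-- Translations can be taken to be 2-elements. -/
theorem exists_two_translation {τ : G} (hτ : τ ∈ M.Stab hS) (hτC : τ ∉ cen t) :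
    ∃ τ' ∈ M.Stab hS, τ' ∉ cen t ∧ IsPGroup 2 (zpowers τ') := by
  obtain ⟨v, k, hk, hvk⟩ := Nat.exists_eq_two_pow_mul_odd (orderOf_pos τ).ne'
  refine ⟨τ ^ k, pow_mem hτ k, fun h => hτC ?_, isPGroup_of_pow (k := v) ?_⟩
  · obtain ⟨j, rfl⟩ := hk
    rw [pow_succ, pow_mul, sq] at h
    have := mul_mem (inv_mem (pow_mem (M.cen_of_sq hS hτ) j)) h
    rwa [inv_mul_cancel_left] at this
  · rw [← pow_mul, mul_comm, ← hvk, pow_orderOf_eq_one]

include hS in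
/-- If the Sylow subgroup of the centraliser is one of `G`, the normaliser of `W` fixes `E`. -/
theorem normalizer_W_le_E (hSyl : ∀ P : Subgroup G, IsPGroup 2 P → M.Sg ≤ P → P ≤ M.Sg) :
    normalizer (M.W : Set G) ≤ normalizer (E : Set G) := by
  haveI : Fact (Nat.Prime 2) := ⟨Nat.prime_two⟩
  intro g hg
  by_contra hgE
  obtain ⟨τ₀, hτ₀, hτ₀C⟩ := exists_translation hS hg hgE
  obtain ⟨τ, hτ, hτC, h2⟩ := M.exists_two_translation hS hτ₀ hτ₀C
  obtain ⟨P, hP⟩ := M.Sg_two.exists_le_sylow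
  have hPeq : (P : Subgroup G) = M.Sg := le_antisymm (hSyl _ P.isPGroup' hP) hP
  set L := normalizer (M.W : Set G) with hL
  have hW : M.S₀ ⊔ M.Φ ≤ normalizer (M.S₀ : Set G) := sup_le le_normalizer M.Φ_S
  have hSgL : M.Sg ≤ L := fun c hc => mem_normalizer_fintype fun x hx => by
    obtain ⟨e, he, s, hs, rfl⟩ := mem_sup_comm (fun p hp q hq => M.E_S₀_comm hS hp hq) hx
    rw [show c * (e * s) * c⁻¹ = c * e * c⁻¹ * (c * s * c⁻¹) by group,
      ← hS.E_central he (M.Sg_le_cen hS hc), mul_inv_cancel_right]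
    exact mul_mem_sup he ((mem_normalizer_iff.1 (M.Sg_le_normalizer hS hc) _).1 hs)
  have hPL : (P : Subgroup G) ≤ L := hPeq ▸ hSgL
  have hτL : τ ∈ L := ((mem_Stab hS).1 hτ).1
  obtain ⟨Q, hQ⟩ := (h2.comap_of_injective L.subtype L.subtype_injective).exists_le_sylow (p := 2)
  obtain ⟨l, hl⟩ := MulAction.exists_smul_eq L Q (P.subtype hPL)
  have hmem : (l : G) * τ * (l : G)⁻¹ ∈ M.Sg := by
    rw [← hPeq]
    have hτQ : (⟨τ, hτL⟩ : L) ∈ (Q : Subgroup L) := hQ (mem_zpowers τ)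
    have h := Subgroup.smul_mem_pointwise_smul _ (MulAut.conj l) _ hτQ
    have e : ((l • Q : Sylow 2 L) : Subgroup L) = MulAut.conj l • (Q : Subgroup L) := rfl
    rw [← e, hl] at h
    exact mem_subgroupOf.1 h
  refine hτC (mem_centralizer_singleton_iff.2 ?_)
  have hlA := M.normalizer_W_le_A hS l.2
  obtain ⟨e, he, z, hz, hez⟩ := mem_sup_comm (fun p hp q hq => M.E_S₀_comm hS hp (M.Z₀_le hq))
    ((mem_normalizer_iff.1 hlA t).1 (mem_sup_left (hS.t_mem M.odd_Z)))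
  have ht : t = (l : G)⁻¹ * e * l * ((l : G)⁻¹ * z * l) := by
    rw [show (l : G)⁻¹ * e * l * ((l : G)⁻¹ * z * l) = (l : G)⁻¹ * (e * z) * l by group, ← hez]
    group
  have hz' : (l : G)⁻¹ * z * l ∈ M.Z₀ := by
    refine (mem_normalizer_iff.1 (M.normalizer_W_le_Z₀ hS l.2) _).2 ?_
    rwa [show (l : G) * ((l : G)⁻¹ * z * l) * (l : G)⁻¹ = z by group]
  have h1 : τ * ((l : G)⁻¹ * e * l) * τ⁻¹ = (l : G)⁻¹ * e * l := by
    calc τ * ((l : G)⁻¹ * e * l) * τ⁻¹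
        = (l : G)⁻¹ * ((l * τ * (l : G)⁻¹) * e * (l * τ * (l : G)⁻¹)⁻¹) * l := by group
      _ = _ := by rw [← hS.E_central he (M.Sg_le_cen hS hmem), mul_inv_cancel_right]
  refine mul_inv_eq_iff_eq_mul.1 ?_
  calc τ * t * τ⁻¹ = τ * ((l : G)⁻¹ * e * l) * τ⁻¹ * (τ * ((l : G)⁻¹ * z * l) * τ⁻¹) := by
        rw [ht]; group
    _ = t := by rw [h1, ((mem_Stab hS).1 hτ).2.1 _ hz', ← ht]

include hS in
/-- A conjugate in `A` of an element of `E` lies in `E`. -/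
theorem conj_mem_E_of_A (hSyl : ∀ P : Subgroup G, IsPGroup 2 P → M.Sg ≤ P → P ≤ M.Sg) {e g : G}
    (he : e ∈ E) (he1 : e ≠ 1) (hy : g * e * g⁻¹ ∈ M.A) : g * e * g⁻¹ ∈ E := by
  haveI : Fact (Nat.Prime 2) := ⟨Nat.prime_two⟩
  -- pull `W` back into the centraliser of `e` and into its Sylow subgroup
  have hW' : ∀ w ∈ M.W, g⁻¹ * w * g ∈ cen t := fun w hw => by
    rw [← hS.cen_eq he he1, mem_centralizer_singleton_iff]
    have h := M.A_comm_W hS hy hw
    calc g⁻¹ * w * g * e = g⁻¹ * (w * (g * e * g⁻¹)) * g := by group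
      _ = g⁻¹ * (g * e * g⁻¹ * w) * g := by rw [h]
      _ = _ := by group
  set W' : Subgroup G := M.W.map (MulAut.conj g⁻¹).toMonoidHom with hW'def
  have hW'C : W' ≤ cen t := by
    rintro x ⟨w, hw, rfl⟩
    simpa using hW' w hw
  obtain ⟨Q, hQ⟩ := ((M.W_two.map (MulAut.conj g⁻¹).toMonoidHom).comap_of_injective (cen t).subtype
    (cen t).subtype_injective).exists_le_sylow (p := 2)
  have hmax : ∀ {R : Subgroup ↥(cen t)}, IsPGroup 2 R → M.Sg.subgroupOf (cen t) ≤ R →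
      R = M.Sg.subgroupOf (cen t) := fun {R} hR hle => by
    refine le_antisymm (fun x hx => ?_) hle
    exact M.Φ_sylow (R.map (cen t).subtype) (hR.map _) (map_subtype_le _)
      (fun c hc => ⟨⟨c, M.Sg_le_cen hS hc⟩, hle (show (⟨c, _⟩ : cen t) ∈ M.Sg.subgroupOf (cen t) from
        mem_subgroupOf.2 hc), rfl⟩) ⟨x, hx, rfl⟩
  let P : Sylow 2 ↥(cen t) :=
    ⟨M.Sg.subgroupOf (cen t), M.Sg_two.comap_of_injective _ (cen t).subtype_injective, hmax⟩
  obtain ⟨c, hc⟩ := MulAction.exists_smul_eq (cen t) Q P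
  have hk : (c : G) * g⁻¹ ∈ normalizer (M.W : Set G) := by
    refine M.W_weakly_closed hS fun w hw => ?_
    have hwQ : (⟨g⁻¹ * w * g, hW' w hw⟩ : cen t) ∈ (Q : Subgroup ↥(cen t)) :=
      hQ ⟨w, hw, by simp⟩
    have h := Subgroup.smul_mem_pointwise_smul _ (MulAut.conj c) _ hwQ
    have e' : ((c • Q : Sylow 2 ↥(cen t)) : Subgroup ↥(cen t)) = MulAut.conj c • (Q : Subgroup ↥(cen t)) := rfl
    rw [← e', hc] at h
    have := mem_subgroupOf.1 h
    rw [show (c : G) * g⁻¹ * w * ((c : G) * g⁻¹)⁻¹ = c * (g⁻¹ * w * g) * (c : G)⁻¹ by group]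
    exact this
  have hkE := M.normalizer_W_le_E hS hSyl hk
  refine (mem_normalizer_iff.1 hkE _).2 ?_
  rw [show (c : G) * g⁻¹ * (g * e * g⁻¹) * ((c : G) * g⁻¹)⁻¹ = c * e * (c : G)⁻¹ by group,
    ← hS.E_central he c.2, mul_inv_cancel_right]
  exact he

include hS in
theorem card_sup_outer {c : G} {m : Fˣ} (hm : M.Outer c m) (hc : c ∈ cen t) (h2 : c * c = 1) :
    Nat.card ↥(M.A ⊔ zpowers c) = Nat.card M.A * 2 := by
  have hcW := Outer.notMem hS M hm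
  have hc1 : c ≠ 1 := fun h => hcW (h ▸ one_mem _)
  have ho : orderOf c = 2 := orderOf_eq_prime (by rw [sq, h2]) hc1
  have hcom : ∀ a ∈ M.A, ∀ b ∈ zpowers c, a * b = b * a := fun a ha b hb => by
    obtain ⟨j, rfl⟩ := mem_zpowers_iff.1 hb
    exact (Commute.zpow_right (Outer.comm_A hS M hm hc ha).symm j).eq
  rw [card_sup_comm hcom, Nat.card_zpowers, ho]
  refine le_bot_iff.1 fun x hx => ?_
  obtain ⟨j, hj⟩ := mem_zpowers_iff.1 (mem_inf.1 hx).2
  rcases Int.even_or_odd j with ⟨i, rfl⟩ | ⟨i, rfl⟩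
  · rw [← hj, ← two_mul, zpow_mul, zpow_two, h2, one_zpow]
    exact one_mem _
  · rw [zpow_add, zpow_mul, zpow_two, h2, one_zpow, one_mul, zpow_one] at hj
    exact absurd (hj ▸ M.A_le_W hS (mem_inf.1 hx).1) hcW

include hS in
theorem ea_sup_outer {c : G} {m : Fˣ} (hm : M.Outer c m) (hc : c ∈ cen t) (h2 : c * c = 1) :
    ∀ p ∈ M.A ⊔ zpowers c, (∃ a ∈ M.A, p = a ∨ p = a * c) := by
  intro p hp
  have hcom : ∀ a ∈ M.A, ∀ b ∈ zpowers c, a * b = b * a := fun a ha b hb => by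
    obtain ⟨j, rfl⟩ := mem_zpowers_iff.1 hb
    exact (Commute.zpow_right (Outer.comm_A hS M hm hc ha).symm j).eq
  obtain ⟨a, ha, b, hb, rfl⟩ := mem_sup_comm hcom hp
  refine ⟨a, ha, ?_⟩
  obtain ⟨j, rfl⟩ := mem_zpowers_iff.1 hb
  rcases Int.even_or_odd j with ⟨i, rfl⟩ | ⟨i, rfl⟩
  · left; rw [← two_mul, zpow_mul, zpow_two, h2, one_zpow, mul_one]
  · right; rw [zpow_add, zpow_mul, zpow_two, h2, one_zpow, one_mul, zpow_one]

include hS in
/-- The involutions of `E` are not conjugate to outer involutions. -/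
theorem conj_mem_W (hSyl : ∀ P : Subgroup G, IsPGroup 2 P → M.Sg ≤ P → P ≤ M.Sg) {e g : G}
    (he : e ∈ E) (he1 : e ≠ 1) (hy : g * e * g⁻¹ ∈ M.Sg) : g * e * g⁻¹ ∈ M.W := by
  classical
  haveI : Fact (Nat.Prime 2) := ⟨Nat.prime_two⟩
  set y := g * e * g⁻¹ with hydef
  by_contra hyW
  have hy2 : y * y = 1 := by
    rw [hydef, show g * e * g⁻¹ * (g * e * g⁻¹) = g * (e * e) * g⁻¹ by group, hS.E_mul_self he, mul_one,
      mul_inv_cancel]
  obtain ⟨m, hm⟩ := M.outer_invol hS hy hyW hy2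
  have hyC := M.Sg_le_cen hS hy
  have hAy : ∀ a ∈ M.A, y * a = a * y := fun a ha => Outer.comm_A hS M hm hyC ha
  set P := M.A ⊔ zpowers y with hPdef
  have hPS : P ≤ M.Sg := sup_le ((M.A_le_W hS).trans M.W_le_Sg) (zpowers_le.2 hy)
  have hPy : ∀ p ∈ P, p * y = y * p := fun p hp => by
    obtain ⟨a, ha, rfl | rfl⟩ := M.ea_sup_outer hS hm hyC hy2 p hp
    · exact (hAy _ ha).symm
    · rw [mul_assoc, hy2, ← mul_assoc, hAy _ ha, mul_assoc, hy2]
  have hPea : Cfsg.IsElementaryAbelian 2 P := by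
    refine ⟨⟨⟨fun p q => Subtype.ext ?_⟩⟩, fun p hp => ?_⟩
    · obtain ⟨a, ha, hp | hp⟩ := M.ea_sup_outer hS hm hyC hy2 _ p.2 <;>
        obtain ⟨b, hb, hq | hq⟩ := M.ea_sup_outer hS hm hyC hy2 _ q.2 <;>
        show (p : G) * q = q * p <;> rw [hp, hq]
      · exact M.A_comm_W hS ha (M.A_le_W hS hb)
      · rw [← mul_assoc, M.A_comm_W hS ha (M.A_le_W hS hb), mul_assoc, ← hAy a ha, ← mul_assoc]
      · rw [mul_assoc, hAy b hb, ← mul_assoc, M.A_comm_W hS ha (M.A_le_W hS hb), mul_assoc]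
      · rw [mul_assoc a, ← mul_assoc y, hAy b hb, mul_assoc b, hy2, mul_one, mul_assoc b, ← mul_assoc y,
          hAy a ha, mul_assoc a, hy2, mul_one]
        exact M.A_comm_W hS ha (M.A_le_W hS hb)
    · obtain ⟨a, ha, rfl | rfl⟩ := M.ea_sup_outer hS hm hyC hy2 p hp
      · exact (M.A_ea hS).2 _ ha
      · rw [sq, mul_assoc, ← mul_assoc y, hAy a ha, mul_assoc a y y, hy2, mul_one, ← sq, (M.A_ea hS).2 a ha]
  -- move `P` back
  have hPC : ∀ p ∈ P, g⁻¹ * p * g ∈ cen t := fun p hp => by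
    rw [← hS.cen_eq he he1, mem_centralizer_singleton_iff]
    calc g⁻¹ * p * g * e = g⁻¹ * (p * y) * g := by rw [hydef]; group
      _ = g⁻¹ * (y * p) * g := by rw [hPy p hp]
      _ = _ := by rw [hydef]; group
  obtain ⟨Q, hQ⟩ := (((M.Sg_two.to_le hPS).map (MulAut.conj g⁻¹).toMonoidHom).comap_of_injective
    (cen t).subtype (cen t).subtype_injective).exists_le_sylow (p := 2)
  let Sy : Sylow 2 ↥(cen t) :=
    ⟨M.Sg.subgroupOf (cen t), M.Sg_two.comap_of_injective _ (cen t).subtype_injective, fun {R} hR hle => by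
      refine le_antisymm (fun x hx => ?_) hle
      exact M.Φ_sylow (R.map (cen t).subtype) (hR.map _) (map_subtype_le _)
        (fun c hc => ⟨⟨c, M.Sg_le_cen hS hc⟩, hle (show (⟨c, _⟩ : cen t) ∈ M.Sg.subgroupOf (cen t) from
          mem_subgroupOf.2 hc), rfl⟩) ⟨x, hx, rfl⟩⟩
  obtain ⟨c, hc⟩ := MulAction.exists_smul_eq (cen t) Q Sy
  set P' : Subgroup G := P.map (MulAut.conj ((c : G) * g⁻¹)).toMonoidHom with hP'
  have hP'S : P' ≤ M.Sg := by
    rintro x ⟨p, hp, rfl⟩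
    have hpQ : (⟨g⁻¹ * p * g, hPC p hp⟩ : cen t) ∈ (Q : Subgroup ↥(cen t)) := hQ ⟨p, hp, by simp⟩
    have h := Subgroup.smul_mem_pointwise_smul _ (MulAut.conj c) _ hpQ
    have e' : ((c • Q : Sylow 2 ↥(cen t)) : Subgroup ↥(cen t)) = MulAut.conj c • (Q : Subgroup ↥(cen t)) := rfl
    rw [← e', hc] at h
    have := mem_subgroupOf.1 h
    show (c : G) * g⁻¹ * p * ((c : G) * g⁻¹)⁻¹ ∈ M.Sg
    rw [show (c : G) * g⁻¹ * p * ((c : G) * g⁻¹)⁻¹ = c * (g⁻¹ * p * g) * (c : G)⁻¹ by group]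
    exact this
  have hP'ea : Cfsg.IsElementaryAbelian 2 P' := by
    refine ⟨⟨⟨fun a b => Subtype.ext ?_⟩⟩, ?_⟩
    · obtain ⟨p, hp, hpa⟩ := a.2
      obtain ⟨q, hq, hqb⟩ := b.2
      show (a : G) * b = b * a
      rw [← hpa, ← hqb, ← map_mul, ← map_mul]
      exact congrArg _ (congrArg Subtype.val (hPea.1.is_comm.comm ⟨p, hp⟩ ⟨q, hq⟩))
    · rintro x ⟨p, hp, rfl⟩
      rw [← map_pow, hPea.2 p hp, map_one]
  have hcard : Nat.card P = Nat.card M.A * 2 := M.card_sup_outer hS hm hyC hy2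
  have hcard' : Nat.card P' = Nat.card P :=
    (Nat.card_congr (equivMapOfInjective _ _ (MulEquiv.injective _)).toEquiv).symm
  obtain ⟨u, hu, huW⟩ : ∃ u ∈ P', u ∉ M.W := by
    by_contra! hall
    have := Subgroup.card_le_of_le (M.elementary_le_A hS hP'ea hall)
    have := Nat.card_pos (α := M.A)
    omega
  have hu2 : u * u = 1 := by rw [← sq]; exact hP'ea.2 u hu
  obtain ⟨m', hm'⟩ := M.outer_invol hS (hP'S hu) huW hu2
  have hP'eq : P' = M.A ⊔ zpowers u := eq_of_le_of_card_ge (M.elementary_le hS hP'S hP'ea hu huW)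
    (by rw [hcard', hcard, M.card_sup_outer hS hm' (M.Sg_le_cen hS (hP'S hu)) hu2])
  obtain ⟨e', he', s, hs, hys⟩ := M.outer_class hS (hP'S hu) huW hu2 hy hyW hy2
  have hsA : ∀ a ∈ M.A, s * a * s⁻¹ = a := fun a ha => by
    rw [← M.A_comm_W hS ha (M.mem_W_of_mem_S₀ hs), mul_inv_cancel_right]
  set k := s * ((c : G) * g⁻¹) with hk
  have hkP : ∀ p ∈ P, k * p * k⁻¹ ∈ P := fun p hp => by
    have hmem : (c : G) * g⁻¹ * p * ((c : G) * g⁻¹)⁻¹ ∈ P' := ⟨p, hp, rfl⟩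
    rw [hP'eq] at hmem
    obtain ⟨a, ha, h | h⟩ := M.ea_sup_outer hS hm' (M.Sg_le_cen hS (hP'S hu)) hu2 _ hmem <;>
      rw [hk, show s * ((c : G) * g⁻¹) * p * (s * ((c : G) * g⁻¹))⁻¹ =
        s * ((c : G) * g⁻¹ * p * ((c : G) * g⁻¹)⁻¹) * s⁻¹ by group, h]
    · rw [hsA a ha]; exact mem_sup_left ha
    · rw [show s * (a * u) * s⁻¹ = s * a * s⁻¹ * (s * u * s⁻¹) by group, hsA a ha]
      refine mul_mem (mem_sup_left ha) ?_
      have : s * u * s⁻¹ = e'⁻¹ * y := by rw [hys]; group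
      rw [this]
      exact mul_mem (inv_mem (mem_sup_left (mem_sup_left he'))) (mem_sup_right (mem_zpowers y))
  have hky : k * y * k⁻¹ = e := by
    rw [hk, hydef, show s * ((c : G) * g⁻¹) * (g * e * g⁻¹) * (s * ((c : G) * g⁻¹))⁻¹ =
      s * (c * e * (c : G)⁻¹) * s⁻¹ by group, ← hS.E_central he c.2, mul_inv_cancel_right,
      ← M.E_S₀_comm hS he hs, mul_inv_cancel_right]
  have hkP' : k ∈ normalizer (P : Set G) := mem_normalizer_fintype hkP
  have hEP : E ≤ P := le_sup_left.trans le_sup_left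
  have hconjA : ∀ x ∈ E, x ≠ 1 → k⁻¹ * x * k ∈ M.A → False := fun x hx hx1 hA => by
    have h1 := M.conj_mem_E_of_A hS hSyl (g := k⁻¹) hx hx1 (by rwa [inv_inv])
    have hn := hS.mem_normalizer M.odd_Z hx hx1 (g := k⁻¹) h1
    have h2 : k⁻¹ * e * k⁻¹⁻¹ ∈ E := (mem_normalizer_iff.1 hn e).1 he
    rw [← hky, show k⁻¹ * (k * y * k⁻¹) * k⁻¹⁻¹ = y by group] at h2
    exact hyW (M.A_le_W hS (mem_sup_left h2))
  -- hence `E` has order 2
  have hE2 : ∀ x ∈ E, x = 1 ∨ x = e := fun x hx => by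
    by_contra! hx'
    have hin : ∀ z ∈ E, k⁻¹ * z * k ∈ P := fun z hz => by
      refine (mem_normalizer_iff.1 hkP' _).2 ?_
      rw [show k * (k⁻¹ * z * k) * k⁻¹ = z by group]
      exact hEP hz
    have hxe1 : x * e ≠ 1 := fun h => hx'.2 (by
      rw [← mul_inv_eq_one, inv_eq_of_mul_eq_one_left (hS.E_mul_self he)]; exact h)
    obtain ⟨a, ha, h | h⟩ := M.ea_sup_outer hS hm hyC hy2 _ (hin x hx)
    · exact hconjA x hx hx'.1 (h ▸ ha)
    obtain ⟨b, hb, h' | h'⟩ := M.ea_sup_outer hS hm hyC hy2 _ (hin e he)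
    · exact hconjA e he he1 (h' ▸ hb)
    refine hconjA _ (mul_mem hx he) hxe1 ?_
    rw [show k⁻¹ * (x * e) * k = k⁻¹ * x * k * (k⁻¹ * e * k) by group, h, h', mul_assoc a, ← mul_assoc y,
      hAy b hb, mul_assoc b, hy2, mul_one]
    exact mul_mem ha hb
  have het : t = e := ((hE2 t (hS.t_mem M.odd_Z)).resolve_left fun h => by
    have := hS.ord; rw [h, orderOf_one] at this; omega)
  -- the other conjugates of `t` in `P`
  have hout : ∀ x ∈ P, (∃ h : G, h * e * h⁻¹ = x) → x ≠ e → x ∉ M.A := by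
    rintro x hx ⟨h, rfl⟩ hne hA
    rcases hE2 _ (M.conj_mem_E_of_A hS hSyl he he1 hA) with h1 | h1
    · exact he1 (conj_eq_one_iff.1 h1)
    · exact hne h1
  set o := k * e * k⁻¹ with ho
  have hoP : o ∈ P := hkP e (hEP he)
  have hoe : o ≠ e := fun h => by
    have : e = y := mul_left_cancel (mul_right_cancel (h.trans hky.symm))
    exact hyW (this ▸ M.A_le_W hS (mem_sup_left he))
  have hoA := hout o hoP ⟨k, rfl⟩ hoe
  have hoC := M.Sg_le_cen hS (hPS hoP)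
  have hoW : o ∉ M.W := fun h => hoA (M.mem_A_of_invol hS h (by rw [← sq]; exact hPea.2 o hoP))
  -- their translates by `Z₀` are conjugates too
  have htrans : ∀ z ∈ M.Z₀, o * z ∈ P ∧ ∃ h : G, h * e * h⁻¹ = o * z := fun z hz => by
    have hzA : z ∈ M.A := mem_sup_right hz
    have hozP : o * z ∈ P := mul_mem hoP (mem_sup_left hzA)
    refine ⟨hozP, ?_⟩
    have hozW : o * z ∉ M.W := fun h => hoW (by
      simpa using mul_mem h (inv_mem (M.A_le_W hS hzA)))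
    obtain ⟨e'', he'', s', hs', h⟩ := M.outer_class hS (hPS hoP) hoW (by rw [← sq]; exact hPea.2 o hoP)
      (hPS hozP) hozW (by rw [← sq]; exact hPea.2 _ hozP)
    have he''1 : e'' = 1 := by
      have hmem : o * (z * s') * o⁻¹ * s'⁻¹ ∈ M.S₀ :=
        mul_mem ((mem_normalizer_iff.1 (M.Sg_le_normalizer hS (hPS hoP)) _).1
          (mul_mem (M.Z₀_le hz) hs')) (inv_mem hs')
      have heq : e'' = o * (z * s') * o⁻¹ * s'⁻¹ := by
        rw [show o * (z * s') * o⁻¹ * s'⁻¹ = o * z * (s' * o * s'⁻¹)⁻¹ by group, h]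
        group
      have hin : e'' ∈ E ⊓ M.S₀ := mem_inf.2 ⟨he'', heq ▸ hmem⟩
      rwa [M.inf_E_S₀ hS, mem_bot] at hin
    refine ⟨s' * k, ?_⟩
    rw [h, he''1, one_mul, ho]
    group
  obtain ⟨l, hl0, hl1⟩ := M.exists_fixed_ne
  have hz1 : ∀ d : fixed σ, d ≠ 0 → o * M.ι (Heis.cen d) ≠ o := fun d hd h => hd (Subtype.ext (by
    simpa using congrArg Heis.b (M.inj ((mul_eq_left.1 h).trans M.ι.map_one.symm))))
  have key : ∀ d : fixed σ, d ≠ 0 → ∃ a ∈ M.A, k⁻¹ * (o * M.ι (Heis.cen d)) * k = a * y := fun d hd => by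
    obtain ⟨hxP, h, hh⟩ := htrans _ (M.mem_Z₀.2 ⟨d, rfl⟩)
    have hP' : k⁻¹ * (o * M.ι (Heis.cen d)) * k ∈ P := by
      refine (mem_normalizer_iff.1 hkP' _).2 ?_
      rw [show k * (k⁻¹ * (o * M.ι (Heis.cen d)) * k) * k⁻¹ = o * M.ι (Heis.cen d) by group]
      exact hxP
    have hA := hout _ hP' ⟨k⁻¹ * h, by rw [← hh]; group⟩ fun h' => hz1 d hd (by
      calc o * M.ι (Heis.cen d) = k * (k⁻¹ * (o * M.ι (Heis.cen d)) * k) * k⁻¹ := by group
        _ = o := by rw [h'])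
    obtain ⟨a, ha, h' | h'⟩ := M.ea_sup_outer hS hm hyC hy2 _ hP'
    · exact absurd (h' ▸ ha) hA
    · exact ⟨a, ha, h'⟩
  obtain ⟨a, ha, h1⟩ := key 1 one_ne_zero
  obtain ⟨b, hb, h2⟩ := key l hl0
  obtain ⟨c', hc', h3⟩ := key (1 + l) (fun h => hl1 (CharTwo.add_eq_zero.1 h).symm)
  have h4 : e = k⁻¹ * (o * M.ι (Heis.cen 1)) * k * (k⁻¹ * (o * M.ι (Heis.cen l)) * k) *
      (k⁻¹ * (o * M.ι (Heis.cen (1 + l))) * k) := by
    have hoo : o * o = 1 := by rw [← sq]; exact hPea.2 o hoP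
    obtain ⟨mo, hmo⟩ := M.outer_invol hS (hPS hoP) hoW hoo
    have hc0 : ∀ d, o * M.ι (Heis.cen d) = M.ι (Heis.cen d) * o := fun d =>
      Outer.comm_Z₀ hS M hmo (M.mem_Z₀.2 ⟨d, rfl⟩)
    have : o * M.ι (Heis.cen 1) * (o * M.ι (Heis.cen l)) * (o * M.ι (Heis.cen (1 + l))) = o := by
      rw [hc0 1, mul_assoc _ o, ← mul_assoc o o, hoo, one_mul, ← map_mul, ← HeisAux.cen_add,
        ← mul_assoc, ← hc0, mul_assoc, ← map_mul, ← HeisAux.cen_add, CharTwo.add_self_eq_zero,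
        ← HeisAux.one_eq_cen, map_one, mul_one]
    calc e = k⁻¹ * o * k := by rw [ho]; group
      _ = k⁻¹ * (o * M.ι (Heis.cen 1) * (o * M.ι (Heis.cen l)) * (o * M.ι (Heis.cen (1 + l)))) * k := by
        rw [this]
      _ = _ := by group
  rw [h1, h2, h3, mul_assoc a, ← mul_assoc y, hAy b hb, mul_assoc b, hy2, mul_one, ← mul_assoc] at h4
  exact hyW (by
    have : y = (a * b * c')⁻¹ * e := by rw [h4]; group
    rw [this]
    exact M.A_le_W hS (mul_mem (inv_mem (mul_mem (mul_mem ha hb) hc')) (mem_sup_left he)))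

include hS in
/-- Section A: `E` is strongly closed. -/
theorem isStronglyClosed_E (hSyl : ∀ P : Subgroup G, IsPGroup 2 P → M.Sg ≤ P → P ≤ M.Sg) :
    Cfsg.IsStronglyClosed E M.Sg := by
  refine ⟨le_sup_left, fun e he g hg => ?_⟩
  by_cases he1 : e = 1
  · subst he1; simp
  have hy2 : g * e * g⁻¹ * (g * e * g⁻¹) = 1 := by
    rw [show g * e * g⁻¹ * (g * e * g⁻¹) = g * (e * e) * g⁻¹ by group, hS.E_mul_self he, mul_one,
      mul_inv_cancel]
  exact M.conj_mem_E_of_A hS hSyl he he1 (M.mem_A_of_invol hS (M.conj_mem_W hS hSyl he he1 hg) hy2)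

end Cfsg.Agent.UThreeEven.Model
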