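import Cfsg.Agent.Lib.UThreeEven.ModelParts
import Cfsg.Agent.Lib.SU3Sylow.Embed

/-!
What is used about a group of type `U₃(2ⁿ)` inside the centraliser of an involution.
-/

set_option autoImplicit false
set_option linter.unusedSectionVars false
set_option linter.style.haveILetI false

namespace Cfsg.Agent.UThreeEven

open Subgroup Cfsg.Agent.AutPSU Coord

universe u v

theorem model_of_cover {G : Type u} [Group G] [Finite G] {t : G} {E U U₀ : Subgroup G}
    (hS : Setup t E U U₀) {F : Type v} [Field F] [Fintype F] [CharP F 2] (n : ℕ) (hn : 2 ≤ n)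
    (hF : Fintype.card F = (2 ^ n) ^ 2) (C : AutPSU.Conj F (2 ^ n))
    [hi : SU3Sylow.Inv2 C.σ.toRingHom] (Fr : AutPSU.Frame F 3 (2 ^ n) 1)
    (Cv : Cover U₀ F (2 ^ n))
    (hcard : Nat.card ↥(Hermitian.fixed C.σ.toRingHom) = 2 ^ n) :
    Nonempty (Model t E U U₀ C.σ.toRingHom n) := by
  haveI : Fact (Nat.Prime 2) := ⟨Nat.prime_two⟩
  have h4 : 4 ≤ 2 ^ n := Nat.pow_le_pow_right (show 0 < 2 by norm_num) hn
  have hq2 : 2 ^ n ≠ 2 := by omega
  have hne := sne C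
  have hcentre : Odd (Nat.card (Subgroup.center (Cfsg.SU 3 F (2 ^ n)))) := by
    rw [HermSU.card_center_SU hne C.invol C.apply_eq (by norm_num) hcard]
    exact Odd.of_dvd_nat (by decide) (Nat.gcd_dvd_left 3 _)
  have hZ : Odd (Nat.card ↥(U ⊓ centralizer (U₀ : Set G))) := by
    rw [hS.cU]
    exact Odd.of_dvd_nat hcentre Cv.card_dvd
  have hι := iota_injective C Fr Cv hF
  have hιcard : Nat.card ↥(iota C Fr Cv).range = (2 ^ n) ^ 3 :=
    (Nat.card_congr (MonoidHom.ofInjective hι).toEquiv).symm.trans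
      (SU3Sylow.Heis.card_eq hne hcard)
  have hs0 : ∀ P : Subgroup G, IsPGroup 2 P → P ≤ U₀ → (iota C Fr Cv).range ≤ P →
      P ≤ (iota C Fr Cv).range := by
    intro P hP hPU hle
    refine (Subgroup.eq_of_le_of_card_ge hle ?_).ge
    rw [hιcard]
    obtain ⟨k, hk⟩ := hP.exists_card_eq
    have hdvd : Nat.card P ∣ (2 ^ n) ^ 3 * (((2 ^ n) ^ 2 - 1) * ((2 ^ n) ^ 3 + 1)) := by
      rw [← SU3Sylow.card_SU3 hne C.apply_eq hcard]
      refine (Subgroup.card_dvd_of_le hPU).trans ?_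
      rw [← Cv.range]
      exact Subgroup.card_range_dvd _
    rw [hk] at hdvd ⊢
    exact Nat.le_of_dvd (by positivity)
      ((Nat.Coprime.pow_left k (Nat.coprime_two_left.2
        (SU3Sylow.odd_rest n (by omega)))).dvd_of_dvd_mul_right hdvd)
  obtain ⟨P⟩ : Nonempty (Sylow 2 ↥(semiTorus C Fr Cv U)) := Sylow.nonempty
  obtain ⟨Φ, hΦ⟩ : ∃ Φ : Subgroup G,
      Φ = (P : Subgroup ↥(semiTorus C Fr Cv U)).map (semiTorus C Fr Cv U).subtype := ⟨_, rfl⟩
  have hΦT : Φ ≤ semiTorus C Fr Cv U := hΦ ▸ Subgroup.map_subtype_le _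
  have hΦS : Φ ≤ normalizer ((iota C Fr Cv).range : Set G) :=
    fun x hx => semiTorus_normalize C Fr Cv (hΦT hx)
  have hΦp : IsPGroup 2 ↥Φ := hΦ ▸ P.isPGroup'.map _
  have hSp : IsPGroup 2 ↥(iota C Fr Cv).range :=
    (SU3Sylow.Heis.isPGroup (σ := C.σ.toRingHom)).of_surjective (iota C Fr Cv).rangeRestrict
      (iota C Fr Cv).rangeRestrict_surjective
  have hEp : IsPGroup 2 ↥E := fun e => ⟨1, by
    rw [pow_one]; exact Subtype.ext (hS.ea.2 e e.2)⟩
  have hSΦ : IsPGroup 2 ↥((iota C Fr Cv).range ⊔ Φ) := by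
    rw [sup_comm]
    exact hΦp.to_sup_of_normal_right' hSp hΦS
  have hSΦU : (iota C Fr Cv).range ⊔ Φ ≤ U :=
    sup_le ((iota_range_le C Fr Cv).trans hS.le) (hΦT.trans (semiTorus_le C Fr Cv))
  refine ⟨{
    two_le := hn
    ne_id := hne
    card_fixed := hcard
    odd_Z := hZ
    ι := iota C Fr Cv
    inj := hι
    range_le := iota_range_le C Fr Cv
    sylow₀ := hs0
    cen_S := cen_S_eq C Fr Cv hS hF hq2
    act := ?_
    D := oddTorus C Fr Cv U
    D_le := oddTorus_le C Fr Cv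
    D_odd := (oddTorus_facts C Fr Cv hS hF hZ).1
    D_comm := (oddTorus_facts C Fr Cv hS hF hZ).2
    D_Z := Z_le_oddTorus C Fr Cv hS
    D_act := fun d hd => oddTorus_act C Fr Cv hd
    D_moved := oddTorus_moved C Fr Cv hS hF (by omega)
    D_hall := fun c hc ho hn' hz => oddTorus_hall C Fr Cv hS hF hq2 hc ho hn' hz
    J := sl2Part C Fr Cv
    J_le := sl2Part_le C Fr Cv
    J_iso := sl2Part_iso C Fr Cv hF
    J_comm := fun j hj d hd => sl2Part_comm C Fr Cv hj hd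
    Z_le_J := center_le_sl2Part C Fr Cv
    J_two := fun c hc h2 hD => sl2Part_two C Fr Cv hS hF hZ (by omega) hc h2 hD
    H := splitTorus C Fr Cv
    H_le := splitTorus_le C Fr Cv
    H_odd := splitTorus_odd C Fr Cv hF
    H_comm := splitTorus_comm C Fr Cv
    H_act := ?_
    H_surj := ?_
    Φ := Φ
    Φ_le := hΦT.trans (semiTorus_le C Fr Cv)
    Φ_S := hΦS
    Φ_D := fun x hx => Subgroup.mem_normalizer_fintype
      fun d hd => semiTorus_conj_odd C Fr Cv hF (hΦT hx) hd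
    Φ_H := fun x hx => Subgroup.mem_normalizer_fintype
      fun h hh => semiTorus_conj_split C Fr Cv (hΦT hx) hh
    Φ_two := ?_
    Φ_sylow := ?_
    two_commutator := fun c hc h2 => two_commutator_le C Cv hS hF hq2 hc h2 }⟩
  · intro c hc hn'
    obtain ⟨g, τ, hr⟩ := Rep.exists (Cv := Cv) hS hF hq2 hc
    obtain ⟨x₀, g₀, α, μ, hr0, hd⟩ := hr.exists_diag_of hF hn'
    refine ⟨τ, field_comm τ, Units.mk0 _ hd.unit_ne, x₀, fun x => ?_⟩
    rw [map_mul, map_mul, map_inv, ← conj_scale hr0 hd _ rfl x]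
    group
  · rintro h ⟨l, rfl⟩
    exact ⟨Units.map (Hermitian.fixed C.σ.toRingHom).subtype.toMonoidHom l,
      Hermitian.mem_fixed.1 (l : ↥(Hermitian.fixed C.σ.toRingHom)).2,
      fun x => splitTorus_act C Fr Cv l _ rfl x⟩
  · intro l hl
    let l' : (↥(Hermitian.fixed C.σ.toRingHom))ˣ :=
      Units.mk0 ⟨(l : F), Hermitian.mem_fixed.2 hl⟩
        (fun h => l.ne_zero (congrArg Subtype.val h))
    exact ⟨_, ⟨l', rfl⟩, fun x => splitTorus_act C Fr Cv l' l rfl x⟩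
  · refine hEp.to_sup_of_normal_right' hSΦ fun e he => ?_
    refine Subgroup.mem_normalizer_fintype fun y hy => ?_
    rw [hS.comm he (hSΦU hy), mul_inv_cancel_right]
    exact hy
  · intro Q hQ hQC hle x hx
    obtain ⟨e, he, w, hw, rfl⟩ := hS.split (hQC hx)
    refine mul_mem_sup he ?_
    have hwQ : w ∈ Q := by
      have := Q.mul_mem (Q.inv_mem (hle (mem_sup_left he))) hx
      rwa [inv_mul_cancel_left] at this
    have hsQ : (iota C Fr Cv).range ≤ Q := fun y hy => hle (mem_sup_right (mem_sup_left hy))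
    have hwn : w ∈ normalizer ((iota C Fr Cv).range : Set G) := by
      refine Subgroup.mem_normalizer_fintype fun y hy => ?_
      refine hs0 (Q ⊓ U₀) (hQ.to_le inf_le_left) inf_le_right
        (le_inf hsQ (iota_range_le C Fr Cv)) ⟨?_, ?_⟩
      · exact Q.mul_mem (Q.mul_mem hwQ (hsQ hy)) (Q.inv_mem hwQ)
      · exact hS.conj_mem (hS.U_le hw) (iota_range_le C Fr Cv hy)
    obtain ⟨x₀, hx₀⟩ := normalizer_decomp C Fr Cv hS hF hq2 hw hwn
    rw [← mul_inv_cancel_left (iota C Fr Cv x₀) w]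
    refine mul_mem_sup ⟨x₀, rfl⟩ ?_
    have hQ' : IsPGroup 2 ↥(Q.subgroupOf (semiTorus C Fr Cv U)) :=
      hQ.comap_of_injective _ (Subgroup.subtype_injective _)
    have hPQ : (P : Subgroup ↥(semiTorus C Fr Cv U)) ≤ Q.subgroupOf (semiTorus C Fr Cv U) :=
      fun y hy => hle (mem_sup_right (mem_sup_right (hΦ ▸ mem_map_of_mem _ hy)))
    have heq := P.is_maximal' hQ' hPQ
    rw [hΦ]
    refine ⟨⟨_, hx₀⟩, ?_, rfl⟩
    rw [SetLike.mem_coe, ← heq]
    exact Q.mul_mem (Q.inv_mem (hsQ ⟨x₀, rfl⟩)) hwQ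

/-- The structure used about `U`. -/
theorem exists_model {G : Type u} [Group G] [Finite G] {t : G} {E U U₀ : Subgroup G}
    (hS : Setup t E U U₀) {F : Type v} [Field F] [Fintype F] (n : ℕ)
    (hF : Fintype.card F = 4 ^ n)
    (hUX : Nonempty ((↥U₀ ⧸ Subgroup.center ↥U₀) ≃* Cfsg.PSU 3 F (2 ^ n))) :
    ∃ (_ : CharP F 2) (σ : F →+* F) (_ : SU3Sylow.Inv2 σ), Nonempty (Model t E U U₀ σ n) := by
  obtain ⟨e⟩ := hUX
  have hn := two_le hS.qs hF e
  have hF' : Fintype.card F = (2 ^ n) ^ 2 := by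
    rw [hF, ← pow_mul, mul_comm n 2, pow_mul]
    norm_num
  obtain ⟨hc, σ, hinv, -, hσ, hfix⟩ := SU3Sylow.setup (n := n) (by omega) hF'
  obtain ⟨C⟩ := exists_conj hF'
  have hσC : C.σ.toRingHom = σ := RingHom.ext fun x => (C.apply_eq x).trans (hσ x).symm
  subst hσC
  have h4 : 4 ≤ 2 ^ n := Nat.pow_le_pow_right (show 0 < 2 by norm_num) hn
  obtain ⟨Cv⟩ := exists_cover hS.qs hF' (by omega) e
  obtain ⟨Fr⟩ := Frame.exists_frame (q := 2 ^ n) C (n := 3) (by norm_num)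
  exact ⟨hc, C.σ.toRingHom, hinv, model_of_cover hS n hn hF' C Fr Cv hfix⟩

end Cfsg.Agent.UThreeEven
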