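import Cfsg.Agent.Lib.AutPSU.Classes
import Cfsg.Agent.Lib.AutPSU.Torus
import Cfsg.Agent.Lib.SU3Sylow.Pairs

/-!
The coordinates attached to a frame of a three-dimensional unitary space in characteristic two: the
radical of an isotropic point as a group of pairs, the semilinear isometries diagonal in the frame,
and the fixer of the anisotropic vector as a group of two by two matrices.
-/

set_option autoImplicit false
set_option linter.unusedSectionVars false

namespace Cfsg.Agent.UThreeEven.Coord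

open Matrix Cfsg.Agent.AutPSU

universe v

variable {F : Type v} [Field F] {q : ℕ}

local notation "V3" => Fin 3 → F
local notation "M3" => Matrix (Fin 3) (Fin 3) F
local notation "SU3" => Cfsg.SU 3 F q
local notation "GU3" => Cfsg.GU 3 F q
local notation "𝕙" => AutPSU.h (q := q)

/-- The element of `GU` given by an element of `SU`. -/
def toGU (s : SU3) : GU3 := ⟨_, HermSU.toGL_mem_GU s⟩

theorem sm_toGU (s : SU3) (x : V3) : sm ((toGU s : GU3) : GL (Fin 3) F) 1 x = act s x := rfl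

theorem sm_gu (g : GU3) (x : V3) :
    sm (g : GL (Fin 3) F) 1 x = ((g : GL (Fin 3) F) : M3) *ᵥ x := rfl

theorem sm_toGU_mul (s : SU3) (g : GU3) (τ : F ≃+* F) (x : V3) :
    sm ((toGU s * g : GU3) : GL (Fin 3) F) τ x = act s (sm (g : GL (Fin 3) F) τ x) := by
  rw [sm, sm, act, Matrix.mulVec_mulVec]
  rfl

theorem suConj_toGU_mul (s : SU3) (g : GU3) (τ : F ≃+* F) (u : SU3) :
    suConj (toGU s * g) τ u = s * suConj g τ u * s⁻¹ := by
  refine ext_act fun x => ?_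
  obtain ⟨y, rfl⟩ := sm_surj (toGU s * g) τ x
  rw [act_suConj, sm_toGU_mul, sm_toGU_mul, act_mul, act_mul, act_inv_act, act_suConj]

theorem suConj_toGU (s u : SU3) : suConj (toGU s) 1 u = s * u * s⁻¹ := by
  rw [← mul_one (toGU s), suConj_toGU_mul, suConj_one]

theorem suConj_of_scalar {g : GU3} {a : F}
    (hg : ∀ x : V3, ((g : GL (Fin 3) F) : M3) *ᵥ x = a • x) (u : SU3) : suConj g 1 u = u :=
  ext_act fun x => by
    obtain ⟨y, rfl⟩ := sm_surj g 1 x
    rw [act_suConj, sm_gu, sm_gu, hg, hg, act_smul]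

theorem suConj_injective (g : GU3) (τ : F ≃+* F) : Function.Injective (suConj g τ) := by
  intro u w e
  refine ext_act fun x => sm_inj (g : GL (Fin 3) F) τ ?_
  rw [← act_suConj, ← act_suConj, e]

variable (C : AutPSU.Conj F q) (Fr : AutPSU.Frame F 3 q 1)

local notation "σ" => C.σ.toRingHom
local notation "bb" => Fr.b 0

theorem inv2 : SU3Sylow.Inv2 σ := ⟨C.invol⟩

include C in
theorem hbb : 𝕙 bb bb = 1 := by rw [Fr.hb, if_pos rfl]

include C in
theorem W_eq {v : V3} (hv : v ∈ Fr.W C) : v = 𝕙 v bb • bb := by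
  have h := Frame.exists_coeff C Fr hv
  rwa [Fin.sum_univ_one] at h

include C in
theorem expand3 (x : V3) : x = 𝕙 x Fr.f • Fr.e + 𝕙 x Fr.e • Fr.f + 𝕙 x bb • bb := by
  have h := Fr.expand x
  rwa [Fin.sum_univ_one] at h

include C in
theorem coord3 {a b c : F} {x : V3} (hx : x = a • Fr.e + b • Fr.f + c • bb) :
    𝕙 x Fr.f = a ∧ 𝕙 x Fr.e = b ∧ 𝕙 x bb = c := by
  subst hx
  refine ⟨?_, ?_, ?_⟩ <;>
    simp only [add_left C, smul_left C, Fr.hef, Fr.hfe, Fr.hee, Fr.hff, Fr.hbf, Fr.hbe,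
      Fr.hbf' C, Fr.hbe' C, hbb C Fr] <;> ring

include C in
theorem ext3 {s t : SU3} (he : act s Fr.e = act t Fr.e) (hf : act s Fr.f = act t Fr.f)
    (hb : act s bb = act t bb) : s = t :=
  ext_act fun x => by
    rw [expand3 C Fr x]
    simp only [act_add, act_smul, he, hf, hb]

include C in
theorem bb_ne : bb ≠ (0 : V3) := fun e => by
  have h := hbb C Fr
  rw [e, zero_left C] at h
  exact zero_ne_one h

/-! ### the radical -/

section radical

variable [CharP F 2] [hi : SU3Sylow.Inv2 C.σ.toRingHom]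

theorem exists_emb (x : SU3Sylow.Heis σ) :
    ∃ s ∈ AutPSU.rad C Fr.e, Fr.wt s = x.a • bb ∧ Fr.al s = x.b := by
  refine Fr.exists_rad C (Submodule.smul_mem _ _ (Fr.b_mem C 0)) ?_
  rw [smul_left C, smul_right C, hbb C Fr]
  have h := x.eq
  simp only [RingEquiv.toRingHom_eq_coe, RingHom.coe_coe] at h
  linear_combination h

/-- The element of the radical with given coordinates. -/
noncomputable def emb : SU3Sylow.Heis σ →* SU3 :=
  MonoidHom.mk' (fun x => (exists_emb C Fr x).choose) fun x y => by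
    obtain ⟨hx, hxw, hxa⟩ := (exists_emb C Fr x).choose_spec
    obtain ⟨hy, hyw, hya⟩ := (exists_emb C Fr y).choose_spec
    obtain ⟨hz, hzw, hza⟩ := (exists_emb C Fr (x * y)).choose_spec
    refine Fr.rad_ext C hz (mul_mem hx hy) ?_ ?_
    · rw [hza, Fr.al_mul C hx hy, hxa, hya, hxw, hyw, smul_left C, smul_right C, hbb C Fr,
        SU3Sylow.Heis.mul_b, sub_eq_add_neg, CharTwo.neg_eq]
      simp only [RingEquiv.toRingHom_eq_coe, RingHom.coe_coe]
      ring
    · rw [hzw, Fr.wt_mul C hx hy, hxw, hyw, SU3Sylow.Heis.mul_a, add_smul]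

theorem emb_spec (x : SU3Sylow.Heis σ) :
    emb C Fr x ∈ AutPSU.rad C Fr.e ∧ Fr.wt (emb C Fr x) = x.a • bb ∧
      Fr.al (emb C Fr x) = x.b :=
  (exists_emb C Fr x).choose_spec

theorem emb_act_f (x : SU3Sylow.Heis σ) :
    act (emb C Fr x) Fr.f = x.b • Fr.e + Fr.f + x.a • bb := by
  obtain ⟨h1, h2, h3⟩ := emb_spec C Fr x
  rw [Fr.act_f C h1, h2, h3]

theorem emb_act_e (x : SU3Sylow.Heis σ) : act (emb C Fr x) Fr.e = Fr.e := (emb_spec C Fr x).1.1

theorem emb_act_b (x : SU3Sylow.Heis σ) :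
    act (emb C Fr x) bb = bb + C.σ x.a • Fr.e := by
  obtain ⟨h1, h2, -⟩ := emb_spec C Fr x
  rw [Fr.act_W C h1 (Fr.b_mem C 0), h2, smul_right C, hbb C Fr, mul_one, sub_eq_add_neg,
    ← neg_smul, CharTwo.neg_eq]

theorem emb_injective : Function.Injective (emb C Fr) := fun x y e => by
  obtain ⟨-, hxw, hxa⟩ := emb_spec C Fr x
  obtain ⟨-, hyw, hya⟩ := emb_spec C Fr y
  rw [e] at hxw hxa
  exact SU3Sylow.Heis.ext (smul_left_injective F (bb_ne C Fr) (hxw.symm.trans hyw))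
    (hxa.symm.trans hya)

theorem emb_range : (emb C Fr).range = AutPSU.rad C Fr.e := by
  refine le_antisymm ?_ fun s hs => ?_
  · rintro _ ⟨x, rfl⟩
    exact (emb_spec C Fr x).1
  have hw := W_eq C Fr (Fr.wt_mem C s)
  have hn := Fr.al_norm C hs
  rw [hw, smul_left C, smul_right C, hbb C Fr] at hn
  let x : SU3Sylow.Heis σ := ⟨𝕙 (Fr.wt s) bb, Fr.al s, by
    simp only [RingEquiv.toRingHom_eq_coe, RingHom.coe_coe]
    linear_combination hn⟩
  obtain ⟨h1, h2, h3⟩ := emb_spec C Fr x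
  exact ⟨x, Fr.rad_ext C h1 hs h3 (h2.trans hw.symm)⟩

/-- A vector fixed by the whole radical is a multiple of the point. -/
theorem fixed_point [Finite F] {y : V3} (hy : ∀ x : SU3Sylow.Heis σ, act (emb C Fr x) y = y) :
    ∃ a : F, y = a • Fr.e := by
  have hne : C.σ.toRingHom ≠ RingHom.id F := fun e => by
    obtain ⟨μ, hμ⟩ := C.ne_one
    exact hμ (RingHom.congr_fun e μ)
  obtain ⟨x, hx⟩ := SU3Sylow.Heis.exists_mk hne (1 : F)
  have e1 := hy x
  conv_lhs at e1 => rw [expand3 C Fr y]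
  simp only [act_add, act_smul, emb_act_e, emb_act_f, emb_act_b, hx, map_one, one_smul] at e1
  obtain ⟨k1, -, k3⟩ := coord3 C Fr (a := 𝕙 y Fr.f + 𝕙 y Fr.e * x.b + 𝕙 y bb) (b := 𝕙 y Fr.e)
    (c := 𝕙 y Fr.e + 𝕙 y bb) (x := y) (e1.symm.trans (by module))
  have he : 𝕙 y Fr.e = 0 := by linear_combination -k3
  have hb : 𝕙 y bb = 0 := by
    rw [he] at k1
    linear_combination -k1
  refine ⟨𝕙 y Fr.f, ?_⟩
  conv_lhs => rw [expand3 C Fr y, he, hb]
  simp

end radical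

/-! ### semilinear isometries diagonal in the frame -/

/-- `x ↦ g τ(x)` has the three lines of the frame invariant. -/
structure Diag (g : GU3) (τ : F ≃+* F) (α μ : F) : Prop where
  ne : α ≠ 0
  e : sm (g : GL (Fin 3) F) τ Fr.e = α • Fr.e
  f : sm (g : GL (Fin 3) F) τ Fr.f = (C.σ α)⁻¹ • Fr.f
  b : sm (g : GL (Fin 3) F) τ bb = μ • bb

variable {C Fr}

theorem Diag.norm {g : GU3} {τ : F ≃+* F} {α μ : F} (h : Diag C Fr g τ α μ) :
    μ * C.σ μ = 1 := by
  have e := sm_pres (q := q) g.2 τ bb bb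
  rw [h.b, smul_left C, smul_right C, hbb C Fr, map_one] at e
  linear_combination e

theorem Diag.one : Diag C Fr (1 : GU3) 1 1 1 :=
  ⟨one_ne_zero, by rw [sm_one, one_smul], by rw [sm_one, map_one, inv_one, one_smul],
    by rw [sm_one, one_smul]⟩

theorem Diag.mul {g g' : GU3} {τ τ' : F ≃+* F} {α α' μ μ' : F} (h : Diag C Fr g τ α μ)
    (h' : Diag C Fr g' τ' α' μ') :
    Diag C Fr (g * mapGU τ g') (τ * τ') (τ α' * α) (τ μ' * μ) := by
  refine ⟨mul_ne_zero ((map_ne_zero τ).2 h'.ne) h.ne, ?_, ?_, ?_⟩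
  · rw [← sm_comp, h'.e, sm_smul, h.e, smul_smul]
  · rw [← sm_comp, h'.f, sm_smul, h.f, smul_smul, map_mul, mul_inv, map_inv₀,
      sigma_comm C τ α']
  · rw [← sm_comp, h'.b, sm_smul, h.b, smul_smul]

theorem diag_of_lines {g : GU3} {τ : F ≃+* F} {α β : F}
    (he : sm (g : GL (Fin 3) F) τ Fr.e = α • Fr.e) (hf : sm (g : GL (Fin 3) F) τ Fr.f = β • Fr.f) :
    ∃ μ : F, Diag C Fr g τ α μ := by
  have e1 := sm_pres (q := q) g.2 τ Fr.e Fr.f
  rw [he, hf, smul_left C, smul_right C, Fr.hef, map_one, mul_one] at e1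
  have hα : α ≠ 0 := fun h0 => by simp [h0] at e1
  have hβ : C.σ β ≠ 0 := fun h0 => by simp [h0] at e1
  have hfβ : sm (g : GL (Fin 3) F) τ Fr.f = (C.σ α)⁻¹ • Fr.f := by
    rw [hf, ← map_inv₀, ← eq_inv_of_mul_eq_one_right e1, C.invol]
  have hW : sm (g : GL (Fin 3) F) τ bb ∈ Fr.W C := by
    constructor
    · have e := sm_pres (q := q) g.2 τ bb Fr.e
      rw [he, smul_right C, Fr.hbe, map_zero, mul_eq_zero] at e
      exact e.resolve_left ((map_ne_zero C.σ).2 hα)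
    · have e := sm_pres (q := q) g.2 τ bb Fr.f
      rw [hf, smul_right C, Fr.hbf, map_zero, mul_eq_zero] at e
      exact e.resolve_left hβ
  exact ⟨_, ⟨hα, he, hfβ, W_eq C Fr hW⟩⟩

section radical

variable [CharP F 2] [hi : SU3Sylow.Inv2 C.σ.toRingHom]

theorem field_comm (τ : F ≃+* F) (x : F) :
    τ (C.σ.toRingHom x) = C.σ.toRingHom (τ x) :=
  sigma_comm C τ x

theorem Diag.unit_ne {g : GU3} {τ : F ≃+* F} {α μ : F} (h : Diag C Fr g τ α μ) :
    C.σ α * μ ≠ 0 :=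
  mul_ne_zero ((map_ne_zero C.σ).2 h.ne) (left_ne_zero_of_mul_eq_one h.norm)

theorem Diag.conj {g : GU3} {τ : F ≃+* F} {α μ : F} (h : Diag C Fr g τ α μ)
    (x : SU3Sylow.Heis σ) :
    suConj g τ (emb C Fr x) =
      emb C Fr (SU3Sylow.Heis.scale τ (field_comm τ) (Units.mk0 _ h.unit_ne) x) := by
  obtain ⟨r1, r2, r3⟩ := emb_spec C Fr
    (SU3Sylow.Heis.scale τ (field_comm τ) (Units.mk0 _ h.unit_ne) x)
  have hmem : suConj g τ (emb C Fr x) ∈ AutPSU.rad C Fr.e := by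
    have := suConj_mem_rad C g τ (emb_spec C Fr x).1
    rwa [h.e, rad_smul C h.ne] at this
  have e1 := act_suConj g τ (emb C Fr x) Fr.f
  rw [h.f, act_smul, emb_act_f, sm_add, sm_add, sm_smul, sm_smul, h.e, h.f, h.b] at e1
  have e2 : act (suConj g τ (emb C Fr x)) Fr.f =
      (C.σ α * τ x.b * α) • Fr.e + Fr.f + (C.σ α * τ x.a * μ) • bb := by
    have hσ : C.σ α ≠ 0 := (map_ne_zero C.σ).2 h.ne
    have e3 := congrArg (fun y : V3 => C.σ α • y) e1
    simp only [smul_add, smul_smul, mul_inv_cancel₀ hσ, one_smul] at e3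
    rw [e3]
    simp only [mul_assoc]
  obtain ⟨k1, k2⟩ := Fr.al_of_eq C (Submodule.smul_mem _ _ (Fr.b_mem C 0)) e2
  have hn := h.norm
  refine Fr.rad_ext C hmem r1 (k1.trans ?_) (k2.trans ?_)
  · rw [r3, SU3Sylow.Heis.scale_b, Units.val_mk0]
    simp only [RingEquiv.toRingHom_eq_coe, RingHom.coe_coe, map_mul, C.invol]
    linear_combination -(C.σ α * α * τ x.b) * hn
  · rw [r2, SU3Sylow.Heis.scale_a, Units.val_mk0]
    congr 1
    ring

/-- A semilinear isometry normalising the radical is diagonal up to the radical. -/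
theorem exists_diag [Finite F] {g : GU3} {τ : F ≃+* F}
    (hN : ∀ x : SU3Sylow.Heis σ, ∃ y, suConj g τ (emb C Fr x) = emb C Fr y) :
    ∃ (x₀ : SU3Sylow.Heis σ) (g₀ : GU3) (α μ : F),
      g = toGU (emb C Fr x₀) * g₀ ∧ Diag C Fr g₀ τ α μ := by
  choose φ hφ using hN
  have hφi : Function.Injective φ := fun x y e =>
    emb_injective C Fr (suConj_injective g τ ((hφ x).trans (by rw [e, ← hφ y])))
  obtain ⟨α, hα⟩ := fixed_point C Fr (y := sm (g : GL (Fin 3) F) τ Fr.e) fun r => by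
    obtain ⟨x, rfl⟩ := (Finite.injective_iff_surjective.1 hφi) r
    rw [← hφ x, act_suConj, emb_act_e]
  have e1 : 𝕙 (sm (g : GL (Fin 3) F) τ Fr.f) (α • Fr.e) = 1 := by
    rw [← hα, sm_pres g.2, Fr.hfe, map_one]
  rw [smul_right C] at e1
  have hσα : C.σ α ≠ 0 := left_ne_zero_of_mul_eq_one e1
  obtain ⟨r, hr, hrf⟩ := Fr.exists_rad_of_point C (y := C.σ α • sm (g : GL (Fin 3) F) τ Fr.f)
    (by rw [smul_left C, smul_right C, sm_pres g.2, Fr.hff, map_zero, mul_zero, mul_zero])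
    (by rw [smul_left C]; exact e1)
  rw [← emb_range] at hr
  obtain ⟨x₀, rfl⟩ := hr
  have he : sm ((toGU (emb C Fr x₀))⁻¹ * g : GU3).1 τ Fr.e = α • Fr.e := act_inj (emb C Fr x₀) (by
    rw [← sm_toGU_mul, mul_inv_cancel_left, hα, act_smul, emb_act_e])
  have hf : sm ((toGU (emb C Fr x₀))⁻¹ * g : GU3).1 τ Fr.f = (C.σ α)⁻¹ • Fr.f :=
    act_inj (emb C Fr x₀) (by
      rw [← sm_toGU_mul, mul_inv_cancel_left, act_smul, hrf, inv_smul_smul₀ hσα])
  obtain ⟨μ, hμ⟩ := diag_of_lines he hf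
  exact ⟨x₀, _, α, μ, (mul_inv_cancel_left _ _).symm, hμ⟩

end radical

/-! ### the fixer of the anisotropic vector -/

variable (C Fr)

/-- Coordinates in the frame. -/
noncomputable def toCoord : M3 :=
  LinearMap.toMatrix' (LinearMap.pi ![form C Fr.f, form C Fr.e, form C bb])

/-- The vector with given coordinates. -/
noncomputable def ofCoord : M3 :=
  LinearMap.toMatrix' ((LinearMap.proj (R := F) (φ := fun _ : Fin 3 => F) 0).smulRight Fr.e +
    (LinearMap.proj (R := F) (φ := fun _ : Fin 3 => F) 1).smulRight Fr.f +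
    (LinearMap.proj (R := F) (φ := fun _ : Fin 3 => F) 2).smulRight bb)

theorem toCoord_mulVec (x : V3) :
    toCoord C Fr *ᵥ x = ![𝕙 x Fr.f, 𝕙 x Fr.e, 𝕙 x bb] := by
  rw [toCoord, LinearMap.toMatrix'_mulVec]
  funext i
  fin_cases i <;> rfl

theorem ofCoord_mulVec (c : V3) :
    ofCoord Fr *ᵥ c = c 0 • Fr.e + c 1 • Fr.f + c 2 • bb := by
  rw [ofCoord, LinearMap.toMatrix'_mulVec]
  rfl

theorem of_to : ofCoord Fr * toCoord C Fr = 1 := by
  refine Matrix.ext_of_mulVec_single fun i => ?_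
  rw [← Matrix.mulVec_mulVec, Matrix.one_mulVec, toCoord_mulVec, ofCoord_mulVec]
  exact (expand3 C Fr _).symm

theorem to_of : toCoord C Fr * ofCoord Fr = 1 := mul_eq_one_comm.1 (of_to C Fr)

/-- The matrix with given matrix in the coordinates. -/
noncomputable def frameMat (B : M3) : M3 := ofCoord Fr * B * toCoord C Fr

theorem frameMat_mulVec (B : M3) (x : V3) :
    frameMat C Fr B *ᵥ x = ofCoord Fr *ᵥ (B *ᵥ ![𝕙 x Fr.f, 𝕙 x Fr.e, 𝕙 x bb]) := by
  rw [frameMat, ← Matrix.mulVec_mulVec, ← Matrix.mulVec_mulVec, toCoord_mulVec]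

theorem frameMat_mul (A B : M3) :
    frameMat C Fr A * frameMat C Fr B = frameMat C Fr (A * B) := by
  simp only [frameMat, Matrix.mul_assoc]
  congr 2
  rw [← Matrix.mul_assoc (toCoord C Fr), to_of, Matrix.one_mul]

theorem det_frameMat (B : M3) : (frameMat C Fr B).det = B.det := by
  have h := congrArg Matrix.det (of_to C Fr)
  rw [Matrix.det_mul, Matrix.det_one] at h
  rw [frameMat, Matrix.det_mul, Matrix.det_mul]
  linear_combination B.det * h

theorem h_coord (x y : V3) : 𝕙 x y = 𝕙 x Fr.f * C.σ (𝕙 y Fr.e) + 𝕙 x Fr.e * C.σ (𝕙 y Fr.f) +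
    𝕙 x bb * C.σ (𝕙 y bb) := by
  conv_lhs => rw [expand3 C Fr y]
  rw [add_right C, add_right C, smul_right C, smul_right C, smul_right C]
  conv_lhs =>
    rw [expand3 C Fr x]
  simp only [add_left C, smul_left C, Fr.hee, Fr.hef, Fr.hfe, Fr.hff, Fr.hbe, Fr.hbf,
    Fr.hbe' C, Fr.hbf' C, hbb C Fr]
  ring

local notation "K" => Hermitian.fixed C.σ.toRingHom

theorem coe_fixed (x : K) : C.σ (x : F) = x := Hermitian.mem_fixed.1 x.2

/-- The block matrix of a two by two matrix. -/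
def block (A : Matrix (Fin 2) (Fin 2) K) : M3 :=
  !![(A 0 0 : F), (A 0 1 : F), 0; (A 1 0 : F), (A 1 1 : F), 0; 0, 0, 1]

theorem block_mul (A B : Matrix (Fin 2) (Fin 2) K) :
    block C A * block C B = block C (A * B) := by
  have key : ∀ i j, (((A * B) i j : K) : F) = (A i 0 : F) * B 0 j + (A i 1 : F) * B 1 j := fun i j => by
    rw [Matrix.mul_apply, Fin.sum_univ_two, Subfield.coe_add, Subfield.coe_mul, Subfield.coe_mul]
  ext i j
  fin_cases i <;> fin_cases j <;>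
    simp [block, Matrix.mul_apply, Fin.sum_univ_three]
  all_goals exact (key _ _).symm

theorem det_block (A : Matrix.SpecialLinearGroup (Fin 2) K) :
    (block C (A : Matrix (Fin 2) (Fin 2) K)).det = 1 := by
  have h : (A : Matrix (Fin 2) (Fin 2) K) 0 0 * (A : Matrix (Fin 2) (Fin 2) K) 1 1 -
      (A : Matrix (Fin 2) (Fin 2) K) 0 1 * (A : Matrix (Fin 2) (Fin 2) K) 1 0 = 1 := by
    rw [← Matrix.det_fin_two]; exact A.2
  have h' := congrArg (fun z : K => (z : F)) h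
  simp only [Subfield.coe_sub, Subfield.coe_mul, Subfield.coe_one] at h'
  rw [block, Matrix.det_fin_three]
  simp
  linear_combination h'

variable [CharP F 2]

theorem exists_rho (A : Matrix.SpecialLinearGroup (Fin 2) K) :
    ∃ s : SU3, ∀ x, act s x = frameMat C Fr (block C (A : Matrix (Fin 2) (Fin 2) K)) *ᵥ x := by
  refine exists_SU _ (by rw [det_frameMat, det_block]) fun x y => ?_
  have h : ((A : Matrix (Fin 2) (Fin 2) K) 0 0 : F) * (A : Matrix (Fin 2) (Fin 2) K) 1 1 -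
      (A : Matrix (Fin 2) (Fin 2) K) 0 1 * (A : Matrix (Fin 2) (Fin 2) K) 1 0 = 1 := by
    have h1 := congrArg (fun z : K => (z : F))
      ((Matrix.det_fin_two (A : Matrix (Fin 2) (Fin 2) K)).symm.trans A.2)
    simp only [Subfield.coe_sub, Subfield.coe_mul, Subfield.coe_one] at h1
    exact h1
  have k : ∀ z : V3, 𝕙 (frameMat C Fr (block C (A : Matrix (Fin 2) (Fin 2) K)) *ᵥ z) Fr.f =
      (A : Matrix (Fin 2) (Fin 2) K) 0 0 * 𝕙 z Fr.f + (A : Matrix (Fin 2) (Fin 2) K) 0 1 * 𝕙 z Fr.e ∧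
      𝕙 (frameMat C Fr (block C (A : Matrix (Fin 2) (Fin 2) K)) *ᵥ z) Fr.e =
      (A : Matrix (Fin 2) (Fin 2) K) 1 0 * 𝕙 z Fr.f + (A : Matrix (Fin 2) (Fin 2) K) 1 1 * 𝕙 z Fr.e ∧
      𝕙 (frameMat C Fr (block C (A : Matrix (Fin 2) (Fin 2) K)) *ᵥ z) bb = 𝕙 z bb := fun z =>
    coord3 C Fr (by
      rw [frameMat_mulVec, ofCoord_mulVec]
      simp [block, Matrix.mulVec, dotProduct, Fin.sum_univ_three])
  obtain ⟨x1, x2, x3⟩ := k x
  obtain ⟨y1, y2, y3⟩ := k y
  rw [h_coord C Fr (frameMat C Fr _ *ᵥ x), x1, x2, x3, y1, y2, y3, h_coord C Fr x y]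
  simp only [map_add, map_mul, coe_fixed]
  have e2 : (2 : F) = 0 := CharTwo.two_eq_zero
  linear_combination (𝕙 x Fr.f * C.σ (𝕙 y Fr.e) + 𝕙 x Fr.e * C.σ (𝕙 y Fr.f)) * h +
    (((A : Matrix (Fin 2) (Fin 2) K) 0 0 : F) * (A : Matrix (Fin 2) (Fin 2) K) 1 0 *
      𝕙 x Fr.f * C.σ (𝕙 y Fr.f) +
    ((A : Matrix (Fin 2) (Fin 2) K) 0 1 : F) * (A : Matrix (Fin 2) (Fin 2) K) 1 1 *
      𝕙 x Fr.e * C.σ (𝕙 y Fr.e) +
    ((A : Matrix (Fin 2) (Fin 2) K) 0 1 : F) * (A : Matrix (Fin 2) (Fin 2) K) 1 0 *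
      (𝕙 x Fr.f * C.σ (𝕙 y Fr.e) + 𝕙 x Fr.e * C.σ (𝕙 y Fr.f))) * e2

/-- The two by two matrices over the fixed field inside `SU`. -/
noncomputable def rho : Matrix.SpecialLinearGroup (Fin 2) K →* SU3 :=
  MonoidHom.mk' (fun A => (exists_rho C Fr A).choose) fun A B => ext_act fun x => by
    rw [act_mul, (exists_rho C Fr (A * B)).choose_spec, (exists_rho C Fr A).choose_spec,
      (exists_rho C Fr B).choose_spec, Matrix.mulVec_mulVec, frameMat_mul, block_mul]
    rfl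

theorem rho_coord (A : Matrix.SpecialLinearGroup (Fin 2) K) (x : V3) :
    act (rho C Fr A) x =
      ((A : Matrix (Fin 2) (Fin 2) K) 0 0 * 𝕙 x Fr.f + (A : Matrix (Fin 2) (Fin 2) K) 0 1 * 𝕙 x Fr.e) • Fr.e +
      ((A : Matrix (Fin 2) (Fin 2) K) 1 0 * 𝕙 x Fr.f + (A : Matrix (Fin 2) (Fin 2) K) 1 1 * 𝕙 x Fr.e) • Fr.f +
      𝕙 x bb • bb := by
  refine ((exists_rho C Fr A).choose_spec x).trans ?_
  rw [frameMat_mulVec, ofCoord_mulVec]
  simp [block, Matrix.mulVec, dotProduct, Fin.sum_univ_three]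

theorem rho_e (A : Matrix.SpecialLinearGroup (Fin 2) K) :
    act (rho C Fr A) Fr.e = ((A : Matrix (Fin 2) (Fin 2) K) 0 0 : F) • Fr.e +
      ((A : Matrix (Fin 2) (Fin 2) K) 1 0 : F) • Fr.f := by
  rw [rho_coord, Fr.hee, Fr.hef, Fr.hbe' C]; simp

theorem rho_f (A : Matrix.SpecialLinearGroup (Fin 2) K) :
    act (rho C Fr A) Fr.f = ((A : Matrix (Fin 2) (Fin 2) K) 0 1 : F) • Fr.e +
      ((A : Matrix (Fin 2) (Fin 2) K) 1 1 : F) • Fr.f := by
  rw [rho_coord, Fr.hff, Fr.hfe, Fr.hbf' C]; simp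

theorem rho_b (A : Matrix.SpecialLinearGroup (Fin 2) K) : act (rho C Fr A) bb = bb := by
  rw [rho_coord, Fr.hbe, Fr.hbf, hbb C Fr]; simp

theorem rho_injective : Function.Injective (rho C Fr) := fun A B e => by
  have h1 := rho_e C Fr A
  have h2 := rho_f C Fr A
  rw [e, rho_e] at h1
  rw [e, rho_f] at h2
  obtain ⟨a1, a2, -⟩ := coord3 C Fr (a := ((A : Matrix (Fin 2) (Fin 2) K) 0 0 : F))
    (b := ((A : Matrix (Fin 2) (Fin 2) K) 1 0 : F)) (c := 0)
    (x := act (rho C Fr A) Fr.e) (by rw [rho_e, zero_smul, add_zero])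
  obtain ⟨a3, a4, -⟩ := coord3 C Fr (a := ((A : Matrix (Fin 2) (Fin 2) K) 0 1 : F))
    (b := ((A : Matrix (Fin 2) (Fin 2) K) 1 1 : F)) (c := 0)
    (x := act (rho C Fr A) Fr.f) (by rw [rho_f, zero_smul, add_zero])
  obtain ⟨b1, b2, -⟩ := coord3 C Fr (a := ((B : Matrix (Fin 2) (Fin 2) K) 0 0 : F))
    (b := ((B : Matrix (Fin 2) (Fin 2) K) 1 0 : F)) (c := 0)
    (x := act (rho C Fr B) Fr.e) (by rw [rho_e, zero_smul, add_zero])
  obtain ⟨b3, b4, -⟩ := coord3 C Fr (a := ((B : Matrix (Fin 2) (Fin 2) K) 0 1 : F))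
    (b := ((B : Matrix (Fin 2) (Fin 2) K) 1 1 : F)) (c := 0)
    (x := act (rho C Fr B) Fr.f) (by rw [rho_f, zero_smul, add_zero])
  rw [e] at a1 a2 a3 a4
  refine Matrix.SpecialLinearGroup.ext _ _ fun i j => ?_
  fin_cases i <;> fin_cases j
  · exact Subtype.ext (a1.symm.trans b1)
  · exact Subtype.ext (a3.symm.trans b3)
  · exact Subtype.ext (a2.symm.trans b2)
  · exact Subtype.ext (a4.symm.trans b4)

/-- An element of `SU` fixing the anisotropic vector lies in the image. -/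
theorem mem_rho_range {s : SU3} (hs : act s bb = bb) : s ∈ (rho C Fr).range := by
  have hcoord : ∀ x : V3, 𝕙 x bb = 0 → 𝕙 (act s x) bb = 0 := fun x hx => by
    conv_lhs => rw [← hs]
    rw [act_pres]; exact hx
  obtain ⟨p, hp⟩ : ∃ p, p = 𝕙 (act s Fr.e) Fr.f := ⟨_, rfl⟩
  obtain ⟨u, hu⟩ : ∃ u, u = 𝕙 (act s Fr.e) Fr.e := ⟨_, rfl⟩
  obtain ⟨r, hr⟩ : ∃ r, r = 𝕙 (act s Fr.f) Fr.f := ⟨_, rfl⟩
  obtain ⟨t, ht⟩ : ∃ t, t = 𝕙 (act s Fr.f) Fr.e := ⟨_, rfl⟩
  have he : act s Fr.e = p • Fr.e + u • Fr.f := by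
    conv_lhs => rw [expand3 C Fr (act s Fr.e), hcoord _ (Fr.hbe' C 0), ← hp, ← hu]
    simp
  have hf : act s Fr.f = r • Fr.e + t • Fr.f := by
    conv_lhs => rw [expand3 C Fr (act s Fr.f), hcoord _ (Fr.hbf' C 0), ← hr, ← ht]
    simp
  have k1 := act_pres s Fr.e Fr.e
  have k2 := act_pres s Fr.f Fr.f
  have k3 := act_pres s Fr.e Fr.f
  rw [he, Fr.hee] at k1
  rw [hf, Fr.hff] at k2
  rw [he, hf, Fr.hef] at k3
  simp only [add_left C, add_right C, smul_left C, smul_right C, Fr.hee, Fr.hef, Fr.hfe,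
    Fr.hff] at k1 k2 k3
  have hdet : p * t - r * u = 1 := by
    have hM : ((s : Matrix.SpecialLinearGroup (Fin 3) F) : M3) * ofCoord Fr =
        ofCoord Fr * !![p, r, 0; u, t, 0; 0, 0, 1] := by
      refine Matrix.ext_of_mulVec_single fun i => ?_
      rw [← Matrix.mulVec_mulVec, ← Matrix.mulVec_mulVec, ofCoord_mulVec, ofCoord_mulVec]
      show act s _ = _
      simp only [act_add, act_smul, he, hf, hs, Matrix.mulVec, dotProduct, Fin.sum_univ_three]
      simp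
      module
    have h1 := congrArg Matrix.det hM
    rw [Matrix.det_mul, Matrix.det_mul, (s : Matrix.SpecialLinearGroup (Fin 3) F).2] at h1
    have h2 : (ofCoord Fr).det ≠ 0 := left_ne_zero_of_mul_eq_one
      ((Matrix.det_mul _ _).symm.trans ((congrArg Matrix.det (of_to C Fr)).trans Matrix.det_one))
    have h3 : (!![p, r, 0; u, t, 0; 0, 0, 1] : M3).det = 1 :=
      mul_left_cancel₀ h2 (by rw [← h1, one_mul, mul_one])
    rw [Matrix.det_fin_three] at h3
    simpa using h3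
  have e2 : (2 : F) = 0 := CharTwo.two_eq_zero
  have k3' := congrArg C.σ k3
  simp only [map_add, map_mul, C.invol, map_zero, map_one] at k3'
  have hpf : C.σ p = p := by
    linear_combination -(C.σ p) * hdet - r * k1 + p * k3'
  have huf : C.σ u = u := by
    linear_combination -(C.σ u) * hdet + t * k1 - u * k3' - u * e2
  have hrf : C.σ r = r := by
    linear_combination -(C.σ r) * hdet + r * k3 - p * k2 + (C.σ r * p * t - C.σ r * r * u) * e2
  have htf : C.σ t = t := by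
    linear_combination -(C.σ t) * hdet + t * k3 - u * k2
  let A : Matrix.SpecialLinearGroup (Fin 2) K :=
    ⟨!![⟨p, Hermitian.mem_fixed.2 hpf⟩, ⟨r, Hermitian.mem_fixed.2 hrf⟩;
        ⟨u, Hermitian.mem_fixed.2 huf⟩, ⟨t, Hermitian.mem_fixed.2 htf⟩], by
      rw [Matrix.det_fin_two]
      refine Subtype.ext ?_
      simp only [Subfield.coe_sub, Subfield.coe_mul, Subfield.coe_one]
      exact hdet⟩
  refine ⟨A, ext3 C Fr ?_ ?_ ?_⟩
  · rw [rho_e, he]; rfl
  · rw [rho_f, hf]; rfl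
  · rw [rho_b, hs]

theorem rho_scalar {A : Matrix.SpecialLinearGroup (Fin 2) K} {a : F}
    (ha : ∀ x, act (rho C Fr A) x = a • x) : A = 1 := by
  refine rho_injective C Fr ?_
  have h1 := ha bb
  rw [rho_b] at h1
  have ha1 : a = 1 := smul_left_injective F (bb_ne C Fr) (h1.symm.trans (one_smul _ _).symm)
  rw [map_one]
  exact ext_act fun x => by rw [ha, ha1, one_smul, act_one]

/-- A linear map fixing the hyperbolic pair commutes with the fixer of the anisotropic vector. -/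
theorem suConj_rho {g : GU3} {μ : F} (hg : Diag C Fr g 1 1 μ)
    (A : Matrix.SpecialLinearGroup (Fin 2) K) : suConj g 1 (rho C Fr A) = rho C Fr A := by
  refine ext_act fun x => ?_
  obtain ⟨y, rfl⟩ := sm_surj g 1 x
  rw [act_suConj]
  have e : ∀ z : V3, sm (g : GL (Fin 3) F) 1 z =
      𝕙 z Fr.f • Fr.e + 𝕙 z Fr.e • Fr.f + (𝕙 z bb * μ) • bb := fun z => by
    conv_lhs => rw [expand3 C Fr z]
    rw [sm_add, sm_add, sm_smul, sm_smul, sm_smul, hg.e, hg.f, hg.b]
    simp [smul_smul]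
  obtain ⟨k1, k2, k3⟩ := coord3 C Fr (rho_coord C Fr A y)
  obtain ⟨l1, l2, l3⟩ := coord3 C Fr (e y)
  rw [e, k1, k2, k3, rho_coord C Fr A (sm _ _ y), l1, l2, l3]

/-- A semilinear isometry commuting up to scalars with a homology fixes its line. -/
theorem fix_of_comm {g d : GU3} {τ : F ≃+* F} {ν a : F} (hd : Diag C Fr d 1 1 ν) (hν : ν ≠ 1)
    (hcomm : ∀ x, sm (g : GL (Fin 3) F) τ (sm (d : GL (Fin 3) F) 1 x) =
      a • sm (d : GL (Fin 3) F) 1 (sm (g : GL (Fin 3) F) τ x)) :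
    τ ν = ν ∧ ∃ β : F, sm (g : GL (Fin 3) F) τ bb = β • bb := by
  have ed : ∀ z : V3, sm (d : GL (Fin 3) F) 1 z =
      𝕙 z Fr.f • Fr.e + 𝕙 z Fr.e • Fr.f + (𝕙 z bb * ν) • bb := fun z => by
    conv_lhs => rw [expand3 C Fr z]
    rw [sm_add, sm_add, sm_smul, sm_smul, sm_smul, hd.e, hd.f, hd.b]
    simp [smul_smul]
  obtain ⟨ye, hye⟩ : ∃ y, y = sm (g : GL (Fin 3) F) τ Fr.e := ⟨_, rfl⟩
  obtain ⟨yb, hyb⟩ : ∃ y, y = sm (g : GL (Fin 3) F) τ bb := ⟨_, rfl⟩
  have h1 := hcomm Fr.e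
  rw [hd.e, one_smul, ← hye, ed ye, smul_add, smul_add, smul_smul, smul_smul, smul_smul] at h1
  obtain ⟨c1, c2, c3⟩ := coord3 C Fr h1
  have ha : a = 1 := by
    by_contra hne
    have z1 : 𝕙 ye Fr.f = 0 := by
      by_contra h0
      exact hne (mul_right_cancel₀ h0 (by rw [one_mul]; exact c1.symm))
    have z2 : 𝕙 ye Fr.e = 0 := by
      by_contra h0
      exact hne (mul_right_cancel₀ h0 (by rw [one_mul]; exact c2.symm))
    have z := h_coord C Fr ye ye
    rw [z1, z2, hye, sm_pres g.2, Fr.hee, map_zero, ← hye] at z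
    have z3 : 𝕙 ye bb = 0 := by
      simp only [map_zero, zero_mul, zero_add] at z
      rcases mul_eq_zero.1 z.symm with h0 | h0
      · exact h0
      · exact (map_eq_zero C.σ).1 h0
    refine Fr.e_ne_zero C (sm_inj (g : GL (Fin 3) F) τ ?_)
    rw [← hye, sm_zero, expand3 C Fr ye, z1, z2, z3]
    simp
  subst ha
  have h2 := hcomm bb
  rw [hd.b, sm_smul, ← hyb, one_smul, ed yb] at h2
  obtain ⟨d1, d2, d3⟩ := coord3 C Fr h2
  rw [smul_left C] at d1 d2 d3
  have hτν : τ ν ≠ 1 := fun e => hν (τ.injective (e.trans (map_one τ).symm))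
  have y1 : 𝕙 yb Fr.f = 0 := by
    by_contra h0
    exact hτν (mul_right_cancel₀ h0 (by rw [one_mul]; exact d1))
  have y2 : 𝕙 yb Fr.e = 0 := by
    by_contra h0
    exact hτν (mul_right_cancel₀ h0 (by rw [one_mul]; exact d2))
  have hb : yb = 𝕙 yb bb • bb := by
    conv_lhs => rw [expand3 C Fr yb, y1, y2]
    simp
  refine ⟨mul_right_cancel₀ (fun h0 => bb_ne C Fr (sm_inj (g : GL (Fin 3) F) τ ?_))
    (d3.trans (mul_comm _ _)), ⟨_, hyb ▸ hb⟩⟩
  rw [← hyb, sm_zero, hb, h0, zero_smul]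

end Cfsg.Agent.UThreeEven.Coord
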