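import Cfsg.Agent.Lib.UThreeEven.Setup
import Cfsg.Agent.Lib.UThreeEven.ModelFrame
import Cfsg.Agent.Lib.AutPSU.Final
import Cfsg.Agent.Lib.CentralInter.SU3Mult
import Cfsg.Agent.S0282
import Cfsg.Agent.S3961

/-!
The covering map from `SU₃(q)` onto `U₀`, and the semilinear isometry attached to an element of the
centraliser of `t`.
-/

set_option autoImplicit false
set_option linter.unusedSectionVars false
set_option linter.style.haveILetI false

namespace Cfsg.Agent.UThreeEven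

open Subgroup Cfsg.Agent.AutPSU Coord
open scoped commutatorElement

universe u v

/-- Two maps of a perfect group which agree modulo the centre agree. -/
theorem hom_ext_center {P H : Type*} [Group P] [Group H] (hP : commutator P = ⊤) (a b : P →* H)
    (hc : ∀ x, (b x)⁻¹ * a x ∈ Subgroup.center H) : a = b := by
  refine MonoidHom.ext fun x => ?_
  suffices commutator P ≤ a.eqLocus b from this (hP ▸ Subgroup.mem_top x)
  rw [_root_.commutator_def, Subgroup.commutator_le]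
  intro x _ y _
  show a ⁅x, y⁆ = b ⁅x, y⁆
  have k : ∀ (p p' z : H), z ∈ Subgroup.center H → ⁅p * z, p'⁆ = ⁅p, p'⁆ := fun p p' z hz => by
    have e : z * p' * z⁻¹ = p' := by
      rw [← Subgroup.mem_center_iff.1 hz p', mul_inv_cancel_right]
    calc ⁅p * z, p'⁆ = p * (z * p' * z⁻¹) * p⁻¹ * p'⁻¹ := by rw [commutatorElement_def]; group
      _ = ⁅p, p'⁆ := by rw [e, commutatorElement_def]
  have k' : ∀ (p p' z : H), z ∈ Subgroup.center H → ⁅p, p' * z⁆ = ⁅p, p'⁆ := fun p p' z hz => by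
    rw [← commutatorElement_inv, k p' p z hz, commutatorElement_inv]
  rw [map_commutatorElement, map_commutatorElement, ← mul_inv_cancel_left (b x) (a x),
    ← mul_inv_cancel_left (b y) (a y), k _ _ _ (hc x), k' _ _ _ (hc y)]

theorem two_le {X : Type u} [Group X] [Finite X] (hq : Cfsg.IsQuasisimple X) {F : Type v} [Field F]
    [Fintype F] {n : ℕ} (hF : Fintype.card F = 4 ^ n)
    (e : (X ⧸ Subgroup.center X) ≃* Cfsg.PSU 3 F (2 ^ n)) : 2 ≤ n := by
  by_contra hn
  have h1 := Fintype.one_lt_card (α := F)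
  obtain rfl : n = 1 := by
    rcases n with _ | n
    · rw [hF] at h1; omega
    · omega
  haveI := (S0282.result (F := F) (by rw [hF]; norm_num)).2
  haveI := hq.2
  haveI : Group.IsSolvable (X ⧸ Subgroup.center X) :=
    Group.isSolvable_of_isSolvable_injective (f := e.toMonoidHom) e.injective
  have hp : commutator (X ⧸ Subgroup.center X) = ⊤ := by
    rw [_root_.commutator_def, ← Subgroup.map_top_of_surjective _
      (QuotientGroup.mk'_surjective (Subgroup.center X)), ← Subgroup.map_commutator,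
      ← _root_.commutator_def, hq.1.commutator_eq_top]
  exact (Group.IsSolvable.commutator_lt_top_of_nontrivial (X ⧸ Subgroup.center X)).ne hp

section cover

variable {G : Type u} [Group G] [Finite G] {t : G} {E U U₀ : Subgroup G}

theorem Setup.split (hS : Setup t E U U₀) {c : G} (hc : c ∈ cen t) :
    ∃ e ∈ E, ∃ w ∈ U, c = e * w := by
  obtain ⟨-, -, hcomm, -, hsup⟩ := hS.dir
  have hE : E ≤ normalizer (U : Set G) := fun e he => by
    rw [Subgroup.mem_normalizer_iff]
    intro w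
    refine ⟨fun hw => ?_, fun hw => ?_⟩
    · rwa [show e * w * e⁻¹ = w by rw [hcomm e he w hw, mul_inv_cancel_right]]
    · have h1 := hcomm e he _ hw
      have h2 : e * (e * w * e⁻¹) * e⁻¹ = e * w * e⁻¹ := by rw [h1, mul_inv_cancel_right]
      have h3 : e * w * e⁻¹ = w := mul_left_cancel (mul_right_cancel h2)
      rwa [h3] at hw
  rw [← hsup, ← SetLike.mem_coe, Subgroup.coe_mul_of_left_le_normalizer_right E U hE] at hc
  obtain ⟨e, he, w, hw, rfl⟩ := Set.mem_mul.1 hc
  exact ⟨e, he, w, hw, rfl⟩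

theorem Setup.comm (hS : Setup t E U U₀) {e w : G} (he : e ∈ E) (hw : w ∈ U) : e * w = w * e :=
  hS.dir.2.2.1 e he w hw

theorem Setup.conj_mem (hS : Setup t E U U₀) {c x : G} (hc : c ∈ cen t) (hx : x ∈ U₀) :
    c * x * c⁻¹ ∈ U₀ := by
  obtain ⟨e, he, w, hw, rfl⟩ := hS.split hc
  have h1 : w * x * w⁻¹ ∈ U₀ := hS.nrm.conj_mem ⟨x, hS.le hx⟩ hx ⟨w, hw⟩
  have h2 : e * (w * x * w⁻¹) * e⁻¹ = w * x * w⁻¹ := by
    rw [hS.comm he (hS.le h1), mul_inv_cancel_right]
  rw [show e * w * x * (e * w)⁻¹ = e * (w * x * w⁻¹) * e⁻¹ by group, h2]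
  exact h1

variable {F : Type v} [Field F] {q : ℕ}

/-- A covering map from `SU₃(q)` onto `U₀`. -/
structure Cover (U₀ : Subgroup G) (F : Type v) [Field F] (q : ℕ) where
  η : Cfsg.SU 3 F q →* G
  range : η.range = U₀
  iso : (↥U₀ ⧸ Subgroup.center ↥U₀) ≃* Cfsg.PSU 3 F q
  spec : ∀ (s : Cfsg.SU 3 F q) (h : η s ∈ U₀), iso (QuotientGroup.mk ⟨η s, h⟩) = QuotientGroup.mk s
  perf : commutator (Cfsg.SU 3 F q) = ⊤

theorem exists_cover [Fintype F] (hq : Cfsg.IsQuasisimple ↥U₀) (hF : Fintype.card F = q ^ 2)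
    (h3 : 3 ≤ q) (e : (↥U₀ ⧸ Subgroup.center ↥U₀) ≃* Cfsg.PSU 3 F q) :
    Nonempty (Cover U₀ F q) := by
  obtain ⟨X, _, _, ⟨ι⟩⟩ := Finite.exists_type_univ_nonempty_mulEquiv.{u, v} ↥U₀
  haveI : Finite (Cfsg.SU 3 F q) := inferInstance
  have hperf : commutator (Cfsg.SU 3 F q) = ⊤ := PSUMult.perfect_su hF le_rfl (fun _ => h3)
  let ξ : X →* Cfsg.PSU 3 F q :=
    e.toMonoidHom.comp ((QuotientGroup.mk' (Subgroup.center ↥U₀)).comp ι.symm.toMonoidHom)
  have hξs : Function.Surjective ξ :=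
    e.surjective.comp ((QuotientGroup.mk'_surjective _).comp ι.symm.surjective)
  have hξk : ξ.ker ≤ Subgroup.center X := fun x hx => by
    rw [MonoidHom.mem_ker] at hx
    have h1 : ι.symm x ∈ Subgroup.center ↥U₀ :=
      (QuotientGroup.eq_one_iff (ι.symm x)).1 (e.injective (hx.trans (map_one e).symm))
    refine Subgroup.mem_center_iff.2 fun y => ι.symm.injective ?_
    rw [map_mul, map_mul]
    exact Subgroup.mem_center_iff.1 h1 _
  obtain ⟨η, hη⟩ := (S3961.result ⟨hperf⟩ (QuotientGroup.mk' (Subgroup.center (Cfsg.SU 3 F q)))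
    (QuotientGroup.mk'_surjective _) (QuotientGroup.ker_mk' _).le).2
    (PSUMult.mult_three_light hF h3) X ξ hξs hξk
  have hall : η.range = ⊤ := by
    refine top_le_iff.1 ?_
    have hX : commutator X = ⊤ := by
      rw [_root_.commutator_def, ← Subgroup.map_top_of_surjective ι.toMonoidHom ι.surjective,
        ← Subgroup.map_commutator, ← _root_.commutator_def, hq.1.commutator_eq_top]
    rw [← hX, _root_.commutator_def, Subgroup.commutator_le]
    intro x _ y _
    have hdec : ∀ x, ∃ s, (η s)⁻¹ * x ∈ Subgroup.center X := fun x => by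
      obtain ⟨s, hs⟩ := QuotientGroup.mk'_surjective (Subgroup.center (Cfsg.SU 3 F q)) (ξ x)
      refine ⟨s, hξk ?_⟩
      rw [MonoidHom.mem_ker, map_mul, map_inv, ← hs, inv_mul_eq_one]
      exact DFunLike.congr_fun hη s
    obtain ⟨a, ha⟩ := hdec x
    obtain ⟨b, hb⟩ := hdec y
    refine ⟨⁅a, b⁆, ?_⟩
    rw [map_commutatorElement, ← mul_inv_cancel_left (η a) x, ← mul_inv_cancel_left (η b) y]
    generalize (η a)⁻¹ * x = z at ha
    generalize (η b)⁻¹ * y = w at hb
    rw [commutatorElement_def, commutatorElement_def, mul_inv_rev, mul_inv_rev]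
    have hz := Subgroup.mem_center_iff.1 ha
    have hw := Subgroup.mem_center_iff.1 hb
    symm
    calc η a * z * (η b * w) * (z⁻¹ * (η a)⁻¹) * (w⁻¹ * (η b)⁻¹)
        = η a * (z * (η b * w)) * z⁻¹ * (η a)⁻¹ * w⁻¹ * (η b)⁻¹ := by group
      _ = η a * (η b * w) * (η a)⁻¹ * w⁻¹ * (η b)⁻¹ := by rw [← hz (η b * w)]; group
      _ = η a * η b * (w * (η a)⁻¹) * w⁻¹ * (η b)⁻¹ := by group
      _ = η a * η b * (η a)⁻¹ * (η b)⁻¹ := by rw [← hw (η a)⁻¹]; group
  refine ⟨⟨U₀.subtype.comp (ι.symm.toMonoidHom.comp η), ?_, e, fun s h => ?_, hperf⟩⟩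
  · rw [MonoidHom.range_comp, MonoidHom.range_comp, hall,
      Subgroup.map_top_of_surjective ι.symm.toMonoidHom ι.symm.surjective, ← MonoidHom.range_eq_map,
      Subgroup.range_subtype]
  · exact DFunLike.congr_fun hη s

variable (Cv : Cover U₀ F q)

local notation "SU3" => Cfsg.SU 3 F q
local notation "GU3" => Cfsg.GU 3 F q

theorem Cover.mem (s : SU3) : Cv.η s ∈ U₀ := Cv.range.le ⟨s, rfl⟩

theorem Cover.mk_eq {s s' : SU3} (h : Cv.η s = Cv.η s') :
    (QuotientGroup.mk s : Cfsg.PSU 3 F q) = QuotientGroup.mk s' := by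
  rw [← Cv.spec s (Cv.mem s), ← Cv.spec s' (Cv.mem s')]
  congr 2
  exact Subtype.ext h

theorem Cover.ker_le : Cv.η.ker ≤ Subgroup.center SU3 := fun s hs => by
  have h := Cv.mk_eq (s := s) (s' := 1) ((MonoidHom.mem_ker.1 hs).trans (map_one _).symm)
  rw [QuotientGroup.mk_one, QuotientGroup.eq_one_iff] at h
  exact h

theorem Cover.center_eq :
    (Subgroup.center ↥U₀).map U₀.subtype = (Subgroup.center SU3).map Cv.η := by
  ext x
  constructor
  · rintro ⟨y, hy, rfl⟩
    obtain ⟨s, hs⟩ := Cv.range.ge y.2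
    refine ⟨s, ?_, hs⟩
    have e1 := Cv.spec s (Cv.mem s)
    rw [show (⟨Cv.η s, Cv.mem s⟩ : ↥U₀) = y from Subtype.ext hs,
      (QuotientGroup.eq_one_iff y).2 hy, map_one] at e1
    exact (QuotientGroup.eq_one_iff s).1 e1.symm
  · rintro ⟨s, hs, rfl⟩
    refine ⟨⟨Cv.η s, Cv.mem s⟩, Subgroup.mem_center_iff.2 fun y => ?_, rfl⟩
    obtain ⟨w, hw⟩ := Cv.range.ge y.2
    refine Subtype.ext ?_
    show (y : G) * Cv.η s = Cv.η s * y
    rw [← hw, ← map_mul, ← map_mul, Subgroup.mem_center_iff.1 hs w]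

include Cv in
theorem Cover.card_dvd [Finite F] :
    Nat.card ↥((Subgroup.center ↥U₀).map U₀.subtype) ∣ Nat.card (Subgroup.center SU3) := by
  rw [Cv.center_eq]
  exact Subgroup.card_map_dvd _ _

/-- Conjugation by `c` on `U₀` comes from the semilinear isometry `(g, τ)`. -/
def Rep (c : G) (g : GU3) (τ : F ≃+* F) : Prop :=
  ∀ s, c * Cv.η s * c⁻¹ = Cv.η (suConj g τ s)

variable {Cv}

theorem Rep.mul {c c' : G} {g g' : GU3} {τ τ' : F ≃+* F} (h : Rep Cv c g τ) (h' : Rep Cv c' g' τ') :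
    Rep Cv (c * c') (g * mapGU τ g') (τ * τ') := fun s => by
  rw [← suConj_comp, ← h, ← h']
  group

theorem Rep.of_centralize {c : G} (h : ∀ x ∈ U₀, c * x = x * c) : Rep Cv c 1 1 := fun s => by
  rw [suConj_one, h _ (Cv.mem s), mul_inv_cancel_right]

theorem Rep.one : Rep Cv 1 1 1 := Rep.of_centralize fun x _ => by rw [one_mul, mul_one]

theorem Rep.inner (s : SU3) : Rep Cv (Cv.η s) (toGU s) 1 := fun w => by
  rw [suConj_toGU, map_mul, map_mul, map_inv]

theorem Rep.mul_one' {c c' : G} {g g' : GU3} (h : Rep Cv c g 1) (h' : Rep Cv c' g' 1) :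
    Rep Cv (c * c') (g * g') 1 := by
  have := h.mul h'
  rwa [mapGU_one, one_mul] at this

theorem Rep.pow_one' {c : G} {g : GU3} (h : Rep Cv c g 1) (k : ℕ) : Rep Cv (c ^ k) (g ^ k) 1 := by
  induction k with
  | zero => rw [pow_zero, pow_zero]; exact Rep.one
  | succ k ih => rw [pow_succ, pow_succ]; exact ih.mul_one' h

theorem Rep.pow {c : G} {g : GU3} {τ : F ≃+* F} (h : Rep Cv c g τ) (k : ℕ) :
    ∃ g', Rep Cv (c ^ k) g' (τ ^ k) := by
  induction k with
  | zero => exact ⟨1, by rw [pow_zero, pow_zero]; exact Rep.one⟩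
  | succ k ih =>
    obtain ⟨g', hg'⟩ := ih
    exact ⟨_, by rw [pow_succ, pow_succ]; exact hg'.mul h⟩

theorem Rep.semi_eq {c : G} {g g' : GU3} {τ τ' : F ≃+* F} (h : Rep Cv c g τ) (h' : Rep Cv c g' τ') :
    (semi g τ : MulAut (Cfsg.PSU 3 F q)) = semi g' τ' := MulEquiv.ext fun x => by
  induction x using QuotientGroup.induction_on with
  | _ s =>
    rw [semi_mk, semi_mk]
    exact Cv.mk_eq ((h s).symm.trans (h' s))

theorem Rep.centralize {c : G} {g : GU3} {a : F}
    (hg : ∀ x : Fin 3 → F, ((g : GL (Fin 3) F) : Matrix (Fin 3) (Fin 3) F).mulVec x = a • x)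
    (h : Rep Cv c g 1) : c ∈ centralizer (U₀ : Set G) := by
  refine Subgroup.mem_centralizer_iff.2 fun x hx => ?_
  obtain ⟨s, rfl⟩ := Cv.range.ge hx
  have e := h s
  rw [suConj_of_scalar hg] at e
  exact (mul_inv_eq_iff_eq_mul.1 e).symm

theorem Rep.exists [Fintype F] (hS : Setup t E U U₀) (hF : Fintype.card F = q ^ 2)
    (hs : q ≠ 2) {c : G} (hc : c ∈ cen t) : ∃ (g : GU3) (τ : F ≃+* F), Rep Cv c g τ := by
  let κ : ↥U₀ →* ↥U₀ := ((MulAut.conj c).toMonoidHom.comp U₀.subtype).codRestrict U₀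
    fun x => hS.conj_mem hc x.2
  have hκ : Function.Bijective κ := by
    refine Finite.injective_iff_bijective.1 fun x y e => Subtype.ext ?_
    exact (MulAut.conj c).injective (congrArg Subtype.val e)
  let K : ↥U₀ ≃* ↥U₀ := MulEquiv.ofBijective κ hκ
  let β : MulAut (Cfsg.PSU 3 F q) := Cv.iso.symm.trans
    ((QuotientGroup.congr _ _ K (Subgroup.characteristic_iff_map_eq.1 inferInstance K)).trans Cv.iso)
  obtain ⟨g, τ, hβ⟩ := exists_semi' le_rfl hF (fun h => hs h.2) β
  refine ⟨g, τ, fun s => ?_⟩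
  let η₀ : SU3 →* ↥U₀ := Cv.η.codRestrict U₀ Cv.mem
  have heq : (K.toMonoidHom.comp η₀) = η₀.comp (suConj g τ) := by
    refine hom_ext_center Cv.perf _ _ fun w => ?_
    rw [← QuotientGroup.eq_one_iff, QuotientGroup.mk_mul, QuotientGroup.mk_inv, inv_mul_eq_one]
    refine Cv.iso.injective ?_
    show Cv.iso (QuotientGroup.mk (η₀ (suConj g τ w))) = Cv.iso (QuotientGroup.mk (K (η₀ w)))
    have e2 := DFunLike.congr_fun hβ (QuotientGroup.mk w)
    rw [semi_mk] at e2
    have e3 : β (QuotientGroup.mk w) = Cv.iso (QuotientGroup.mk (K (η₀ w))) := by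
      have e4 : Cv.iso.symm (QuotientGroup.mk w) = QuotientGroup.mk (η₀ w) :=
        Cv.iso.symm_apply_eq.2 (Cv.spec w (Cv.mem w)).symm
      show Cv.iso (QuotientGroup.congr _ _ K _ (Cv.iso.symm _)) = _
      rw [e4]
      rfl
    exact (Cv.spec _ (Cv.mem _)).trans (e2.symm.trans e3)
  exact congrArg Subtype.val (DFunLike.congr_fun heq s)

end cover

end Cfsg.Agent.UThreeEven
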