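import Cfsg.Agent.Lib.UThreeEven.ModelTools

/-!
The subgroups of the model of `U₀`: the centraliser of the Sylow subgroup, the odd torus `D`, the
`SL₂(q)` centralising it, the split torus and the diagonal semilinear elements.
-/

set_option autoImplicit false
set_option linter.unusedSectionVars false
set_option linter.style.haveILetI false

namespace Cfsg.Agent.UThreeEven

open Subgroup Cfsg.Agent.AutPSU Coord
open scoped commutatorElement

universe u v

variable {G : Type u} [Group G] [Finite G] {t : G} {E U U₀ : Subgroup G}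
variable {F : Type v} [Field F] [Fintype F] {q : ℕ}
variable (C : AutPSU.Conj F q) (Fr : AutPSU.Frame F 3 q 1) (Cv : Cover U₀ F q)
variable [CharP F 2] [hi : SU3Sylow.Inv2 C.σ.toRingHom]
variable (hS : Setup t E U U₀) (hF : Fintype.card F = q ^ 2) (hq2 : q ≠ 2)

local notation "SU3" => Cfsg.SU 3 F q
local notation "GU3" => Cfsg.GU 3 F q
local notation "bb" => Fr.b 0
local notation "K" => Hermitian.fixed C.σ.toRingHom

theorem iota_range_le : (iota C Fr Cv).range ≤ U₀ := by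
  rintro _ ⟨x, rfl⟩
  exact Cv.mem _

theorem mem_Z_of {w : G} (hw : w ∈ U) {g : GU3} {a : F}
    (hg : ∀ x : Fin 3 → F, ((g : GL (Fin 3) F) : Matrix (Fin 3) (Fin 3) F).mulVec x = a • x)
    (h : Rep Cv w g 1) : w ∈ U ⊓ centralizer (U₀ : Set G) :=
  ⟨hw, h.centralize hg⟩

include hS in
theorem Z_le_U0 : U ⊓ centralizer (U₀ : Set G) ≤ U₀ := by
  rw [hS.cU]
  exact Subgroup.map_subtype_le _

include hS in
theorem conj_U {e w x : G} (he : e ∈ E) (hw : w ∈ U) (hx : x ∈ U) :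
    e * w * x * (e * w)⁻¹ = w * x * w⁻¹ := by
  rw [show e * w * x * (e * w)⁻¹ = e * (w * x * w⁻¹) * e⁻¹ by group,
    hS.comm he (U.mul_mem (U.mul_mem hw hx) (U.inv_mem hw)), mul_inv_cancel_right]

include hS in
theorem odd_two_split {c : G} (hc : c ∈ cen t) {k : ℕ} (hck : c ^ k = 1) :
    ∃ e ∈ E, ∃ w ∈ U, c = e * w ∧ e ^ k = 1 ∧ w ^ k = 1 := by
  obtain ⟨e, he, w, hw, rfl⟩ := hS.split hc
  rw [(show Commute e w from hS.comm he hw).mul_pow] at hck
  have hmem : e ^ k ∈ E ⊓ U := ⟨E.pow_mem he k, by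
    rw [eq_inv_of_mul_eq_one_left hck]; exact U.inv_mem (U.pow_mem hw k)⟩
  rw [hS.dir.2.2.2.1, Subgroup.mem_bot] at hmem
  rw [hmem, one_mul] at hck
  exact ⟨e, he, w, hw, rfl, hmem, hck⟩

/-! ### the centraliser of the Sylow subgroup -/

include hS hF hq2 in
theorem cen_S_eq :
    cen t ⊓ centralizer ((iota C Fr Cv).range : Set G) =
      E ⊔ ((center (SU3Sylow.Heis C.σ.toRingHom)).map (iota C Fr Cv) ⊔
        (U ⊓ centralizer (U₀ : Set G))) := by
  have hU := hS.U_le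
  refine le_antisymm ?_ (sup_le ?_ (sup_le ?_ ?_))
  · rintro c ⟨hc, hcS⟩
    obtain ⟨e, he, w, hw, rfl⟩ := hS.split hc
    refine mul_mem_sup he ?_
    have hws : ∀ x, w * iota C Fr Cv x * w⁻¹ = iota C Fr Cv x := fun x => by
      have h1 : e * w * iota C Fr Cv x * (e * w)⁻¹ = iota C Fr Cv x := by
        rw [← (Subgroup.mem_centralizer_iff.1 hcS _ ⟨x, rfl⟩), mul_inv_cancel_right]
      rwa [conj_U hS he hw (hS.le (iota_range_le C Fr Cv ⟨x, rfl⟩))] at h1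
    have hwn : w ∈ normalizer ((iota C Fr Cv).range : Set G) := by
      refine Subgroup.mem_normalizer_fintype fun y hy => ?_
      obtain ⟨x, rfl⟩ := hy
      exact ⟨x, (hws x).symm⟩
    haveI := Fintype.ofFinite G
    obtain ⟨g, τ, hr⟩ := Rep.exists (Cv := Cv) hS hF hq2 (hU hw)
    obtain ⟨x₀, g₀, α, μ, hr0, hd⟩ := hr.exists_diag_of hF hwn
    have hm : C.σ α * μ = 1 ∧ τ = 1 ∧ x₀ ∈ center (SU3Sylow.Heis C.σ.toRingHom) := by
      have hx : ∀ x, x₀ * SU3Sylow.Heis.scale τ (field_comm τ) (Units.mk0 _ hd.unit_ne) x * x₀⁻¹ = x :=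
        fun x => iota_injective C Fr Cv hF (by
          rw [map_mul, map_mul, map_inv, ← conj_scale hr0 hd _ rfl x]
          conv_rhs => rw [← hws x]
          group)
      have ha : ∀ a : F, C.σ α * μ * τ a = a := fun a => by
        obtain ⟨x, rfl⟩ := SU3Sylow.Heis.exists_mk (sne C) a
        have h := congrArg SU3Sylow.Heis.a (hx x)
        simp only [SU3Sylow.Heis.mul_a, SU3Sylow.Heis.inv_a, SU3Sylow.Heis.scale_a,
          Units.val_mk0] at h
        linear_combination h - x₀.a * (CharTwo.two_eq_zero : (2 : F) = 0)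
      have h1 : C.σ α * μ = 1 := by simpa using ha 1
      have h2 : τ = 1 := RingEquiv.ext fun a => by
        have := ha a
        rwa [h1, one_mul] at this
      refine ⟨h1, h2, Subgroup.mem_center_iff.2 fun x => ?_⟩
      have h3 := hx x
      subst h2
      rw [show SU3Sylow.Heis.scale (1 : F ≃+* F) (field_comm 1) (Units.mk0 _ hd.unit_ne) x = x from by
        rw [show Units.mk0 _ hd.unit_ne = (1 : Fˣ) from Units.ext h1]
        refine SU3Sylow.Heis.ext ?_ ?_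
        · rw [SU3Sylow.Heis.scale_a]; simp
        · rw [SU3Sylow.Heis.scale_b]; simp] at h3
      exact (mul_inv_eq_iff_eq_mul.1 h3).symm
    obtain ⟨h1, rfl, hx₀⟩ := hm
    have hαμ : α = μ := by
      refine C.σ.injective (mul_right_cancel₀ (left_ne_zero_of_mul_eq_one hd.norm) ?_)
      rw [h1]
      linear_combination -(hd.norm)
    subst hαμ
    rw [← mul_inv_cancel_left (iota C Fr Cv x₀) w]
    exact mul_mem_sup (mem_map_of_mem _ hx₀) (mem_Z_of Cv (U.mul_mem (U.inv_mem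
      (hS.le (iota_range_le C Fr Cv ⟨x₀, rfl⟩))) hw) (diag_scalar hd) hr0)
  · intro e he
    refine ⟨hS.dir.1 he, Subgroup.mem_centralizer_iff.2 fun y hy => ?_⟩
    exact (hS.comm he (hS.le (iota_range_le C Fr Cv hy))).symm
  · rintro _ ⟨z, hz, rfl⟩
    refine ⟨hU (hS.le (iota_range_le C Fr Cv ⟨z, rfl⟩)), Subgroup.mem_centralizer_iff.2 ?_⟩
    rintro _ ⟨x, rfl⟩
    rw [← map_mul, ← map_mul, Subgroup.mem_center_iff.1 hz x]
  · rintro z ⟨hzU, hz⟩
    exact ⟨hU hzU, Subgroup.centralizer_le (iota_range_le C Fr Cv) hz⟩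

/-! ### the diagonal semilinear elements and the torus `D` -/

/-- The elements of `U` inducing semilinear isometries diagonal in the frame. -/
def semiTorus (U : Subgroup G) : Subgroup G :=
  subgroupOfMul {w | w ∈ U ∧ ∃ (g : GU3) (τ : F ≃+* F) (α μ : F),
      Rep Cv w g τ ∧ Diag C Fr g τ α μ}
    ⟨one_mem U, 1, 1, 1, 1, Rep.one, Diag.one⟩
    fun _ ⟨hw, _, _, _, _, hr, hd⟩ _ ⟨hw', _, _, _, _, hr', hd'⟩ =>
      ⟨mul_mem hw hw', _, _, _, _, hr.mul hr', hd.mul hd'⟩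

/-- The elements of `U` inducing homologies at the anisotropic vector. -/
def oddTorus (U : Subgroup G) : Subgroup G :=
  subgroupOfMul {w | w ∈ U ∧ ∃ (g : GU3) (μ : F), Rep Cv w g 1 ∧ Diag C Fr g 1 1 μ}
    ⟨one_mem U, 1, 1, Rep.one, Diag.one⟩
    fun _ ⟨hw, g, μ, hr, hd⟩ _ ⟨hw', g', μ', hr', hd'⟩ =>
      ⟨mul_mem hw hw', g * g', μ' * μ, hr.mul_one' hr', by
        have e := diag_mul_one hd hd'
        rwa [one_mul] at e⟩

theorem oddTorus_le : oddTorus C Fr Cv U ≤ U := fun _ h => h.1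

theorem semiTorus_le : semiTorus C Fr Cv U ≤ U := fun _ h => h.1

include hS in
theorem Z_le_oddTorus : U ⊓ centralizer (U₀ : Set G) ≤ oddTorus C Fr Cv U := fun z hz =>
  ⟨hz.1, 1, 1, Rep.of_centralize fun x hx => (Subgroup.mem_centralizer_iff.1 hz.2 x hx).symm,
    Diag.one⟩

theorem mem_oddTorus {w : G} (hw : w ∈ U) {g : GU3} {α μ : F} (hr : Rep Cv w g 1)
    (hd : Diag C Fr g 1 α μ) (hα : α * C.σ α = 1) : w ∈ oddTorus C Fr Cv U := by
  let a : AutPSU.N1 C := ⟨Units.mk0 (C.σ α) ((map_ne_zero C.σ).2 hd.ne), by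
    show C.σ α * C.σ (C.σ α) = 1
    rw [C.invol, mul_comm]; exact hα⟩
  refine ⟨hw, _, C.σ α * μ, hr.scale a, ?_⟩
  have e := diag_scale hd a
  rwa [show ((a : Fˣ) : F) * α = 1 from (mul_comm _ _).trans hα] at e

theorem oddTorus_act {d : G} (hd : d ∈ oddTorus C Fr Cv U) :
    ∃ m : Fˣ, (m : F) * C.σ.toRingHom m = 1 ∧ ∀ x, d * iota C Fr Cv x * d⁻¹ =
      iota C Fr Cv (SU3Sylow.Heis.scale (RingEquiv.refl F) (fun _ => rfl) m x) := by
  obtain ⟨-, g, μ, hr, hdg⟩ := hd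
  exact ⟨Units.mk0 μ (left_ne_zero_of_mul_eq_one hdg.norm), hdg.norm,
    fun x => conj_scale hr hdg (Units.mk0 μ (left_ne_zero_of_mul_eq_one hdg.norm))
      (by rw [map_one, one_mul]; rfl) x⟩

include hF in
theorem odd_q_succ : Odd (q + 1) := by
  have h2 : (2 : ℕ) ∣ Fintype.card F := by
    obtain ⟨N, hp, hN⟩ := FiniteField.card F 2
    rw [hN]
    exact dvd_pow_self 2 N.ne_zero
  rw [hF] at h2
  exact (even_iff_two_dvd.2 (Nat.prime_two.dvd_of_dvd_pow h2)).add_one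

/-- The eigenvalue at the anisotropic vector. -/
theorem oddTorus_unique {w : G} {g g' : GU3} {μ μ' : F} (hF : Fintype.card F = q ^ 2)
    (hr : Rep Cv w g 1) (hd : Diag C Fr g 1 1 μ) (hr' : Rep Cv w g' 1)
    (hd' : Diag C Fr g' 1 1 μ') : μ = μ' := by
  obtain ⟨-, a, rfl⟩ := (semi_eq_semi C le_rfl hF).1 (hr.semi_eq hr')
  have e := diag_scale hd' a
  have he := smul_left_injective F (Fr.e_ne_zero C) (hd.e.symm.trans e.e)
  have hb := smul_left_injective F (bb_ne C Fr) (hd.b.symm.trans e.b)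
  rw [mul_one] at he
  rw [hb, ← he, one_mul]

include hS hF in
theorem oddTorus_facts (hZ : Odd (Nat.card ↥(U ⊓ centralizer (U₀ : Set G)))) :
    Odd (Nat.card ↥(oddTorus C Fr Cv U)) ∧
      ∀ a ∈ oddTorus C Fr Cv U, ∀ b ∈ oddTorus C Fr Cv U, a * b = b * a := by
  have hex : ∀ d : ↥(oddTorus C Fr Cv U), ∃ g μ, Rep Cv (d : G) g 1 ∧ Diag C Fr g 1 1 μ :=
    fun d => d.2.2
  choose gd μd hr hd using hex
  let χ₀ : ↥(oddTorus C Fr Cv U) → AutPSU.N1 C := fun d =>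
    ⟨Units.mk0 (μd d) (left_ne_zero_of_mul_eq_one (hd d).norm), (hd d).norm⟩
  let χ : ↥(oddTorus C Fr Cv U) →* AutPSU.N1 C := MonoidHom.mk' χ₀ fun d d' => by
    refine Subtype.ext (Units.ext ?_)
    show μd (d * d') = μd d * μd d'
    have e := diag_mul_one (hd d) (hd d')
    rw [one_mul] at e
    rw [oddTorus_unique C Fr Cv hF (hr (d * d')) (hd _) ((hr d).mul_one' (hr d')) e, mul_comm]
  have hker : ∀ d ∈ χ.ker, (d : G) ∈ U ⊓ centralizer (U₀ : Set G) := fun d hdk => by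
    have h1 : μd d = 1 := congrArg (fun a : AutPSU.N1 C => ((a : Fˣ) : F)) (MonoidHom.mem_ker.1 hdk)
    have e := hd d
    rw [h1] at e
    exact mem_Z_of Cv d.2.1 (diag_scalar e) (hr d)
  constructor
  · rw [← Subgroup.card_mul_index χ.ker, Subgroup.index_ker]
    refine Odd.mul (Odd.of_dvd_nat hZ ?_) (Odd.of_dvd_nat (odd_q_succ (F := F) hF) ?_)
    · rw [← Subgroup.card_map_of_injective (oddTorus C Fr Cv U).subtype_injective]
      refine Subgroup.card_dvd_of_le ?_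
      rintro _ ⟨d, hdk, rfl⟩
      exact hker d hdk
    · rw [← card_N1 C le_rfl hF]
      exact Subgroup.card_subgroup_dvd_card _
  · haveI : IsCyclic (AutPSU.N1 C) := inferInstance
    intro a ha b hb
    refine congrArg Subtype.val (commutative_of_cyclic_center_quotient χ ?_ ⟨a, ha⟩ ⟨b, hb⟩)
    intro z hz
    refine Subgroup.mem_center_iff.2 fun d => Subtype.ext ?_
    obtain ⟨y, hy, hyz⟩ := (hS.cU.le (hker z hz))
    obtain ⟨s, hs⟩ := Cv.range.ge y.2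
    obtain ⟨s', hs', hyz'⟩ := (Cv.center_eq.le ⟨y, hy, hyz⟩)
    obtain ⟨c, hc⟩ := (mem_center_iff C (by norm_num) hF s').1 hs'
    show (d : G) * z = z * d
    rw [← hyz', ← mul_inv_eq_iff_eq_mul, hr d s']
    congr 1
    refine ext_act fun x => ?_
    obtain ⟨y', rfl⟩ := sm_surj (gd d) 1 x
    rw [act_suConj, hc, hc, sm_smul]
    rfl

include hS hF in
theorem oddTorus_moved (hq : 3 ≤ q) : ∃ d ∈ oddTorus C Fr Cv U, ∃ m : Fˣ,
    (m : F) * C.σ.toRingHom m = 1 ∧ C.σ.toRingHom (m : F) ≠ m ∧ ∀ x, d * iota C Fr Cv x * d⁻¹ =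
      iota C Fr Cv (SU3Sylow.Heis.scale (RingEquiv.refl F) (fun _ => rfl) m x) := by
  obtain ⟨lam, hlam⟩ := IsCyclic.exists_generator (α := AutPSU.N1 C)
  have h3 : lam ^ 3 ≠ 1 := fun h => by
    have h1 := orderOf_dvd_of_pow_eq_one h
    rw [orderOf_eq_card_of_forall_mem_zpowers hlam, card_N1 C le_rfl hF] at h1
    have := Nat.le_of_dvd (by norm_num) h1
    omega
  obtain ⟨d, hdd⟩ : ∃ d : F, d = ((lam : Fˣ) : F) := ⟨_, rfl⟩
  have hd0 : d ≠ 0 := hdd ▸ Units.ne_zero _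
  have hn : d * C.σ d = 1 := hdd ▸ lam.2
  obtain ⟨s, ⟨-, hse, hsf⟩, hsb⟩ := Fr.exists_InL_diag C (0 : Fin 1) hd0
  have hbv : act s bb = (C.σ d / d) • bb := by
    rw [hsb _ (Fr.b_mem C 0), hbb C Fr]
    module
  have hg : Diag C Fr (toGU s) 1 d (C.σ d / d) :=
    ⟨hd0, hse, hsf, hbv⟩
  have hrs : Rep Cv (Cv.η s) (toGU s) 1 := Rep.inner s
  have hmem : Cv.η s ∈ oddTorus C Fr Cv U := mem_oddTorus C Fr Cv (hS.le (Cv.mem s)) hrs hg hn
  have hσm : C.σ d * (C.σ d / d) * C.σ (C.σ d * (C.σ d / d)) = 1 := by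
    rw [map_mul, map_div₀, C.invol]
    field_simp
    linear_combination hn
  have hm0 : C.σ d * (C.σ d / d) ≠ 0 := left_ne_zero_of_mul_eq_one hσm
  refine ⟨Cv.η s, hmem, Units.mk0 _ hm0, hσm, fun h => h3 ?_,
    fun x => conj_scale hrs hg _ rfl x⟩
  simp only [Units.val_mk0] at h
  have h' : C.σ (C.σ d * (C.σ d / d)) = C.σ d * (C.σ d / d) := h
  rw [h'] at hσm
  have h1 : C.σ d * (C.σ d / d) = 1 := eq_one_of_pow_two_pow (j := 1) (by rw [pow_one, sq]; exact hσm)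
  refine Subtype.ext (Units.ext ?_)
  show ((lam : Fˣ) : F) ^ 3 = 1
  rw [← hdd]
  have h2 : C.σ d * C.σ d = d := by
    rw [mul_div_assoc', div_eq_iff hd0, one_mul] at h1
    exact h1
  linear_combination (d * C.σ d + 1) * hn - d ^ 2 * h2

include hS hF hq2 in
theorem oddTorus_hall {c : G} (hc : c ∈ cen t) (hodd : Odd (orderOf c))
    (hn : c ∈ normalizer ((iota C Fr Cv).range : Set G))
    (hz : c ∈ centralizer (((center (SU3Sylow.Heis C.σ.toRingHom)).map (iota C Fr Cv) : Subgroup G) : Set G)) :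
    c ∈ (iota C Fr Cv).range ⊔ oddTorus C Fr Cv U := by
  obtain ⟨e, he, w, hw, rfl, hek, hwk⟩ := odd_two_split hS hc (pow_orderOf_eq_one c)
  obtain ⟨j, hj⟩ := hodd
  rw [hj, pow_succ, pow_mul, hS.ea.2 e he, one_pow, one_mul] at hek
  subst hek
  rw [one_mul] at hn hz hwk hj ⊢
  obtain ⟨g, τ, hr⟩ := Rep.exists (Cv := Cv) hS hF hq2 (hS.U_le hw)
  obtain ⟨x₀, g₀, α, μ, hr0, hd⟩ := hr.exists_diag_of hF hn
  have hfix : ∀ k : F, C.σ k = k → C.σ α * μ * (α * C.σ μ) * τ k = k := fun k hk => by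
    let z : SU3Sylow.Heis C.σ.toRingHom := SU3Sylow.Heis.cen ⟨k, Hermitian.mem_fixed.2 hk⟩
    have hzc : z ∈ center (SU3Sylow.Heis C.σ.toRingHom) :=
      (SU3Sylow.Heis.mem_center_iff (sne C) z).2 rfl
    have h1 := Subgroup.mem_centralizer_iff.1 hz _ (mem_map_of_mem (iota C Fr Cv) hzc)
    have h2 : SU3Sylow.Heis.scale τ (field_comm τ) (Units.mk0 _ hd.unit_ne) z = z := by
      refine iota_injective C Fr Cv hF ((conj_scale hr0 hd _ rfl z).symm.trans ?_)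
      have h3 : iota C Fr Cv x₀ * iota C Fr Cv z = iota C Fr Cv z * iota C Fr Cv x₀ := by
        rw [← map_mul, ← map_mul, Subgroup.mem_center_iff.1 hzc x₀]
      calc (iota C Fr Cv x₀)⁻¹ * w * iota C Fr Cv z * ((iota C Fr Cv x₀)⁻¹ * w)⁻¹
          = (iota C Fr Cv x₀)⁻¹ * (w * iota C Fr Cv z * w⁻¹) * iota C Fr Cv x₀ := by group
        _ = (iota C Fr Cv x₀)⁻¹ * (iota C Fr Cv z * iota C Fr Cv x₀) := by
          rw [← h1, mul_inv_cancel_right, mul_assoc]
        _ = iota C Fr Cv z := by rw [← h3, inv_mul_cancel_left]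
    have h4 := congrArg SU3Sylow.Heis.b h2
    rw [SU3Sylow.Heis.scale_b] at h4
    simp only [Units.val_mk0, RingEquiv.toRingHom_eq_coe, RingHom.coe_coe, map_mul, C.invol] at h4
    exact h4
  have hnorm : C.σ α * μ * (α * C.σ μ) = 1 := by simpa using hfix 1 (map_one _)
  have hτ2 : τ ^ 2 = 1 := sq_eq_one_of_fixed (C := C) fun k hk => by
    have := hfix k hk
    rwa [hnorm, one_mul] at this
  have hτ : τ = 1 := by
    obtain ⟨g', hr'⟩ := hr.pow (orderOf w)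
    rw [hwk, hj] at hr'
    have e1 := ((semi_eq_semi C le_rfl hF).1 (hr'.semi_eq Rep.one)).1
    rwa [pow_succ, pow_mul, hτ2, one_pow, one_mul] at e1
  subst hτ
  rw [← mul_inv_cancel_left (iota C Fr Cv x₀) w]
  refine mul_mem_sup ⟨x₀, rfl⟩ (mem_oddTorus C Fr Cv (U.mul_mem (U.inv_mem
      (hS.le (iota_range_le C Fr Cv ⟨x₀, rfl⟩))) hw) hr0 hd ?_)
  linear_combination hnorm - (α * C.σ α) * hd.norm

/-! ### `SL₂(q)` and the split torus -/

/-- The fixer of the anisotropic vector in `U₀`. -/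
noncomputable def sl2Part : Subgroup G := (Cv.η.comp (rho C Fr)).range

theorem sl2Part_le : sl2Part C Fr Cv ≤ U₀ := by
  rintro _ ⟨A, rfl⟩
  exact Cv.mem _

include hF in
theorem sl2Part_iso :
    Nonempty (↥(sl2Part C Fr Cv) ≃* Matrix.ProjectiveSpecialLinearGroup (Fin 2) ↥K) := by
  have hinj : Function.Injective (Cv.η.comp (rho C Fr)) := by
    refine (injective_iff_map_eq_one _).2 fun A hA => ?_
    obtain ⟨a, ha⟩ := (mem_center_iff C (by norm_num) hF _).1 (Cv.ker_le (MonoidHom.mem_ker.2 hA))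
    exact rho_scalar C Fr ha
  have hc : Subgroup.center (Matrix.SpecialLinearGroup (Fin 2) ↥K) = ⊥ := by
    refine (Subgroup.eq_bot_iff_forall _).2 fun A hA => ?_
    obtain ⟨r, hr, hA'⟩ := Matrix.SpecialLinearGroup.mem_center_iff.1 hA
    rw [Fintype.card_fin] at hr
    have hr1 : r = 1 := Subtype.ext (eq_one_of_pow_two_pow (j := 1)
      (by rw [pow_one, ← SubmonoidClass.coe_pow, hr]; rfl))
    refine Subtype.ext ?_
    rw [← hA', hr1, map_one]
    rfl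
  exact ⟨(MonoidHom.ofInjective hinj).symm.trans (MulEquiv.ofBijective
    (QuotientGroup.mk' (Subgroup.center (Matrix.SpecialLinearGroup (Fin 2) ↥K)))
    ⟨(MonoidHom.ker_eq_bot_iff _).1 (by rw [QuotientGroup.ker_mk', hc]),
      QuotientGroup.mk'_surjective _⟩)⟩

theorem sl2Part_comm {j : G} (hj : j ∈ sl2Part C Fr Cv) {d : G} (hd : d ∈ oddTorus C Fr Cv U) :
    j * d = d * j := by
  obtain ⟨A, rfl⟩ := hj
  obtain ⟨-, g, μ, hr, hdg⟩ := hd
  have e := hr (rho C Fr A)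
  rw [suConj_rho C Fr hdg A] at e
  exact (mul_inv_eq_iff_eq_mul.1 e).symm

theorem center_le_sl2Part :
    (center (SU3Sylow.Heis C.σ.toRingHom)).map (iota C Fr Cv) ≤ sl2Part C Fr Cv := by
  rintro _ ⟨z, hz, rfl⟩
  have ha := (SU3Sylow.Heis.mem_center_iff (sne C) z).1 hz
  obtain ⟨A, hA⟩ := mem_rho_range C Fr (s := emb C Fr z) (by
    rw [emb_act_b, ha, map_zero, zero_smul, add_zero])
  exact ⟨A, by rw [MonoidHom.comp_apply, hA]; rfl⟩

include hS hF in
theorem sl2Part_two (hZ : Odd (Nat.card ↥(U ⊓ centralizer (U₀ : Set G)))) (hq : 3 ≤ q) {c : G}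
    (hc : c ∈ cen t) (h2 : IsPGroup 2 (zpowers c))
    (hD : c ∈ centralizer (oddTorus C Fr Cv U : Set G)) : c ∈ E ⊔ sl2Part C Fr Cv := by
  obtain ⟨d, hd, m, hm1, hmσ, hdm⟩ := oddTorus_moved C Fr Cv hS hF hq
  obtain ⟨hdU, dg, ν, hrd, hdg⟩ := hd
  have hνm : ν = (m : F) := by
    obtain ⟨x, hx⟩ := SU3Sylow.Heis.exists_mk (sne C) (1 : F)
    have e := congrArg SU3Sylow.Heis.a (iota_injective C Fr Cv hF
      ((conj_scale hrd hdg (Units.mk0 ν (left_ne_zero_of_mul_eq_one hdg.norm))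
        (by rw [map_one, one_mul]; rfl) x).symm.trans (hdm x)))
    erw [SU3Sylow.Heis.scale_a, SU3Sylow.Heis.scale_a] at e
    simp only [hx, Units.val_mk0, map_one, mul_one] at e
    exact e
  have hν : C.σ ν ≠ ν := hνm ▸ hmσ
  have hν1 : ν ≠ 1 := fun e => hν (by rw [e, map_one])
  obtain ⟨j, hj⟩ := h2 ⟨c, mem_zpowers c⟩
  have hcj : c ^ 2 ^ j = 1 := congrArg Subtype.val hj
  obtain ⟨e, he, w, hw, rfl, -, hwk⟩ := odd_two_split hS hc hcj
  refine mul_mem_sup he ?_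
  have hwd : w * d = d * w := by
    have h1 := Subgroup.mem_centralizer_iff.1 hD d
      (show d ∈ oddTorus C Fr Cv U from ⟨hdU, dg, ν, hrd, hdg⟩)
    have h3 : e * (w * d) = e * (d * w) := by
      rw [← mul_assoc, ← h1, ← mul_assoc, ← mul_assoc e d w, hS.comm he hdU]
    exact mul_left_cancel h3
  obtain ⟨g, τ, hr⟩ := Rep.exists (Cv := Cv) hS hF (show q ≠ 2 by omega) (hS.U_le hw)
  have k1 := hr.mul hrd
  have k2 := hrd.mul hr
  rw [hwd] at k1
  obtain ⟨-, a, ha⟩ := (semi_eq_semi C le_rfl hF).1 (k1.semi_eq k2)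
  rw [mapGU_one] at ha
  obtain ⟨hτν, β, hβ⟩ := fix_of_comm C Fr (g := g) (τ := τ) (a := ((a : Fˣ) : F)) hdg hν1 fun x => by
    rw [sm_comp, mul_one, ha, sm_comp, mapGU_one, one_mul, ← scU_mulVec C a, sm, sm,
      Matrix.mulVec_mulVec]
    rfl
  have hτ : τ = 1 := by
    obtain ⟨g', hr'⟩ := hr.pow (2 ^ j)
    rw [hwk] at hr'
    exact eq_one_of_two_power (C := C) ((semi_eq_semi C le_rfl hF).1 (hr'.semi_eq Rep.one)).1 hτν hν
  subst hτ
  have hβn : β * C.σ β = 1 := by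
    have e1 := sm_pres (q := q) g.2 (1 : F ≃+* F) bb bb
    rw [hβ, smul_left C, smul_right C, hbb C Fr] at e1
    simpa using e1
  let a' : AutPSU.N1 C := ⟨Units.mk0 (C.σ β) (right_ne_zero_of_mul_eq_one hβn), by
    show C.σ β * C.σ (C.σ β) = 1
    rw [C.invol, mul_comm]; exact hβn⟩
  have hr1 := hr.scale a'
  generalize hg' : scU C a' * g = g' at hr1
  have hgb : sm (g' : GL (Fin 3) F) 1 bb = bb := by
    have : sm (g' : GL (Fin 3) F) 1 bb = C.σ β • sm (g : GL (Fin 3) F) 1 bb := by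
      rw [← hg', sm, sm, show C.σ β = ((a' : Fˣ) : F) from rfl, ← scU_mulVec C a',
        Matrix.mulVec_mulVec]
      rfl
    rw [this, hβ, smul_smul, mul_comm, hβn, one_smul]
  have hpow := hr1.pow_one' (2 ^ j)
  rw [hwk] at hpow
  obtain ⟨-, a₂, ha₂⟩ := (semi_eq_semi C le_rfl hF).1 (hpow.semi_eq Rep.one)
  rw [mul_one] at ha₂
  have hfix : ∀ k : ℕ, sm ((g' ^ k : GU3) : GL (Fin 3) F) 1 bb = bb := fun k => by
    induction k with
    | zero => rw [pow_zero, sm_one]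
    | succ k ih =>
      have e1 := sm_comp g' (g' ^ k) (1 : F ≃+* F) 1 bb
      rw [ih, hgb, mapGU_one, one_mul] at e1
      rw [pow_succ', ← e1]
  have hg1 : g' ^ 2 ^ j = 1 := by
    have e1 := hfix (2 ^ j)
    rw [ha₂, sm_gu, scU_mulVec] at e1
    have e2 : ((a₂ : Fˣ) : F) = 1 :=
      smul_left_injective F (bb_ne C Fr) (e1.trans (one_smul _ _).symm)
    rw [ha₂, show a₂ = 1 from Subtype.ext (Units.ext e2), map_one]
  have hdet : ((g' : GL (Fin 3) F) : Matrix (Fin 3) (Fin 3) F).det = 1 := by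
    refine eq_one_of_pow_two_pow (j := j) ?_
    rw [← Matrix.det_pow, ← Units.val_pow_eq_pow_val, ← SubmonoidClass.coe_pow, hg1]
    simp
  obtain ⟨s, hs⟩ := exists_SU (q := q) _ hdet (fun x y => g'.2 x y)
  obtain rfl : toGU s = g' := Subtype.ext (Units.ext (Matrix.ext_of_mulVec_single fun i => hs _))
  obtain ⟨A, rfl⟩ := mem_rho_range C Fr (s := s) hgb
  have hrz : Rep Cv (Cv.η (rho C Fr A)⁻¹ * w) (toGU (rho C Fr A)⁻¹ * toGU (rho C Fr A)) 1 :=
    (Rep.inner _).mul_one' hr1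
  rw [← toGU_mul, inv_mul_cancel, toGU_one, map_inv] at hrz
  have hz := mem_Z_of Cv (U.mul_mem (U.inv_mem (hS.le (Cv.mem _))) hw) (a := (1 : F))
    (g := (1 : GU3)) (fun x => by simp) hrz
  have hs1 : (rho C Fr A) ^ 2 ^ j = 1 := by
    refine toGU_injective (Eq.trans ?_ (toGU_one (F := F) (q := q)).symm)
    rw [← hg1]
    exact map_pow (MonoidHom.mk' (toGU : SU3 → GU3) toGU_mul) _ _
  obtain ⟨z, hz'⟩ : ∃ z, z = (Cv.η (rho C Fr A))⁻¹ * w := ⟨_, rfl⟩
  rw [← hz'] at hz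
  have hwz : w = Cv.η (rho C Fr A) * z := by rw [hz', mul_inv_cancel_left]
  have hcz : Commute (Cv.η (rho C Fr A)) z := Subgroup.mem_centralizer_iff.1 hz.2 _ (Cv.mem _)
  have hzp : z ^ 2 ^ j = 1 := by
    have h5 := hwk
    rw [hwz, hcz.mul_pow, ← map_pow, hs1, map_one, one_mul] at h5
    exact h5
  have hz1 : z = 1 := by
    refine orderOf_eq_one_iff.1 (Nat.eq_one_of_dvd_coprimes
      (Nat.Coprime.pow_left j (Nat.coprime_two_left.2 hZ)) (orderOf_dvd_of_pow_eq_one hzp) ?_)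
    rw [← Subgroup.orderOf_mk z hz]
    exact orderOf_dvd_natCard _
  rw [hwz, hz1, mul_one]
  exact ⟨A, rfl⟩

/-- The diagonal matrices in `SL₂`. -/
noncomputable def diag2 : (↥K)ˣ →* Matrix.SpecialLinearGroup (Fin 2) ↥K where
  toFun l := ⟨Matrix.diagonal ![(l : ↥K), ((l⁻¹ : (↥K)ˣ) : ↥K)], by
    rw [Matrix.det_diagonal, Fin.prod_univ_two]
    exact l.mul_inv⟩
  map_one' := Subtype.ext (by
    show Matrix.diagonal _ = 1
    rw [← Matrix.diagonal_one]
    congr 1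
    funext i
    fin_cases i <;> rfl)
  map_mul' l l' := Subtype.ext (by
    show Matrix.diagonal _ = Matrix.diagonal _ * Matrix.diagonal _
    rw [Matrix.diagonal_mul_diagonal]
    congr 1
    funext i
    fin_cases i
    · rfl
    · exact congrArg Units.val (mul_inv l l'))

theorem diag2_entries (l : (↥K)ˣ) :
    (diag2 C l : Matrix (Fin 2) (Fin 2) ↥K) 0 0 = l ∧
      (diag2 C l : Matrix (Fin 2) (Fin 2) ↥K) 1 0 = 0 ∧
      (diag2 C l : Matrix (Fin 2) (Fin 2) ↥K) 0 1 = 0 ∧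
      (diag2 C l : Matrix (Fin 2) (Fin 2) ↥K) 1 1 = ((l⁻¹ : (↥K)ˣ) : ↥K) :=
  ⟨Matrix.diagonal_apply_eq _ _, Matrix.diagonal_apply_ne _ (by decide),
    Matrix.diagonal_apply_ne _ (by decide), Matrix.diagonal_apply_eq _ _⟩

/-- The split torus. -/
noncomputable def splitTorus : Subgroup G := ((Cv.η.comp (rho C Fr)).comp (diag2 C)).range

theorem splitTorus_le : splitTorus C Fr Cv ≤ sl2Part C Fr Cv := by
  rintro _ ⟨l, rfl⟩
  exact ⟨_, rfl⟩

theorem splitTorus_comm : ∀ a ∈ splitTorus C Fr Cv, ∀ b ∈ splitTorus C Fr Cv, a * b = b * a := by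
  rintro _ ⟨l, rfl⟩ _ ⟨l', rfl⟩
  rw [← map_mul, ← map_mul, mul_comm]

include hF in
theorem splitTorus_odd : Odd (Nat.card ↥(splitTorus C Fr Cv)) := by
  refine Odd.of_dvd_nat ?_ (Subgroup.card_range_dvd _)
  have h1 : Nat.card ↥K ^ 2 = q ^ 2 := by
    rw [← Hermitian.card_eq_sq (sne C) C.invol, Nat.card_eq_fintype_card, hF]
  rw [Nat.card_units, Nat.pow_left_injective two_ne_zero h1]
  obtain ⟨k, hk⟩ := odd_q_succ (F := F) hF
  have h2 := two_le_q (n := 3) le_rfl hF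
  exact ⟨k - 1, by omega⟩

theorem diag_diag2 (l : (↥K)ˣ) :
    Diag C Fr (toGU (rho C Fr (diag2 C l))) 1 ((l : ↥K) : F) 1 := by
  have hl : ((l : ↥K) : F) ≠ 0 := fun h => l.ne_zero (Subtype.ext h)
  refine ⟨hl, ?_, ?_, ?_⟩
  · obtain ⟨h00, h10, -, -⟩ := diag2_entries C l
    rw [sm_toGU, rho_e, h00, h10, Subfield.coe_zero, zero_smul, add_zero]
  · obtain ⟨-, -, h01, h11⟩ := diag2_entries C l
    rw [sm_toGU, rho_f, coe_fixed C (l : ↥K), h01, h11, Subfield.coe_zero, zero_smul, zero_add]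
    congr 1
    rw [Units.val_inv_eq_inv_val, Subfield.coe_inv]
  · rw [sm_toGU, rho_b, one_smul]

theorem splitTorus_act (l : (↥K)ˣ) (m : Fˣ) (hm : (m : F) = ((l : ↥K) : F))
    (x : SU3Sylow.Heis C.σ.toRingHom) :
    Cv.η (rho C Fr (diag2 C l)) * iota C Fr Cv x * (Cv.η (rho C Fr (diag2 C l)))⁻¹ =
      iota C Fr Cv (SU3Sylow.Heis.scale (RingEquiv.refl F) (fun _ => rfl) m x) :=
  conj_scale (Rep.inner _) (diag_diag2 C Fr l) m (by rw [mul_one, coe_fixed C (l : ↥K), hm]) x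

theorem semiTorus_conj_split {w : G} (hw : w ∈ semiTorus C Fr Cv U) {h : G}
    (hh : h ∈ splitTorus C Fr Cv) : w * h * w⁻¹ ∈ splitTorus C Fr Cv := by
  obtain ⟨l, rfl⟩ := hh
  obtain ⟨-, g, τ, α, μ, hr, hd⟩ := hw
  let τK : ↥K →+* ↥K := (τ.toRingHom.comp (Hermitian.fixed C.σ.toRingHom).subtype).codRestrict _
    fun k => Hermitian.mem_fixed.2 ((field_comm τ (k : F)).symm.trans
      (congrArg τ (Hermitian.mem_fixed.1 k.2)))
  refine ⟨Units.map τK.toMonoidHom l, ?_⟩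
  show Cv.η (rho C Fr (diag2 C _)) = w * Cv.η (rho C Fr (diag2 C l)) * w⁻¹
  rw [hr]
  congr 1
  have hl := diag_diag2 C Fr l
  have hl' := diag_diag2 C Fr (Units.map τK.toMonoidHom l)
  have hα := hd.ne
  refine ext3 C Fr ?_ ?_ ?_
  · refine (smul_right_injective _ hα) (?_ : α • _ = α • _)
    rw [← act_smul, ← act_smul, ← hd.e, act_suConj, hd.e]
    rw [show act (rho C Fr (diag2 C l)) Fr.e = ((l : ↥K) : F) • Fr.e from hl.e, sm_smul, hd.e,
      act_smul, show act (rho C Fr (diag2 C (Units.map τK.toMonoidHom l))) Fr.e = _ from hl'.e,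
      smul_smul, smul_smul, mul_comm]
    rfl
  · have hσα : (C.σ α)⁻¹ ≠ 0 := inv_ne_zero ((map_ne_zero C.σ).2 hα)
    refine (smul_right_injective _ hσα) (?_ : (C.σ α)⁻¹ • _ = (C.σ α)⁻¹ • _)
    rw [← act_smul, ← act_smul, ← hd.f, act_suConj, hd.f]
    rw [show act (rho C Fr (diag2 C l)) Fr.f = _ from hl.f, sm_smul, hd.f, act_smul,
      show act (rho C Fr (diag2 C (Units.map τK.toMonoidHom l))) Fr.f = _ from hl'.f,
      smul_smul, smul_smul, mul_comm, map_inv₀]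
    congr 2
    rw [coe_fixed, coe_fixed]
    rfl
  · refine (smul_right_injective _ (left_ne_zero_of_mul_eq_one hd.norm)) (?_ : μ • _ = μ • _)
    rw [← act_smul, ← act_smul, ← hd.b, act_suConj, hd.b]
    rw [show act (rho C Fr (diag2 C l)) bb = _ from hl.b, sm_smul, hd.b, map_one, one_smul,
      act_smul, show act (rho C Fr (diag2 C (Units.map τK.toMonoidHom l))) bb = _ from hl'.b,
      one_smul]

include hF in
theorem semiTorus_conj_odd {w : G} (hw : w ∈ semiTorus C Fr Cv U) {d : G}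
    (hd : d ∈ oddTorus C Fr Cv U) : w * d * w⁻¹ ∈ oddTorus C Fr Cv U := by
  obtain ⟨hdU, dg, ν, hrd, hdg⟩ := hd
  obtain ⟨hwU, g, τ, α, μ, hr, hdw⟩ := hw
  obtain ⟨-, g', τ', α', μ', hr', hd'⟩ :
      w⁻¹ ∈ semiTorus C Fr Cv U := inv_mem ⟨hwU, g, τ, α, μ, hr, hdw⟩
  have h1 := hr.mul hr'
  rw [mul_inv_cancel] at h1
  obtain ⟨hττ, hn, -⟩ := one_diag hF h1 (hdw.mul hd')
  have h2 := (hr.mul hrd).mul hr'
  have h3 := (hdw.mul hdg).mul hd'
  simp only [mul_one, map_one, one_mul] at h2 h3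
  rw [hττ] at h2 h3
  exact mem_oddTorus C Fr Cv (U.mul_mem (U.mul_mem hwU hdU) (U.inv_mem hwU)) h2 h3 hn

theorem semiTorus_normalize {w : G} (hw : w ∈ semiTorus C Fr Cv U) :
    w ∈ normalizer ((iota C Fr Cv).range : Set G) := by
  obtain ⟨-, g, τ, α, μ, hr, hd⟩ := hw
  refine Subgroup.mem_normalizer_fintype fun y hy => ?_
  obtain ⟨x, rfl⟩ := hy
  exact ⟨_, (conj_scale hr hd (Units.mk0 _ hd.unit_ne) rfl x).symm⟩

include hS hF hq2 in
theorem normalizer_decomp {w : G} (hw : w ∈ U)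
    (hn : w ∈ normalizer ((iota C Fr Cv).range : Set G)) :
    ∃ x₀, (iota C Fr Cv x₀)⁻¹ * w ∈ semiTorus C Fr Cv U := by
  obtain ⟨g, τ, hr⟩ := Rep.exists (Cv := Cv) hS hF hq2 (hS.U_le hw)
  obtain ⟨x₀, g₀, α, μ, hr0, hd⟩ := hr.exists_diag_of hF hn
  exact ⟨x₀, U.mul_mem (U.inv_mem (hS.le (iota_range_le C Fr Cv ⟨x₀, rfl⟩))) hw,
    g₀, τ, α, μ, hr0, hd⟩

/-! ### the derived subgroup -/

/-- The elements of `U` inducing linear automorphisms. -/
def linPart (U : Subgroup G) : Subgroup G :=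
  subgroupOfMul {w | w ∈ U ∧ ∃ g : GU3, Rep Cv w g 1} ⟨one_mem U, 1, Rep.one⟩
    fun _ ⟨hw, _, hr⟩ _ ⟨hw', _, hr'⟩ => ⟨mul_mem hw hw', _, hr.mul_one' hr'⟩

include C hS hF hq2 in
theorem commutator_le_linPart : ⁅cen t, cen t⁆ ≤ linPart Cv U := by
  rw [Subgroup.commutator_le]
  intro a ha b hb
  obtain ⟨e, he, w, hw, rfl⟩ := hS.split ha
  obtain ⟨e', he', w', hw', rfl⟩ := hS.split hb
  have hee : e * e' = e' * e :=
    congrArg Subtype.val (hS.ea.1.is_comm.comm ⟨e, he⟩ ⟨e', he'⟩)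
  have key : ⁅e * w, e' * w'⁆ = ⁅w, w'⁆ := by
    have c1 : Commute e w := hS.comm he hw
    have c2 : Commute e w' := hS.comm he hw'
    have c3 : Commute e' w := hS.comm he' hw
    have c4 : Commute e' w' := hS.comm he' hw'
    have c5 : Commute e e' := hee
    have k1 : Commute e (e' * w') := c5.mul_right c2
    have k2 : Commute e' w := c3
    calc ⁅e * w, e' * w'⁆ = e * (w * (e' * w') * w⁻¹) * e⁻¹ * (e' * w')⁻¹ := by
          rw [commutatorElement_def]; group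
      _ = w * (e' * w') * w⁻¹ * (e' * w')⁻¹ := by
          have k3 : Commute e (w * (e' * w') * w⁻¹) := (c1.mul_right k1).mul_right c1.inv_right
          rw [k3.eq, mul_inv_cancel_right]
      _ = (e' * w) * w' * w⁻¹ * w'⁻¹ * e'⁻¹ := by rw [← mul_assoc w e' w', ← k2.eq]; group
      _ = e' * ⁅w, w'⁆ * e'⁻¹ := by rw [commutatorElement_def]; group
      _ = ⁅w, w'⁆ := by
          have k4 : Commute e' ⁅w, w'⁆ := by
            rw [commutatorElement_def]
            exact ((c3.mul_right c4).mul_right c3.inv_right).mul_right c4.inv_right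
          rw [k4.eq, mul_inv_cancel_right]
  rw [key]
  have hmem : ⁅w, w'⁆ ∈ U := by
    rw [commutatorElement_def]
    exact U.mul_mem (U.mul_mem (U.mul_mem hw hw') (U.inv_mem hw)) (U.inv_mem hw')
  refine ⟨hmem, ?_⟩
  obtain ⟨g1, τ1, hr1⟩ := Rep.exists (Cv := Cv) hS hF hq2 (hS.U_le hw)
  obtain ⟨g2, τ2, hr2⟩ := Rep.exists (Cv := Cv) hS hF hq2 (hS.U_le hw')
  obtain ⟨g3, τ3, hr3⟩ := Rep.exists (Cv := Cv) hS hF hq2 (hS.U_le (U.inv_mem hw))
  obtain ⟨g4, τ4, hr4⟩ := Rep.exists (Cv := Cv) hS hF hq2 (hS.U_le (U.inv_mem hw'))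
  have h13 : τ1 * τ3 = 1 := by
    have h := hr1.mul hr3
    rw [mul_inv_cancel] at h
    exact ((semi_eq_semi C le_rfl hF).1 (h.semi_eq Rep.one)).1
  have h24 : τ2 * τ4 = 1 := by
    have h := hr2.mul hr4
    rw [mul_inv_cancel] at h
    exact ((semi_eq_semi C le_rfl hF).1 (h.semi_eq Rep.one)).1
  have h := ((hr1.mul hr2).mul hr3).mul hr4
  rw [← commutatorElement_def, AutPSL.ringAut_comm τ1 τ2, mul_assoc τ2, h13, mul_one, h24] at h
  exact ⟨_, h⟩

include C Cv hS hF hq2 in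
theorem two_commutator_le {c : G} (hc : c ∈ ⁅cen t, cen t⁆) (h2 : IsPGroup 2 (zpowers c)) :
    c ∈ U₀ := by
  obtain ⟨hcU, g, hr⟩ := commutator_le_linPart C Cv hS hF hq2 hc
  obtain ⟨j, hj⟩ := h2 ⟨c, mem_zpowers c⟩
  have hcj : c ^ 2 ^ j = 1 := congrArg Subtype.val hj
  have hpow := hr.pow_one' (2 ^ j)
  rw [hcj] at hpow
  obtain ⟨-, a, ha⟩ := (semi_eq_semi C le_rfl hF).1 (hpow.semi_eq Rep.one)
  rw [mul_one] at ha
  have hcop : (Nat.card (AutPSU.N1 C)).Coprime (2 ^ j) := by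
    rw [card_N1 C le_rfl hF]
    exact Nat.Coprime.pow_right j (Nat.coprime_two_right.2 (odd_q_succ (F := F) hF))
  obtain ⟨b, hb⟩ := (powCoprime hcop).surjective a
  have hb' : b ^ 2 ^ j = a := hb
  have hinn : (semi g 1 : MulAut (Cfsg.PSU 3 F q)) ∈ Cfsg.Inn (Cfsg.PSU 3 F q) := by
    refine (semi_mem_inn C le_rfl hF g).2 ⟨b, ?_⟩
    refine (powCoprime hcop).injective ?_
    show (b ^ 3) ^ 2 ^ j = _ ^ 2 ^ j
    rw [← map_pow, ha, det_scU, ← hb', pow_right_comm]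
  obtain ⟨x, hx⟩ := hinn
  obtain ⟨s, rfl⟩ := QuotientGroup.mk_surjective x
  rw [inner_eq_semi] at hx
  obtain ⟨-, a', ha'⟩ := (semi_eq_semi C le_rfl hF).1 hx.symm
  have hr' : Rep Cv ((Cv.η s)⁻¹ * c) (toGU s⁻¹ * g) 1 := by
    rw [← map_inv]
    exact (Rep.inner _).mul_one' hr
  have hzc : toGU s⁻¹ * g = scU C a' := by
    have e : g = scU C a' * toGU s := ha'
    rw [e, scU_comm, ← mul_assoc, ← toGU_mul, inv_mul_cancel, toGU_one, one_mul]
  rw [hzc] at hr'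
  have hz := mem_Z_of Cv (U.mul_mem (U.inv_mem (hS.le (Cv.mem s))) hcU) (scU_mulVec C a') hr'
  have := U₀.mul_mem (Cv.mem s) (Z_le_U0 hS hz)
  rwa [mul_inv_cancel_left] at this

end Cfsg.Agent.UThreeEven
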