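import Cfsg.Agent.Lib.UThreeEven.ModelCover
import Cfsg.Agent.Lib.AutPSU.GraphInvAut

/-!
Auxiliary facts for the model of `U₀`: the embedded radical, rescaling, and decomposition of the
normaliser of the Sylow subgroup.
-/

set_option autoImplicit false
set_option linter.unusedSectionVars false
set_option linter.style.haveILetI false

namespace Cfsg.Agent.UThreeEven

open Subgroup Cfsg.Agent.AutPSU Coord

universe u v

/-- A subset of a finite group closed under products and containing `1` is a subgroup. -/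
def subgroupOfMul {G : Type u} [Group G] [Finite G] (S : Set G) (h1 : (1 : G) ∈ S)
    (hmul : ∀ a ∈ S, ∀ b ∈ S, a * b ∈ S) : Subgroup G where
  carrier := S
  one_mem' := h1
  mul_mem' := fun ha hb => hmul _ ha _ hb
  inv_mem' := fun {a} ha => by
    have hp : ∀ k : ℕ, a ^ k ∈ S := fun k => by
      induction k with
      | zero => rwa [pow_zero]
      | succ k ih => rw [pow_succ]; exact hmul _ ih _ ha
    have e : a⁻¹ = a ^ (orderOf a - 1) := inv_eq_of_mul_eq_one_left (by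
      rw [← pow_succ, Nat.sub_add_cancel (orderOf_pos a), pow_orderOf_eq_one])
    rw [e]
    exact hp _

section tools

variable {G : Type u} [Group G] [Finite G] {t : G} {E U U₀ : Subgroup G}
variable {F : Type v} [Field F] [Fintype F] {q : ℕ}
variable (C : AutPSU.Conj F q) (Fr : AutPSU.Frame F 3 q 1) (Cv : Cover U₀ F q)
variable [CharP F 2] [hi : SU3Sylow.Inv2 C.σ.toRingHom]
variable (hF : Fintype.card F = q ^ 2)

local notation "SU3" => Cfsg.SU 3 F q
local notation "GU3" => Cfsg.GU 3 F q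
local notation "V3" => Fin 3 → F
local notation "bb" => Fr.b 0

theorem sne : C.σ.toRingHom ≠ RingHom.id F := fun e => by
  obtain ⟨μ, hμ⟩ := C.ne_one
  exact hμ (RingHom.congr_fun e μ)

/-- The Sylow subgroup of `U₀` in coordinates. -/
noncomputable def iota : SU3Sylow.Heis C.σ.toRingHom →* G := Cv.η.comp (emb C Fr)

theorem toGU_mul (s s' : SU3) : toGU (s * s') = toGU s * toGU s' := Subtype.ext (map_mul _ _ _)

theorem toGU_one : toGU (1 : SU3) = 1 := Subtype.ext (map_one _)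

theorem toGU_inv (s : SU3) : toGU s⁻¹ = (toGU s)⁻¹ :=
  eq_inv_of_mul_eq_one_left (by rw [← toGU_mul, inv_mul_cancel, toGU_one])

theorem toGU_injective : Function.Injective (toGU : SU3 → GU3) := fun s s' e =>
  ext_act fun x => by rw [← sm_toGU, ← sm_toGU, e]

include C hF in
theorem eq_of_eta {r r' : SU3} {a b : ℕ} (hr : r ^ 2 ^ a = 1) (hr' : r' ^ 2 ^ b = 1)
    (h : Cv.η r = Cv.η r') : r = r' := by
  haveI : Fact (Nat.Prime 2) := ⟨Nat.prime_two⟩
  exact eq_of_mk_eq C (by norm_num) hF 2 hr hr' (Cv.mk_eq h)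

theorem emb_pow (x : SU3Sylow.Heis C.σ.toRingHom) : emb C Fr x ^ 2 ^ 2 = 1 := by
  haveI : Fact (Nat.Prime 2) := ⟨Nat.prime_two⟩
  exact Fr.rad_pow C 2 (emb_spec C Fr x).1

include hF in
theorem iota_injective : Function.Injective (iota C Fr Cv) := fun x y h =>
  emb_injective C Fr (eq_of_eta C Cv hF (emb_pow C Fr x) (emb_pow C Fr y) h)

variable {C Fr Cv}

include hF in
theorem iota_eq_suConj {c : G} {g : GU3} {τ : F ≃+* F} (h : Rep Cv c g τ)
    {x y : SU3Sylow.Heis C.σ.toRingHom} (e : c * iota C Fr Cv x * c⁻¹ = iota C Fr Cv y) :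
    suConj g τ (emb C Fr x) = emb C Fr y :=
  eq_of_eta C Cv hF (by rw [← map_pow, emb_pow, map_one]) (emb_pow C Fr y)
    ((h (emb C Fr x)).symm.trans e)

theorem conj_scale {c : G} {g : GU3} {τ : F ≃+* F} {α μ : F} (h : Rep Cv c g τ)
    (hd : Diag C Fr g τ α μ) (m : Fˣ) (hm : (m : F) = C.σ α * μ)
    (x : SU3Sylow.Heis C.σ.toRingHom) :
    c * iota C Fr Cv x * c⁻¹ =
      iota C Fr Cv (SU3Sylow.Heis.scale τ (field_comm τ) m x) := by
  obtain rfl : m = Units.mk0 _ hd.unit_ne := Units.ext hm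
  exact (h (emb C Fr x)).trans (congrArg Cv.η (hd.conj x))

theorem Rep.scale {c : G} {g : GU3} {τ : F ≃+* F} (h : Rep Cv c g τ) (a : AutPSU.N1 C) :
    Rep Cv c (scU C a * g) τ := fun s => by
  rw [h s]
  congr 1
  have e := suConj_comp (scU C a) g 1 τ s
  rw [mapGU_one, one_mul] at e
  rw [← e, suConj_of_scalar (scU_mulVec C a)]

theorem diag_scale {g : GU3} {τ : F ≃+* F} {α μ : F} (hd : Diag C Fr g τ α μ)
    (a : AutPSU.N1 C) :
    Diag C Fr (scU C a * g) τ (((a : Fˣ) : F) * α) (((a : Fˣ) : F) * μ) := by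
  have k : ∀ z : V3, sm ((scU C a * g : GU3) : GL (Fin 3) F) τ z =
      ((a : Fˣ) : F) • sm (g : GL (Fin 3) F) τ z := fun z => by
    rw [sm, sm, ← scU_mulVec C a, Matrix.mulVec_mulVec]
    rfl
  have ha : ((a : Fˣ) : F) * C.σ (a : Fˣ) = 1 := a.2
  refine ⟨mul_ne_zero (Units.ne_zero _) hd.ne, ?_, ?_, ?_⟩
  · rw [k, hd.e, smul_smul]
  · rw [k, hd.f, smul_smul]
    congr 1
    rw [map_mul, mul_inv, ← eq_inv_of_mul_eq_one_left ha]
  · rw [k, hd.b, smul_smul]

theorem diag_mul_one {g g' : GU3} {α α' μ μ' : F} (h : Diag C Fr g 1 α μ)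
    (h' : Diag C Fr g' 1 α' μ') : Diag C Fr (g * g') 1 (α' * α) (μ' * μ) := by
  have e := h.mul h'
  rwa [mapGU_one, one_mul] at e

theorem diag_scalar {g : GU3} {α : F} (hd : Diag C Fr g 1 α α) (x : V3) :
    ((g : GL (Fin 3) F) : Matrix (Fin 3) (Fin 3) F).mulVec x = α • x := by
  have hf : (C.σ α)⁻¹ = α := (eq_inv_of_mul_eq_one_left hd.norm).symm
  rw [← sm_gu]
  conv_lhs => rw [expand3 C Fr x]
  rw [sm_add, sm_add, sm_smul, sm_smul, sm_smul, hd.e, hd.f, hd.b, hf]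
  conv_rhs => rw [expand3 C Fr x]
  simp only [smul_add, smul_smul]
  simp [mul_comm]

theorem Rep.exists_diag_of {c : G} {g : GU3} {τ : F ≃+* F} (h : Rep Cv c g τ)
    (hF : Fintype.card F = q ^ 2) (hc : c ∈ normalizer ((iota C Fr Cv).range : Set G)) :
    ∃ (x₀ : SU3Sylow.Heis C.σ.toRingHom) (g₀ : GU3) (α μ : F),
      Rep Cv ((iota C Fr Cv x₀)⁻¹ * c) g₀ τ ∧ Diag C Fr g₀ τ α μ := by
  have hN : ∀ x : SU3Sylow.Heis C.σ.toRingHom, ∃ y,
      suConj g τ (emb C Fr x) = emb C Fr y := fun x => by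
    obtain ⟨y, hy⟩ := (Subgroup.mem_normalizer_iff.1 hc (iota C Fr Cv x)).1 ⟨x, rfl⟩
    exact ⟨y, iota_eq_suConj hF h hy.symm⟩
  obtain ⟨x₀, g₀, α, μ, rfl, hd⟩ := exists_diag hN
  refine ⟨x₀, g₀, α, μ, ?_, hd⟩
  have e : Rep Cv ((iota C Fr Cv x₀)⁻¹ * c)
      (toGU (emb C Fr x₀)⁻¹ * mapGU 1 (toGU (emb C Fr x₀) * g₀)) (1 * τ) := by
    refine Rep.mul ?_ h
    rw [iota, MonoidHom.comp_apply, ← map_inv]
    exact Rep.inner _
  rwa [mapGU_one, one_mul, toGU_inv, inv_mul_cancel_left] at e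

theorem one_diag {g : GU3} {τ : F ≃+* F} {α μ : F} (hF : Fintype.card F = q ^ 2)
    (h : Rep Cv 1 g τ) (hd : Diag C Fr g τ α μ) : τ = 1 ∧ α * C.σ α = 1 ∧ μ = α := by
  obtain ⟨rfl, a, rfl⟩ := (semi_eq_semi C le_rfl hF).1 (h.semi_eq Rep.one)
  refine ⟨rfl, ?_⟩
  have k : ∀ z : V3, sm ((scU C a * 1 : GU3) : GL (Fin 3) F) 1 z = ((a : Fˣ) : F) • z := fun z => by
    rw [mul_one, sm_gu, scU_mulVec]
  have he := smul_left_injective F (Fr.e_ne_zero C) (hd.e.symm.trans (k Fr.e))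
  have hb := smul_left_injective F (bb_ne C Fr) (hd.b.symm.trans (k bb))
  rw [he, hb]
  exact ⟨a.2, rfl⟩

/-- An automorphism of the field fixing the fixed field of `σ` has square one. -/
theorem sq_eq_one_of_fixed {τ : F ≃+* F}
    (h : ∀ x, C.σ x = x → τ x = x) : τ ^ 2 = 1 := by
  refine RingEquiv.ext fun a => ?_
  have h1 : τ (a + C.σ a) = a + C.σ a := h _ (by rw [map_add, C.invol, add_comm])
  have h2 : τ (a * C.σ a) = a * C.σ a := h _ (by rw [map_mul, C.invol, mul_comm])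
  rw [map_add] at h1
  rw [map_mul] at h2
  have e2 : (2 : F) = 0 := CharTwo.two_eq_zero
  have h3 : (τ a + a) * (τ a + C.σ a) = 0 := by
    linear_combination (-τ a) * h1 + h2 + (τ a * τ a + a * C.σ a) * e2
  show τ (τ a) = a
  rcases mul_eq_zero.1 h3 with h4 | h4
  · rw [CharTwo.add_eq_zero.1 h4, CharTwo.add_eq_zero.1 h4]
  · have h5 := CharTwo.add_eq_zero.1 h4
    rw [h5]
    rw [h5] at h1
    linear_combination h1

theorem eq_one_of_pow_two_pow {d : F} {j : ℕ} (h : d ^ 2 ^ j = 1) : d = 1 := by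
  haveI : Fact (Nat.Prime 2) := ⟨Nat.prime_two⟩
  exact sub_eq_zero.1 (eq_zero_of_pow_eq_zero
    (show (d - 1) ^ 2 ^ j = 0 by rw [sub_pow_char_pow, h, one_pow, sub_self]))

/-- An automorphism of two-power order fixing an element moved by `σ` is trivial. -/
theorem eq_one_of_two_power {τ : F ≃+* F} {j : ℕ} (hτ : τ ^ 2 ^ j = 1) {ν : F} (h : τ ν = ν)
    (hν : C.σ ν ≠ ν) : τ = 1 := by
  induction j generalizing τ with
  | zero => simpa using hτ
  | succ j ih =>
    have h2 : (τ ^ 2) ν = ν := by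
      show τ (τ ν) = ν
      rw [h, h]
    have h3 : τ ^ 2 = 1 := ih (by rw [← pow_mul, ← pow_succ']; exact hτ) h2
    by_contra hne
    exact hν (by rw [← sigma_unique C h3 hne, h])

end tools

end Cfsg.Agent.UThreeEven
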