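import Cfsg.Agent.Lib.UThreeEven.Weak

/-!
The normaliser of `E × S₀` acts semilinearly on `Z₀`; if it does not fix `E` it induces translations of `E`
along `Z₀`.
-/

set_option autoImplicit false
set_option linter.style.haveILetI false
set_option linter.unusedSectionVars false

namespace Cfsg.Agent.UThreeEven.Model

open Subgroup SU3Sylow
open Hermitian (fixed mem_fixed)

universe u v

variable {G : Type u} [Group G] {t : G} {E U U₀ : Subgroup G} {F : Type v} [Field F] [CharP F 2]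
  {σ : F →+* F} [SU3Sylow.Inv2 σ] {n : ℕ}
variable [Finite G] [Finite F] (hS : Setup t E U U₀) (M : Model t E U U₀ σ n)
include M

include hS in
theorem unique_decomp {e e' : G} (he : e ∈ E) (he' : e' ∈ E) {x y : Heis σ}
    (h : e * M.ι x = e' * M.ι y) : e = e' ∧ x = y := by
  have h1 : e'⁻¹ * e = M.ι y * (M.ι x)⁻¹ := by
    rw [eq_mul_inv_iff_mul_eq, mul_assoc, h, inv_mul_cancel_left]
  have h2 : e'⁻¹ * e ∈ E ⊓ M.S₀ :=
    mem_inf.2 ⟨mul_mem (inv_mem he') he, h1 ▸ mul_mem (M.ι_mem y) (inv_mem (M.ι_mem x))⟩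
  rw [M.inf_E_S₀ hS, mem_bot, inv_mul_eq_one] at h2
  subst h2
  exact ⟨rfl, M.inj (mul_left_cancel h)⟩

include hS in
/-- An element normalising `W` acts semilinearly on `Z₀`. -/
theorem exists_semilinear_Z₀ {g : G} (hg : g ∈ normalizer (M.W : Set G)) :
    ∃ (μ : fixed σ) (f : F ≃+* F) (hf : ∀ x, f (σ x) = σ (f x)), μ ≠ 0 ∧ ∀ c : fixed σ,
      g * M.ι (Heis.cen c) * g⁻¹ =
        M.ι (Heis.cen (μ * ⟨f c, mem_fixed.2 (by rw [← hf, mem_fixed.1 c.2])⟩)) := by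
  have hdec : ∀ x, ∃ e ∈ E, ∃ y, g * M.ι x * g⁻¹ = e * M.ι y := fun x =>
    (M.mem_W hS).1 ((mem_normalizer_iff.1 hg _).1 (M.mem_W_of_mem_S₀ (M.ι_mem x)))
  choose e he p hp using hdec
  have hmul : ∀ x y, p (x * y) = p x * p y := fun x y => by
    refine (M.unique_decomp hS (he (x * y)) (mul_mem (he x) (he y)) ?_).2
    rw [← hp, map_mul, map_mul, show g * (M.ι x * M.ι y) * g⁻¹ = g * M.ι x * g⁻¹ * (g * M.ι y * g⁻¹) by group,
      hp, hp, mul_assoc (e x), ← mul_assoc (M.ι (p x)), ← M.E_S₀_comm hS (he y) (M.ι_mem (p x))]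
    group
  have hinj : Function.Injective (MonoidHom.mk' p hmul) := by
    refine (injective_iff_map_eq_one _).2 fun x hx => ?_
    change p x = 1 at hx
    have h := hp x
    rw [hx, map_one, mul_one] at h
    have h2 : x * x = 1 := M.inj (by
      have := hS.E_mul_self (he x)
      rw [← h, show g * M.ι x * g⁻¹ * (g * M.ι x * g⁻¹) = g * (M.ι x * M.ι x) * g⁻¹ by group,
        conj_eq_one_iff] at this
      rw [map_mul, this, map_one])
    have hz : M.ι x ∈ M.Z₀ := M.ι_mem_Z₀.2 ((Heis.mul_self_eq_one_iff x).1 h2)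
    have h3 : e x ∈ E ⊓ M.S₀ := mem_inf.2 ⟨he x,
      M.Z₀_le (h ▸ (mem_normalizer_iff.1 (M.normalizer_W_le_Z₀ hS hg) _).1 hz)⟩
    rw [M.inf_E_S₀ hS, mem_bot] at h3
    rw [h3, conj_eq_one_iff] at h
    exact M.inj (h.trans M.ι.map_one.symm)
  set ψ : MulAut (Heis σ) := MulEquiv.ofBijective _ (Finite.injective_iff_bijective.1 hinj) with hψ
  obtain ⟨f, m, hfm⟩ := Heis.exists_semilinear M.ne_id ψ
  have hf := Heis.comm_sigma (σ := σ) M.ne_id f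
  refine ⟨⟨(m : F) * σ m, Heis.fixed_norm _⟩, f, hf, fun h => ?_, fun c => ?_⟩
  · exact mul_ne_zero m.ne_zero ((map_ne_zero σ).2 m.ne_zero) (congrArg Subtype.val h)
  obtain ⟨a, ha, haa⟩ := Algebra.exists_sq (l := (c : F)) (mem_fixed.1 c.2)
  obtain ⟨y, hy⟩ := Heis.exists_mk (σ := σ) M.ne_id a
  have hl : Heis.cen c = y * y := by
    rw [Heis.mul_self]
    congr 1
    exact Subtype.ext (by simp [hy, ha, haa])
  have hpy : p (y * y) =
      Heis.cen (⟨(m : F) * σ m, Heis.fixed_norm _⟩ * ⟨f c, mem_fixed.2 (by rw [← hf, mem_fixed.1 c.2])⟩) := by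
    have : p (y * y) = ψ y * ψ y := hmul y y
    rw [this, Heis.mul_self]
    congr 1
    refine Subtype.ext ?_
    show (ψ y).a * σ (ψ y).a = (m : F) * σ m * f c
    rw [hfm, map_mul, ← hf, hy, ha, ← haa, map_mul]
    ring
  rw [← hpy, hl, map_mul, show g * (M.ι y * M.ι y) * g⁻¹ = g * M.ι y * g⁻¹ * (g * M.ι y * g⁻¹) by group,
    hp, M.mul_self_eq hS (he y), hmul]

theorem exists_fixed_ne : ∃ l : fixed σ, l ≠ 0 ∧ l ≠ 1 := by
  by_contra! h
  have h2 : Nat.card (fixed σ) ≤ Nat.card (Fin 2) := Nat.card_le_card_of_surjective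
    (fun i : Fin 2 => if i = 0 then (0 : fixed σ) else 1) fun l => by
      by_cases hl : l = 0
      · exact ⟨0, by simp [hl]⟩
      · exact ⟨1, by simp [h l hl]⟩
  have := M.four_le
  rw [M.card_fixed, Nat.card_fin] at h2
  omega

/-- An element of `H` multiplying `Z₀` by a prescribed nonzero scalar. -/
theorem exists_H_scalar {l : fixed σ} (hl : l ≠ 0) :
    ∃ h ∈ M.H, ∀ c : fixed σ, h * M.ι (Heis.cen c) * h⁻¹ = M.ι (Heis.cen (l * c)) := by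
  obtain ⟨a, ha, haa⟩ := Algebra.exists_sq (l := (l : F)) (mem_fixed.1 l.2)
  have ha0 : a ≠ 0 := fun h => hl (Subtype.ext (by rw [← haa, h, zero_mul]; rfl))
  obtain ⟨h, hh, hact⟩ := M.H_surj (Units.mk0 a ha0) ha
  refine ⟨h, hh, fun c => ?_⟩
  rw [hact]
  congr 1
  refine Heis.ext (by simp) ?_
  simp [ha, haa]

include hS in
theorem H_le_normalizer_W : M.H ≤ normalizer (M.W : Set G) := fun h hh =>
  mem_normalizer_fintype fun x hx => by
    obtain ⟨e, he, s, hs, rfl⟩ := mem_sup_comm (fun p hp q hq => M.E_S₀_comm hS hp hq) hx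
    rw [show h * (e * s) * h⁻¹ = h * e * h⁻¹ * (h * s * h⁻¹) by group,
      ← hS.E_central he (M.H_le_cen hS hh), mul_inv_cancel_right]
    exact mul_mem_sup he ((mem_normalizer_iff.1 (M.H_le_normalizer hh) _).1 hs)

/-- The stabiliser of the series `1 < Z₀ < A` in the normaliser of `W`. -/
def Stab (_hS : Setup t E U U₀) : Subgroup G where
  carrier := {g | g ∈ normalizer (M.W : Set G) ∧ (∀ z ∈ M.Z₀, g * z * g⁻¹ = z) ∧
    ∀ e ∈ E, ∃ z ∈ M.Z₀, g * e * g⁻¹ = e * z}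
  one_mem' := ⟨one_mem _, fun z _ => by simp, fun e _ => ⟨1, one_mem _, by simp⟩⟩
  mul_mem' := by
    rintro a b ⟨ha1, ha2, ha3⟩ ⟨hb1, hb2, hb3⟩
    refine ⟨mul_mem ha1 hb1, fun z hz => ?_, fun e he => ?_⟩
    · rw [show a * b * z * (a * b)⁻¹ = a * (b * z * b⁻¹) * a⁻¹ by group, hb2 z hz, ha2 z hz]
    · obtain ⟨z, hz, h⟩ := hb3 e he
      obtain ⟨z', hz', h'⟩ := ha3 e he
      refine ⟨z' * z, mul_mem hz' hz, ?_⟩
      rw [show a * b * e * (a * b)⁻¹ = a * (b * e * b⁻¹) * a⁻¹ by group, h,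
        show a * (e * z) * a⁻¹ = a * e * a⁻¹ * (a * z * a⁻¹) by group, h', ha2 z hz, mul_assoc]
  inv_mem' := by
    rintro a ⟨ha1, ha2, ha3⟩
    have hinv : ∀ z ∈ M.Z₀, a⁻¹ * z * a⁻¹⁻¹ = z := fun z hz => by
      conv_lhs => rw [← ha2 z hz]
      group
    refine ⟨inv_mem ha1, hinv, fun e he => ?_⟩
    obtain ⟨z, hz, h⟩ := ha3 e he
    refine ⟨z⁻¹, inv_mem hz, ?_⟩
    have h1 : a⁻¹ * (e * z) * a⁻¹⁻¹ = e := by rw [← h]; group
    have h2 := hinv z hz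
    calc a⁻¹ * e * a⁻¹⁻¹ = a⁻¹ * (e * z) * a⁻¹⁻¹ * (a⁻¹ * z * a⁻¹⁻¹)⁻¹ := by group
      _ = _ := by rw [h1, h2]

variable {M}

theorem mem_Stab {g : G} : g ∈ M.Stab hS ↔ g ∈ normalizer (M.W : Set G) ∧
    (∀ z ∈ M.Z₀, g * z * g⁻¹ = z) ∧ ∀ e ∈ E, ∃ z ∈ M.Z₀, g * e * g⁻¹ = e * z := Iff.rfl

include hS in
/-- Outside the normaliser of `E` there are translations. -/
theorem exists_translation {g : G} (hg : g ∈ normalizer (M.W : Set G)) (hgE : g ∉ normalizer (E : Set G)) :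
    ∃ τ ∈ M.Stab hS, τ ∉ cen t := by
  by_contra! hall
  have hfix : ∀ τ ∈ M.Stab hS, ∀ e ∈ E, τ * e * τ⁻¹ = e := fun τ hτ e he => by
    rw [← hS.E_central he (hall τ hτ), mul_inv_cancel_right]
  obtain ⟨μ, f, hf, hμ, hact⟩ := M.exists_semilinear_Z₀ hS hg
  obtain ⟨l, hl0, hl1⟩ := M.exists_fixed_ne
  obtain ⟨h, hh, hhl⟩ := M.exists_H_scalar hl0
  set l' : fixed σ := ⟨f l, mem_fixed.2 (by rw [← hf, mem_fixed.1 l.2])⟩ with hl'
  obtain ⟨h', hh', hhl'⟩ := M.exists_H_scalar (l := l') (fun h0 => hl0 (Subtype.ext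
    ((map_eq_zero f).1 (congrArg Subtype.val h0))))
  have hgA := M.normalizer_W_le_A hS hg
  have hgZ := M.normalizer_W_le_Z₀ hS hg
  have hcancel : ∀ {x c : G}, x ∈ M.H → c ∈ E → x * c * x⁻¹ = c := fun hx hc => by
    rw [← hS.E_central hc (M.H_le_cen hS hx), mul_inv_cancel_right]
  refine hgE (inv_mem_iff.1 (mem_normalizer_fintype fun e he => ?_))
  have hgi : g⁻¹ * e * g ∈ M.A := by
    refine (mem_normalizer_iff.1 hgA _).2 ?_
    rw [show g * (g⁻¹ * e * g) * g⁻¹ = e by group]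
    exact mem_sup_left he
  obtain ⟨e1, he1, c, hc⟩ := (M.mem_A hS).1 hgi
  have h1 : g * h * g⁻¹ * e * (g * h * g⁻¹)⁻¹ =
      e * M.ι (Heis.cen (μ * ⟨f ↑(l * c + c), mem_fixed.2 (by rw [← hf, mem_fixed.1 (l * c + c).2])⟩)) := by
    rw [← hact, HeisAux.cen_add, map_mul, ← hhl,
      show g * h * g⁻¹ * e * (g * h * g⁻¹)⁻¹ = g * (h * (g⁻¹ * e * g) * h⁻¹) * g⁻¹ by group, hc,
      show h * (e1 * M.ι (Heis.cen c)) * h⁻¹ = h * e1 * h⁻¹ * (h * M.ι (Heis.cen c) * h⁻¹) by group,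
      hcancel hh he1]
    have hcc : M.ι (Heis.cen c) * M.ι (Heis.cen c) = 1 := by
      rw [← map_mul, (Heis.mul_self_eq_one_iff _).2 rfl, map_one]
    calc g * (e1 * (h * M.ι (Heis.cen c) * h⁻¹)) * g⁻¹
        = g * (e1 * M.ι (Heis.cen c) * ((M.ι (Heis.cen c))⁻¹ * (h * M.ι (Heis.cen c) * h⁻¹))) * g⁻¹ := by
          group
      _ = g * (g⁻¹ * e * g) * ((M.ι (Heis.cen c))⁻¹ * (h * M.ι (Heis.cen c) * h⁻¹)) * g⁻¹ := by
          rw [← hc]; group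
      _ = _ := by
          rw [show (M.ι (Heis.cen c))⁻¹ = M.ι (Heis.cen c) from inv_eq_of_mul_eq_one_left hcc,
            show M.ι (Heis.cen c) * (h * M.ι (Heis.cen c) * h⁻¹) =
              h * M.ι (Heis.cen c) * h⁻¹ * M.ι (Heis.cen c) by
              rw [hhl, ← map_mul, ← map_mul, HeisAux.comm_cen]]
          group
  set τ := h'⁻¹ * (g * h * g⁻¹) with hτ
  have hτS : τ ∈ M.Stab hS := by
    refine ⟨mul_mem (inv_mem (M.H_le_normalizer_W hS hh'))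
      (mul_mem (mul_mem hg (M.H_le_normalizer_W hS hh)) (inv_mem hg)), fun z hz => ?_, fun a ha => ?_⟩
    · obtain ⟨d, rfl⟩ := M.mem_Z₀.1 hz
      obtain ⟨d', hd'⟩ := M.mem_Z₀.1 ((mem_normalizer_iff.1 hgZ (g⁻¹ * M.ι (Heis.cen d) * g)).2 (by
        rw [show g * (g⁻¹ * M.ι (Heis.cen d) * g) * g⁻¹ = M.ι (Heis.cen d) by group]
        exact hz))
      have hd : M.ι (Heis.cen d) = g * M.ι (Heis.cen d') * g⁻¹ := by rw [hd']; group
      have key : g * h * g⁻¹ * M.ι (Heis.cen d) * (g * h * g⁻¹)⁻¹ = h' * M.ι (Heis.cen d) * h'⁻¹ := by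
        rw [hhl', show g * h * g⁻¹ * M.ι (Heis.cen d) * (g * h * g⁻¹)⁻¹ =
          g * (h * (g⁻¹ * M.ι (Heis.cen d) * g) * h⁻¹) * g⁻¹ by group, ← hd', hhl, hact]
        congr 2
        have hd2 : d = μ * ⟨f d', mem_fixed.2 (by rw [← hf, mem_fixed.1 d'.2])⟩ := by
          rw [hact] at hd
          exact Subtype.ext (by simpa using congrArg Heis.b (M.inj hd))
        rw [hd2]
        refine Subtype.ext ?_
        show (μ : F) * f ((l : F) * d') = f l * ((μ : F) * f d')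
        rw [map_mul]
        ring
      rw [hτ, show h'⁻¹ * (g * h * g⁻¹) * M.ι (Heis.cen d) * (h'⁻¹ * (g * h * g⁻¹))⁻¹ =
        h'⁻¹ * (g * h * g⁻¹ * M.ι (Heis.cen d) * (g * h * g⁻¹)⁻¹) * h' by group, key]
      group
    · obtain ⟨a1, ha1, d, hd⟩ := (M.mem_A hS).1 ((mem_normalizer_iff.1 hgA (g⁻¹ * a * g)).2 (by
        rw [show g * (g⁻¹ * a * g) * g⁻¹ = a by group]; exact mem_sup_left ha))
      have hZ : g * ((M.ι (Heis.cen d))⁻¹ * (h * M.ι (Heis.cen d) * h⁻¹)) * g⁻¹ ∈ M.Z₀ :=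
        (mem_normalizer_iff.1 hgZ _).1 (mul_mem (inv_mem (M.mem_Z₀.2 ⟨d, rfl⟩))
          (hhl d ▸ M.mem_Z₀.2 ⟨_, rfl⟩))
      have key : g * h * g⁻¹ * a * (g * h * g⁻¹)⁻¹ =
          a * (g * ((M.ι (Heis.cen d))⁻¹ * (h * M.ι (Heis.cen d) * h⁻¹)) * g⁻¹) := by
        calc g * h * g⁻¹ * a * (g * h * g⁻¹)⁻¹
            = g * (h * a1 * h⁻¹ * (h * M.ι (Heis.cen d) * h⁻¹)) * g⁻¹ := by
              rw [show g * h * g⁻¹ * a * (g * h * g⁻¹)⁻¹ = g * (h * (g⁻¹ * a * g) * h⁻¹) * g⁻¹ by group,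
                hd]
              group
          _ = g * (a1 * M.ι (Heis.cen d) *
                ((M.ι (Heis.cen d))⁻¹ * (h * M.ι (Heis.cen d) * h⁻¹))) * g⁻¹ := by
              rw [hcancel hh ha1]; group
          _ = _ := by rw [← hd]; group
      refine ⟨h'⁻¹ * (g * ((M.ι (Heis.cen d))⁻¹ * (h * M.ι (Heis.cen d) * h⁻¹)) * g⁻¹) * h'⁻¹⁻¹,
        (mem_normalizer_iff.1 (M.normalizer_le_Z₀ (inv_mem (M.H_le_normalizer hh'))) _).1 hZ, ?_⟩
      rw [hτ, show h'⁻¹ * (g * h * g⁻¹) * a * (h'⁻¹ * (g * h * g⁻¹))⁻¹ =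
        h'⁻¹ * (g * h * g⁻¹ * a * (g * h * g⁻¹)⁻¹) * h'⁻¹⁻¹ by group, key]
      conv_rhs => rw [← hcancel (inv_mem hh') ha]
      group
  have h3 := hfix τ hτS e he
  rw [hτ, show h'⁻¹ * (g * h * g⁻¹) * e * (h'⁻¹ * (g * h * g⁻¹))⁻¹ =
      h'⁻¹ * (g * h * g⁻¹ * e * (g * h * g⁻¹)⁻¹) * h'⁻¹⁻¹ by group, h1] at h3
  have h4 : e * M.ι (Heis.cen (μ * ⟨f ↑(l * c + c), mem_fixed.2 (by
      rw [← hf, mem_fixed.1 (l * c + c).2])⟩)) = e := by
    have h5 := congrArg (fun w => h' * w * h'⁻¹) h3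
    simp only [hcancel hh' he] at h5
    exact (by group : _ = h' * (h'⁻¹ * (e * M.ι (Heis.cen (μ * ⟨f ↑(l * c + c), _⟩))) * h'⁻¹⁻¹) * h'⁻¹).trans h5
  have h6 : μ * ⟨f ↑(l * c + c), mem_fixed.2 (by rw [← hf, mem_fixed.1 (l * c + c).2])⟩ = (0 : fixed σ) :=
    Subtype.ext (by simpa using congrArg Heis.b (M.inj ((mul_eq_left.1 h4).trans M.ι.map_one.symm)))
  have h7 : l * c + c = 0 := Subtype.ext ((map_eq_zero f).1
    (congrArg Subtype.val ((mul_eq_zero.1 h6).resolve_left hμ)))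
  have h8 : c = 0 := by
    rw [← add_one_mul, mul_eq_zero] at h7
    exact h7.resolve_left fun h0 => hl1 (CharTwo.add_eq_zero.1 h0)
  rw [h8, ← HeisAux.one_eq_cen, map_one, mul_one] at hc
  rw [inv_inv, hc]
  exact he1

end Cfsg.Agent.UThreeEven.Model
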