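import Cfsg.Agent.Lib.UThreeEven.Defs

/-!
The elementary group `E` is the 2-part of the centre of the centraliser and is a TI subgroup.
-/

set_option autoImplicit false
set_option linter.style.haveILetI false
set_option linter.unusedSectionVars false

namespace Cfsg.Agent.UThreeEven

open Subgroup

universe u

variable {G : Type u} [Group G]

/-- An element of a product of a subgroup and one which it normalises. -/
theorem mem_sup_norm {A B : Subgroup G} (h : A ≤ normalizer (B : Set G)) {x : G} (hx : x ∈ A ⊔ B) :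
    ∃ a ∈ A, ∃ b ∈ B, x = a * b := by
  rw [sup_eq_closure] at hx
  refine closure_induction ?_ ⟨1, one_mem _, 1, one_mem _, (one_mul 1).symm⟩ ?_ ?_ hx
  · rintro y (hy | hy)
    · exact ⟨y, hy, 1, one_mem _, (mul_one y).symm⟩
    · exact ⟨1, one_mem _, y, hy, (one_mul y).symm⟩
  · rintro y z - - ⟨a, ha, b, hb, rfl⟩ ⟨a', ha', b', hb', rfl⟩
    refine ⟨a * a', mul_mem ha ha', a'⁻¹ * b * a' * b', mul_mem ?_ hb', by group⟩
    have := (mem_normalizer_iff.1 (h (inv_mem ha')) b).1 hb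
    rwa [inv_inv] at this
  · rintro y - ⟨a, ha, b, hb, rfl⟩
    exact ⟨a⁻¹, inv_mem ha, a * b⁻¹ * a⁻¹, (mem_normalizer_iff.1 (h ha) _).1 (inv_mem hb), by group⟩

theorem mem_sup_comm {A B : Subgroup G} (h : ∀ a ∈ A, ∀ b ∈ B, a * b = b * a) {x : G} (hx : x ∈ A ⊔ B) :
    ∃ a ∈ A, ∃ b ∈ B, x = a * b := by
  have hn : A ≤ normalizer (B : Set G) := fun a ha => mem_normalizer_iff.2 fun b => by
    constructor <;> intro hb
    · rwa [h a ha b hb, mul_inv_cancel_right]
    · have e := h a ha _ hb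
      rw [show a * (a * b * a⁻¹) = a * (a * b * a⁻¹) from rfl] at e
      have : b = a * b * a⁻¹ := by
        have := congrArg (fun y => a⁻¹ * y) e
        simpa [mul_assoc] using this.symm
      exact this ▸ hb
  exact mem_sup_norm hn hx

theorem card_sup_comm {A B : Subgroup G} (h : ∀ a ∈ A, ∀ b ∈ B, a * b = b * a) (hd : A ⊓ B = ⊥) :
    Nat.card ↥(A ⊔ B) = Nat.card A * Nat.card B := by
  rw [← Nat.card_prod]
  refine (Nat.card_congr (Equiv.ofBijective (fun p : A × B =>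
    (⟨p.1.1 * p.2.1, mul_mem_sup p.1.2 p.2.2⟩ : ↥(A ⊔ B))) ⟨?_, ?_⟩)).symm
  · rintro ⟨a, b⟩ ⟨a', b'⟩ he
    have he' : (a : G) * b = a' * b' := congrArg Subtype.val he
    have h1 : (a' : G)⁻¹ * a = b' * (b : G)⁻¹ := by
      rw [eq_mul_inv_iff_mul_eq, mul_assoc, he', inv_mul_cancel_left]
    have h2 : (a' : G)⁻¹ * a ∈ A ⊓ B := mem_inf.2
      ⟨mul_mem (inv_mem a'.2) a.2, h1 ▸ mul_mem b'.2 (inv_mem b.2)⟩
    rw [hd, mem_bot, inv_mul_eq_one] at h2
    refine Prod.ext (Subtype.ext h2.symm) (Subtype.ext ?_)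
    rw [← h2] at he'
    exact mul_left_cancel he'
  · rintro ⟨x, hx⟩
    obtain ⟨a, ha, b, hb, rfl⟩ := mem_sup_comm h hx
    exact ⟨(⟨a, ha⟩, ⟨b, hb⟩), rfl⟩

/-- A 2-element of an odd subgroup is trivial. -/
theorem eq_one_of_odd [Finite G] {Z : Subgroup G} (hZ : Odd (Nat.card Z)) {z : G} (hz : z ∈ Z) {k : ℕ}
    (hk : z ^ (2 ^ k) = 1) : z = 1 := by
  have h1 : orderOf z ∣ Nat.card Z := by
    rw [← orderOf_mk z hz]
    exact orderOf_dvd_natCard _
  have h2 : orderOf z ∣ 2 ^ k := orderOf_dvd_of_pow_eq_one hk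
  refine orderOf_eq_one_iff.1 (Nat.eq_one_of_dvd_coprimes ?_ h2 h1)
  exact Nat.Coprime.pow_left k (Nat.coprime_two_left.2 hZ)

theorem isPGroup_of_pow {x : G} {k : ℕ} (hk : x ^ (2 ^ k) = 1) : IsPGroup 2 (zpowers x) := by
  rintro ⟨y, hy⟩
  obtain ⟨j, rfl⟩ := mem_zpowers_iff.1 hy
  refine ⟨k, Subtype.ext ?_⟩
  show (x ^ j) ^ (2 ^ k) = 1
  rw [← zpow_natCast, ← zpow_mul, mul_comm, zpow_mul, zpow_natCast, hk, one_zpow]

theorem exists_pow_eq_one {x : G} (h : IsPGroup 2 (zpowers x)) : ∃ k : ℕ, x ^ (2 ^ k) = 1 := by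
  obtain ⟨k, hk⟩ := h ⟨x, mem_zpowers x⟩
  exact ⟨k, congrArg Subtype.val hk⟩

/-- A 2-element normalising an elementary 2-group centralises one of its involutions. -/
theorem exists_fixed_invol [Finite G] {E : Subgroup G} (hE : Cfsg.IsElementaryAbelian 2 E) (hne : E ≠ ⊥)
    {g : G} (hg : g ∈ normalizer (E : Set G)) (h2 : IsPGroup 2 (zpowers g)) :
    ∃ e ∈ E, e ≠ 1 ∧ g * e = e * g := by
  haveI : Fact (Nat.Prime 2) := ⟨Nat.prime_two⟩
  have hle : zpowers g ≤ normalizer (E : Set G) := zpowers_le.2 hg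
  let act : MulAction (zpowers g) E :=
    { smul := fun x e => ⟨x * e * (x : G)⁻¹, (mem_normalizer_iff.1 (hle x.2) e).1 e.2⟩
      one_smul := fun e => Subtype.ext (by show (1 : G) * e * (1 : G)⁻¹ = e; simp)
      mul_smul := fun x y e => Subtype.ext (by
        show ((x * y : zpowers g) : G) * e * ((x * y : zpowers g) : G)⁻¹ =
          x * (y * (e : G) * (y : G)⁻¹) * (x : G)⁻¹
        rw [Subgroup.coe_mul]; group) }
  letI := act
  have h2E : IsPGroup 2 E := fun a => ⟨1, Subtype.ext (by simpa using hE.2 a a.2)⟩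
  obtain ⟨k, hk⟩ := IsPGroup.iff_card.1 h2E
  have hk0 : k ≠ 0 := by
    rintro rfl
    exact hne (card_eq_one.1 (by rw [hk, pow_zero]))
  have hd : 2 ∣ Nat.card E := hk ▸ dvd_pow_self 2 hk0
  have h1 : (1 : E) ∈ MulAction.fixedPoints (zpowers g) E := fun x => Subtype.ext (by
    show (x : G) * (1 : G) * (x : G)⁻¹ = 1
    simp)
  obtain ⟨e, he, hne1⟩ := h2.exists_fixed_point_of_prime_dvd_card_of_fixed_point E hd h1
  refine ⟨e, e.2, fun h => hne1 (Subtype.ext h.symm), ?_⟩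
  have h := congrArg Subtype.val (he ⟨g, mem_zpowers g⟩)
  change g * (e : G) * g⁻¹ = e at h
  exact mul_inv_eq_iff_eq_mul.1 h

namespace Setup

variable {t : G} {E U U₀ : Subgroup G} (hS : Setup t E U U₀)
include hS

theorem E_le : E ≤ cen t := hS.dir.1
theorem U_le : U ≤ cen t := hS.dir.2.1
theorem EU_comm {e u : G} (he : e ∈ E) (hu : u ∈ U) : e * u = u * e := hS.dir.2.2.1 e he u hu

theorem exists_mul {c : G} (hc : c ∈ cen t) : ∃ e ∈ E, ∃ u ∈ U, c = e * u :=
  mem_sup_comm hS.dir.2.2.1 (by rw [hS.dir.2.2.2.2]; exact hc)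

theorem E_mul_self {e : G} (he : e ∈ E) : e * e = 1 := by rw [← sq]; exact hS.ea.2 e he

theorem E_comm {e e' : G} (he : e ∈ E) (he' : e' ∈ E) : e * e' = e' * e :=
  congrArg Subtype.val (hS.ea.1.is_comm.comm ⟨e, he⟩ ⟨e', he'⟩)

theorem E_order {e : G} (he : e ∈ E) (h1 : e ≠ 1) : orderOf e = 2 :=
  orderOf_eq_prime (hS.ea.2 e he) h1

theorem E_central {e c : G} (he : e ∈ E) (hc : c ∈ cen t) : e * c = c * e := by
  obtain ⟨e', he', u, hu, rfl⟩ := hS.exists_mul hc
  rw [← mul_assoc, hS.E_comm he he', mul_assoc, hS.EU_comm he hu, ← mul_assoc]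

theorem self_mem : t ∈ cen t := mem_centralizer_singleton_iff.2 rfl

theorem E_U {x : G} (hx : x ∈ E) (hx' : x ∈ U) : x = 1 :=
  mem_bot.1 (hS.dir.2.2.2.1 ▸ mem_inf.2 ⟨hx, hx'⟩)

/-- An element of the centre of the centraliser with trivial square lies in `E`. -/
theorem mem_E [Finite G] (hZ : Odd (Nat.card ↥(U ⊓ centralizer (U₀ : Set G)))) {z : G} (hz : z ∈ cen t)
    (hc : ∀ c ∈ cen t, z * c = c * z) (h2 : z * z = 1) : z ∈ E := by
  obtain ⟨e, he, u, hu, rfl⟩ := hS.exists_mul hz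
  have hu2 : u * u = 1 := by
    have h : (e * u) * (e * u) = (e * e) * (u * u) := by
      rw [mul_assoc, ← mul_assoc u, ← hS.EU_comm he hu, mul_assoc, ← mul_assoc]
    rw [h, hS.E_mul_self he, one_mul] at h2
    exact h2
  have huc : u ∈ U ⊓ centralizer (U₀ : Set G) := mem_inf.2 ⟨hu, mem_centralizer_iff.2 fun c hc' => by
    have h := hc c (hS.U_le (hS.le hc'))
    rw [mul_assoc, ← mul_assoc c, ← hS.EU_comm he (hS.le hc'), mul_assoc] at h
    exact (mul_left_cancel h).symm⟩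
  rw [eq_one_of_odd hZ huc (k := 1) (by rw [pow_one, sq, hu2]), mul_one]
  exact he

theorem t_mem [Finite G] (hZ : Odd (Nat.card ↥(U ⊓ centralizer (U₀ : Set G)))) : t ∈ E :=
  hS.mem_E hZ hS.self_mem (fun _ hc => ((mem_centralizer_singleton_iff.1 hc)).symm)
    (by rw [← sq, ← hS.ord, pow_orderOf_eq_one])

theorem cen_eq {e : G} (he : e ∈ E) (h1 : e ≠ 1) : cen e = cen t := hS.cE e he (hS.E_order he h1)

/-- An element moving an involution of `E` into `E` normalises `E`. -/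
theorem mem_normalizer [Finite G] (hZ : Odd (Nat.card ↥(U ⊓ centralizer (U₀ : Set G)))) {g e : G} (he : e ∈ E)
    (h1 : e ≠ 1) (hge : g * e * g⁻¹ ∈ E) : g ∈ normalizer (E : Set G) := by
  have hne : g * e * g⁻¹ ≠ 1 := fun h => h1 (by
    have := mul_inv_eq_one.1 h
    exact mul_left_cancel (this.trans (mul_one g).symm))
  have hcen : ∀ c, c ∈ cen t ↔ g * c * g⁻¹ ∈ cen t := fun c => by
    conv_lhs => rw [← hS.cen_eq he h1]
    rw [← hS.cen_eq hge hne, mem_centralizer_singleton_iff, mem_centralizer_singleton_iff]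
    constructor <;> intro h
    · calc _ = g * (c * e) * g⁻¹ := by group
        _ = g * (e * c) * g⁻¹ := by rw [h]
        _ = _ := by group
    · have := congrArg (fun x => g⁻¹ * x * g) h
      simpa [mul_assoc] using this
  refine mem_normalizer_fintype fun z hz => ?_
  refine hS.mem_E hZ ((hcen z).1 (hS.E_le hz)) (fun c hc => ?_) ?_
  · have h := hS.E_central hz ((hcen (g⁻¹ * c * g)).2 (by simpa [mul_assoc] using hc))
    have := congrArg (fun x => g * x * g⁻¹) h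
    simpa [mul_assoc] using this
  · rw [show g * z * g⁻¹ * (g * z * g⁻¹) = g * (z * z) * g⁻¹ by group, hS.E_mul_self hz, mul_one,
      mul_inv_cancel]

/-- A 2-element moving an involution of `E` into `E` centralises `E`. -/
theorem mem_cen_of_two [Finite G] (hZ : Odd (Nat.card ↥(U ⊓ centralizer (U₀ : Set G)))) {g e : G} (he : e ∈ E)
    (h1 : e ≠ 1) (hge : g * e * g⁻¹ ∈ E) (h2 : IsPGroup 2 (zpowers g)) : g ∈ cen t := by
  obtain ⟨f, hf, hf1, hc⟩ := exists_fixed_invol hS.ea hS.ne (hS.mem_normalizer hZ he h1 hge) h2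
  rw [← hS.cen_eq hf hf1]
  exact mem_centralizer_singleton_iff.2 hc

end Setup

end Cfsg.Agent.UThreeEven
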