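import Cfsg.Agent.Lib.UThreeEven.ShiftDefs

/-!
First consequences of the translations of `E` along `Z₀`.
-/

set_option autoImplicit false
set_option linter.style.haveILetI false
set_option linter.unusedSectionVars false

namespace Cfsg.Agent.UThreeEven.Shift

open Subgroup SU3Sylow
open Hermitian (fixed mem_fixed)

universe u v

variable {G : Type u} [Group G] {t : G} {E U U₀ : Subgroup G} {F : Type v} [Field F] [CharP F 2]
  {σ : F →+* F} [SU3Sylow.Inv2 σ] {n : ℕ} {M : Model t E U U₀ σ n}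
variable [Finite G] [Finite F] (hS : Setup t E U U₀) (sh : Shift M)

theorem φ_one : sh.φ 1 = 0 := by
  have h := sh.φ_mul 1 (one_mem _) 1 (one_mem _)
  rw [mul_one, left_eq_add] at h
  exact h

include hS in
theorem φ_ne {e : G} (he : e ∈ E) (h1 : e ≠ 1) : sh.φ e ≠ 0 := fun h => h1 (sh.φ_inj e he h)

theorem tr_one : sh.tr 1 = 0 := (sh.tr_eq_zero 1 (one_mem _)).2 (one_mem _)

theorem ι_cen_ne {c : fixed σ} (hc : c ≠ 0) : M.ι (Heis.cen c) ≠ 1 := fun h => hc (Subtype.ext (by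
  simpa using congrArg Heis.b (M.inj (h.trans M.ι.map_one.symm))))

include hS in
theorem conj_t {a : G} (ha : a ∈ sh.R) : a * t * a⁻¹ = t * M.ι (Heis.cen (sh.tr a)) := by
  rw [sh.conj a ha t (hS.t_mem M.odd_Z), sh.φ_t, mul_one]

include hS in
theorem commute_t {a : G} (ha : a ∈ sh.R) : a ∈ cen t ↔ sh.tr a = 0 := by
  constructor
  · intro h
    have h1 := sh.conj_t hS ha
    rw [mem_centralizer_singleton_iff.1 h, mul_inv_cancel_right] at h1
    by_contra hne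
    exact ι_cen_ne hne (left_eq_mul.1 h1)
  · intro h
    exact M.Z₀_le_cen hS ((sh.tr_eq_zero a ha).1 h)

include hS in
theorem R_inf_cen : sh.R ⊓ cen t = M.Z₀ :=
  le_antisymm (fun a ha => (sh.tr_eq_zero a (mem_inf.1 ha).1).1 ((sh.commute_t hS (mem_inf.1 ha).1).1
    (mem_inf.1 ha).2)) (le_inf sh.Z_le_R (M.Z₀_le_cen hS))

include hS in
theorem R_inf_E : sh.R ⊓ E = ⊥ := by
  refine le_bot_iff.1 fun a ha => ?_
  have h : a ∈ M.Z₀ := sh.R_inf_cen hS ▸ mem_inf.2 ⟨(mem_inf.1 ha).1, hS.E_le (mem_inf.1 ha).2⟩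
  exact M.inf_E_S₀ hS ▸ mem_inf.2 ⟨(mem_inf.1 ha).2, M.Z₀_le h⟩

include hS in
theorem conj_mem_A {a e : G} (ha : a ∈ sh.R) (he : e ∈ E) : a * e * a⁻¹ ∈ M.A :=
  (M.mem_A hS).2 ⟨e, he, _, sh.conj a ha e he⟩

include hS in
theorem R_le_normalizer_A : sh.R ≤ normalizer (M.A : Set G) := fun a ha =>
  mem_normalizer_fintype fun x hx => by
    obtain ⟨e, he, z, hz, rfl⟩ := mem_sup_comm (fun p hp q hq => M.E_S₀_comm hS hp (M.Z₀_le hq)) hx
    rw [show a * (e * z) * a⁻¹ = (a * e * a⁻¹) * (a * z * a⁻¹) by group]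
    refine mul_mem (sh.conj_mem_A hS ha he) ?_
    rw [(mem_centralizer_iff.1 (sh.R_S₀ ha) z (M.Z₀_le hz)).symm, mul_inv_cancel_right]
    exact mem_sup_right hz

theorem R_comm_S₀ {a s : G} (ha : a ∈ sh.R) (hs : s ∈ M.S₀) : a * s = s * a :=
  (mem_centralizer_iff.1 (sh.R_S₀ ha) s hs).symm

theorem R_comm_D {a d : G} (ha : a ∈ sh.R) (hd : d ∈ M.D) : a * d = d * a :=
  (mem_centralizer_iff.1 (sh.R_D ha) d hd).symm

include hS in
theorem R_le_normalizer_W : sh.R ≤ normalizer (M.W : Set G) := fun a ha =>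
  mem_normalizer_fintype fun x hx => by
    obtain ⟨e, he, s, hs, rfl⟩ := mem_sup_comm (fun p hp q hq => M.E_S₀_comm hS hp hq) hx
    rw [show a * (e * s) * a⁻¹ = (a * e * a⁻¹) * (a * s * a⁻¹) by group,
      sh.R_comm_S₀ ha hs, mul_inv_cancel_right]
    exact mul_mem (M.A_le_W hS (sh.conj_mem_A hS ha he)) (mem_sup_right hs)

include hS in
theorem E_le_normalizer : E ≤ normalizer (sh.R : Set G) := fun e he =>
  mem_normalizer_fintype fun a ha => by
    have h := sh.conj a⁻¹ (inv_mem ha) e he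
    rw [inv_inv] at h
    rw [show e * a * e⁻¹ = a * (a⁻¹ * e * a * e⁻¹) by group, h]
    refine mul_mem ha ?_
    rw [show e * M.ι (Heis.cen (sh.tr a⁻¹ * sh.φ e)) * e⁻¹ = M.ι (Heis.cen (sh.tr a⁻¹ * sh.φ e)) by
      rw [M.E_S₀_comm hS he (M.ι_mem _), mul_inv_cancel_right]]
    exact sh.Z_le_R (M.mem_Z₀.2 ⟨_, rfl⟩)

theorem S₀_le_normalizer : M.S₀ ≤ normalizer (sh.R : Set G) := fun s hs =>
  mem_normalizer_fintype fun a ha => by
    rw [← sh.R_comm_S₀ ha hs, mul_inv_cancel_right]; exact ha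

theorem D_le_normalizer : M.D ≤ normalizer (sh.R : Set G) := fun d hd =>
  mem_normalizer_fintype fun a ha => by
    rw [← sh.R_comm_D ha hd, mul_inv_cancel_right]; exact ha

include hS in
theorem Sg_le_normalizer : M.Sg ≤ normalizer (sh.R : Set G) :=
  sup_le (sh.E_le_normalizer hS) (sup_le sh.S₀_le_normalizer sh.Φ_R)

include hS in
/-- The split torus acts on the translations by squares of its eigenvalues. -/
theorem tr_conj {h : G} {l : Fˣ} (hh : h ∈ M.H) (hl : σ (l : F) = l)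
    (hact : ∀ x, h * M.ι x * h⁻¹ = M.ι (torus σ l x)) {a : G} (ha : a ∈ sh.R) :
    (sh.tr (h * a * h⁻¹) : F) = l * l * sh.tr a := by
  have hht : h * t = t * h := mem_centralizer_singleton_iff.1 (M.H_le_cen hS hh)
  have hb : h * a * h⁻¹ ∈ sh.R := (mem_normalizer_iff.1 (sh.H_R hh) a).1 ha
  have h1 := sh.conj_t hS hb
  have h2 : h * a * h⁻¹ * t * (h * a * h⁻¹)⁻¹ = t * M.ι (torus σ l (Heis.cen (sh.tr a))) := by
    rw [← hact, ← mul_assoc t, ← mul_assoc t, ← hht, mul_assoc h t, ← sh.conj_t hS ha,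
      show h * a * h⁻¹ * t * (h * a * h⁻¹)⁻¹ = h * a * (h⁻¹ * t) * h * a⁻¹ * h⁻¹ by group,
      show h⁻¹ * t = t * h⁻¹ by rw [inv_mul_eq_iff_eq_mul, ← mul_assoc, hht, mul_inv_cancel_right]]
    group
  have h3 := congrArg Heis.b (M.inj (mul_left_cancel (h1.symm.trans h2)))
  simp only [Heis.cen_b, torus_b, hl] at h3
  exact h3

theorem R_le_centralizer_Z₀ : sh.R ≤ centralizer (M.Z₀ : Set G) :=
  sh.R_S₀.trans (centralizer_le M.Z₀_le)

include hS in
theorem mem_Y {y : G} : y ∈ sh.Y ↔ ∃ e ∈ E, ∃ a ∈ sh.R, y = e * a :=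
  ⟨fun h => mem_sup_norm (sh.E_le_normalizer hS) h, fun ⟨_, he, _, ha, h⟩ => h ▸ mul_mem_sup he ha⟩

include hS in
theorem Y_le_centralizer_D : sh.Y ≤ centralizer (M.D : Set G) :=
  sup_le (fun e he => mem_centralizer_iff.2 fun d hd => (hS.EU_comm he (M.D_le hd)).symm) sh.R_D

include hS in
theorem Y_le_centralizer_S₀ : sh.Y ≤ centralizer (M.S₀ : Set G) :=
  sup_le (fun e he => mem_centralizer_iff.2 fun s hs => (M.E_S₀_comm hS he hs).symm) sh.R_S₀

include hS in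
theorem A_le_Y : M.A ≤ sh.Y := sup_le_sup_left sh.Z_le_R E

include hS in
theorem Y_inf_cen : sh.Y ⊓ cen t = M.A := by
  refine le_antisymm (fun y hy => ?_) (le_inf (sh.A_le_Y hS) (M.A_le_cen hS))
  obtain ⟨e, he, a, ha, rfl⟩ := (sh.mem_Y hS).1 (mem_inf.1 hy).1
  have h : a ∈ cen t := by
    have := mul_mem (inv_mem (hS.E_le he)) (mem_inf.1 hy).2
    rwa [inv_mul_cancel_left] at this
  exact mul_mem_sup he (sh.R_inf_cen hS ▸ mem_inf.2 ⟨ha, h⟩)

include hS in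
theorem Y_two : IsPGroup 2 sh.Y := by
  haveI : Fact (Nat.Prime 2) := ⟨Nat.prime_two⟩
  exact (show IsPGroup 2 E from fun e => ⟨1, Subtype.ext (by simpa using hS.ea.2 e e.2)⟩).to_sup_of_normal_right'
    sh.R_two (sh.E_le_normalizer hS)

include hS in
theorem card_Y : Nat.card sh.Y = Nat.card E * (2 ^ n * 2 ^ n) := by
  rw [← sh.R_card, ← Nat.card_prod]
  refine (Nat.card_congr (Equiv.ofBijective (fun p : E × sh.R =>
    (⟨p.1.1 * p.2.1, mul_mem_sup p.1.2 p.2.2⟩ : sh.Y)) ⟨?_, ?_⟩)).symm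
  · rintro ⟨a, b⟩ ⟨a', b'⟩ he
    have he' : (a : G) * b = a' * b' := congrArg Subtype.val he
    have h1 : (a' : G)⁻¹ * a = b' * (b : G)⁻¹ := by
      rw [eq_mul_inv_iff_mul_eq, mul_assoc, he', inv_mul_cancel_left]
    have h2 : (a' : G)⁻¹ * a ∈ sh.R ⊓ E :=
      mem_inf.2 ⟨h1 ▸ mul_mem b'.2 (inv_mem b.2), mul_mem (inv_mem a'.2) a.2⟩
    rw [sh.R_inf_E hS, mem_bot, inv_mul_eq_one] at h2
    refine Prod.ext (Subtype.ext h2.symm) (Subtype.ext ?_)
    rw [← h2] at he'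
    exact mul_left_cancel he'
  · rintro ⟨y, hy⟩
    obtain ⟨e, he, a, ha, rfl⟩ := (sh.mem_Y hS).1 hy
    exact ⟨(⟨e, he⟩, ⟨a, ha⟩), rfl⟩

end Cfsg.Agent.UThreeEven.Shift
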