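import Cfsg.Agent.Lib.UThreeEven.Base

/-!
The translations of `E` along `Z₀` which exist as soon as `E × S₀⟨f⟩` is not a Sylow 2-subgroup of the whole
group (section B of `tools/scope/S3151_helper4.md`).
-/

set_option autoImplicit false
set_option linter.style.haveILetI false
set_option linter.unusedSectionVars false

namespace Cfsg.Agent.UThreeEven

open Subgroup
open Hermitian (fixed)

universe u v

variable {G : Type u} [Group G]

/-- An abelian group `R` of order `q²` centralising `S₀` and `D` and moving every involution `e` of `E` to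
`e z` with `z` running over `Z₀`. -/
structure Shift {t : G} {E U U₀ : Subgroup G} {F : Type v} [Field F] [CharP F 2] {σ : F →+* F}
    [SU3Sylow.Inv2 σ] {n : ℕ} (M : Model t E U U₀ σ n) where
  /-- the displacement of the involutions of `E`, normalised at `t` -/
  φ : G → ↥(fixed σ)
  φ_mul : ∀ e ∈ E, ∀ e' ∈ E, φ (e * e') = φ e + φ e'
  φ_inj : ∀ e ∈ E, φ e = 0 → e = 1
  φ_t : φ t = 1
  /-- squaring on `R` -/
  γ : ↥(fixed σ)
  R : Subgroup G
  R_comm : ∀ a ∈ R, ∀ b ∈ R, a * b = b * a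
  R_two : IsPGroup 2 ↥R
  R_card : Nat.card ↥R = 2 ^ n * 2 ^ n
  Z_le_R : M.Z₀ ≤ R
  /-- the translation of an element of `R` -/
  tr : G → ↥(fixed σ)
  tr_mul : ∀ a ∈ R, ∀ b ∈ R, tr (a * b) = tr a + tr b
  tr_eq_zero : ∀ a ∈ R, tr a = 0 ↔ a ∈ M.Z₀
  tr_surj : ∀ l : ↥(fixed σ), ∃ a ∈ R, tr a = l
  conj : ∀ a ∈ R, ∀ e ∈ E, a * e * a⁻¹ = e * M.ι (SU3Sylow.Heis.cen (tr a * φ e))
  sq : ∀ a ∈ R, a * a = M.ι (SU3Sylow.Heis.cen (γ * tr a))
  R_D : R ≤ centralizer (M.D : Set G)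
  R_S₀ : R ≤ centralizer (M.S₀ : Set G)
  H_R : M.H ≤ normalizer (R : Set G)
  Φ_R : M.Φ ≤ normalizer (R : Set G)

namespace Shift

variable {t : G} {E U U₀ : Subgroup G} {F : Type v} [Field F] [CharP F 2] {σ : F →+* F}
  [SU3Sylow.Inv2 σ] {n : ℕ} {M : Model t E U U₀ σ n}

/-- `E R`, of order `|E| q²`, meeting the centraliser of `t` in `E × Z₀`. -/
abbrev Y (_sh : Shift M) : Subgroup G := E ⊔ _sh.R

end Shift

end Cfsg.Agent.UThreeEven
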