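import Cfsg.Agent.Lib.UThreeEven.Base

/-!
The involutions and the elementary abelian subgroups of a Sylow 2-subgroup of the centraliser; `E × S₀` is
weakly closed in it.
-/

set_option autoImplicit false
set_option linter.style.haveILetI false
set_option linter.unusedSectionVars false

namespace Cfsg.Agent.UThreeEven.Model

open Subgroup SU3Sylow
open Hermitian (fixed mem_fixed)
open scoped commutatorElement

universe u v

variable {G : Type u} [Group G] {t : G} {E U U₀ : Subgroup G} {F : Type v} [Field F] [CharP F 2]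
  {σ : F →+* F} [SU3Sylow.Inv2 σ] {n : ℕ}

/-- `c` acts on `S₀/Z₀` as `v ↦ m σv`. -/
def Outer (M : Model t E U U₀ σ n) (c : G) (m : Fˣ) : Prop :=
  ∃ φ : MulAut (Heis σ), (∀ x, c * M.ι x * c⁻¹ = M.ι (φ x)) ∧ (∀ x, (φ x).a = m * σ x.a) ∧
    (m : F) * σ m = 1

variable [Finite G] [Finite F] (hS : Setup t E U U₀) (M : Model t E U U₀ σ n)
include M

theorem mem_W_of_mem_S₀ {x : G} (hx : x ∈ M.S₀) : x ∈ M.W := mem_sup_right hx

include hS in
theorem pow_two_of_Sg {c : G} (hc : c ∈ M.Sg) : IsPGroup 2 (zpowers c) :=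
  M.Sg_two.to_le (zpowers_le.2 hc)

include hS in
/-- An element of the Sylow subgroup acting linearly lies in `W`. -/
theorem mem_W_of_linear {c : G} (hc : c ∈ M.Sg) {φ : MulAut (Heis σ)}
    (hφ : ∀ x, c * M.ι x * c⁻¹ = M.ι (φ x)) {m : F} (ha : ∀ x, (φ x).a = m * x.a) : c ∈ M.W := by
  have h2 := M.pow_two_of_Sg hS hc
  refine M.mem_W_of_trivial hS (M.Sg_le_cen hS hc) (M.Sg_le_normalizer hS hc) hφ (fun x => ?_) h2
  obtain ⟨k, hk⟩ := exists_pow_eq_one h2
  have hpow : ∀ j : ℕ, ∀ y : Heis σ, ((φ ^ j) y).a = m ^ j * y.a := by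
    intro j
    induction j with
    | zero => simp
    | succ j ih =>
      intro y
      rw [pow_succ', MulAut.mul_apply, ha, ih, pow_succ']
      ring
  have hone : φ ^ (2 ^ k) = 1 := MulEquiv.ext fun y => M.inj (by rw [← M.auto_pow hφ, hk]; simp)
  obtain ⟨y, hy⟩ := Heis.exists_mk (σ := σ) M.ne_id 1
  have h := hpow (2 ^ k) y
  rw [hone, MulAut.one_apply, hy, mul_one] at h
  have h1 : (m - 1) ^ (2 ^ k) = 0 := by rw [sub_pow_char_pow, one_pow, ← h, sub_self]
  rw [ha, sub_eq_zero.1 (eq_zero_of_pow_eq_zero h1), one_mul]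

theorem auto_comp {c d : G} {φ ψ : MulAut (Heis σ)} (hφ : ∀ x, c * M.ι x * c⁻¹ = M.ι (φ x))
    (hψ : ∀ x, d * M.ι x * d⁻¹ = M.ι (ψ x)) (x : Heis σ) :
    c * d * M.ι x * (c * d)⁻¹ = M.ι (φ (ψ x)) := by
  rw [← hφ, ← hψ]
  group

include hS in
/-- An element of the Sylow subgroup with square in `W` which is outside `W` acts as an outer involution. -/
theorem exists_outer {c : G} (hc : c ∈ M.Sg) (hW : c ∉ M.W) (h2 : c * c ∈ M.W) : ∃ m, M.Outer c m := by
  obtain ⟨θ, hθ, m, s, hact⟩ := M.act c (M.Sg_le_cen hS hc) (M.Sg_le_normalizer hS hc)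
  set φ : MulAut (Heis σ) := MulAut.conj s * Heis.scale θ hθ m with hφdef
  have hφ : ∀ x, c * M.ι x * c⁻¹ = M.ι (φ x) := fun x => hact x
  have ha : ∀ x, (φ x).a = m * θ x.a := fun x => by
    show (s * Heis.scale θ hθ m x * s⁻¹).a = _
    rw [HeisAux.conj_a, Heis.scale_a]
  have hsq : ∀ a : F, ((1 : Fˣ) : F) * (RingEquiv.refl F) a =
      ((m * Units.map θ.toRingHom.toMonoidHom m : Fˣ) : F) * (θ * θ : F ≃+* F) a := fun a => by
    obtain ⟨x, rfl⟩ := Heis.exists_mk (σ := σ) M.ne_id a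
    have h := M.W_eq_trivial hS h2 (φ := φ * φ) (fun y => M.auto_comp hφ hφ y) x
    rw [MulAut.mul_apply, ha, ha, map_mul] at h
    calc _ = x.a := by simp
      _ = (m : F) * (θ (m : F) * θ (θ x.a)) := h.symm
      _ = _ := by
        simp only [Units.val_mul, Units.coe_map, RingAut.mul_apply]
        exact (mul_assoc _ _ _).symm
  obtain ⟨hm, hθ2⟩ := Heis.semilinear_unique M.ne_id hsq
  have hm' : (m : F) * θ (m : F) = 1 := by
    have := congrArg Units.val hm
    simpa using this.symm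
  have hθi : ∀ a, θ (θ a) = a := fun a => (congrArg (fun g : F ≃+* F => g a) hθ2).symm
  have hne : θ.toRingHom ≠ RingHom.id F := fun h => hW
    (M.mem_W_of_linear hS hc hφ (m := m) fun x => by
      rw [ha, show θ x.a = x.a from RingHom.congr_fun h x.a])
  have e : Nat.card (fixed θ.toRingHom) = Nat.card (fixed σ) := by
    have h1 := Hermitian.card_eq_sq hne hθi
    have h3 := Hermitian.card_eq_sq M.ne_id (Inv2.inv2 (σ := σ))
    exact Nat.pow_left_injective (by norm_num) (h1.symm.trans h3)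
  have hθσ : ∀ a, θ a = σ a := fun a => by
    haveI := Fintype.ofFinite F
    rw [Hermitian.apply_eq_pow M.ne_id (Inv2.inv2 (σ := σ)), ← e, ← Hermitian.apply_eq_pow hne hθi]
    rfl
  exact ⟨m, φ, hφ, fun x => by rw [ha, hθσ], by rw [← hθσ, hm']⟩

include hS in
theorem Outer.notMem {c : G} {m : Fˣ} (h : M.Outer c m) : c ∉ M.W := by
  obtain ⟨φ, hφ, ha, hm⟩ := h
  intro hW
  refine M.ne_id (RingHom.ext fun a => ?_)
  obtain ⟨x, rfl⟩ := Heis.exists_mk (σ := σ) M.ne_id a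
  obtain ⟨y, hy⟩ := Heis.exists_mk (σ := σ) M.ne_id 1
  have h1 := M.W_eq_trivial hS hW hφ x
  have h2 := M.W_eq_trivial hS hW hφ y
  rw [ha, hy, map_one, mul_one] at h2
  rw [ha, h2, one_mul] at h1
  exact h1

include hS in
theorem Outer.comm_Z₀ {c : G} {m : Fˣ} (h : M.Outer c m) {z : G} (hz : z ∈ M.Z₀) : c * z = z * c := by
  obtain ⟨φ, hφ, ha, hm⟩ := h
  obtain ⟨l, rfl⟩ := M.mem_Z₀.1 hz
  obtain ⟨a, ha2, haa⟩ := Algebra.exists_sq (l : F) (mem_fixed.1 l.2)
  obtain ⟨y, hy⟩ := Heis.exists_mk (σ := σ) M.ne_id a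
  have hl : Heis.cen l = y * y := by
    rw [Heis.mul_self]
    congr 1
    exact Subtype.ext (by simp [hy, ha2, haa])
  have hyy : φ (y * y) = y * y := by
    rw [map_mul, Heis.mul_self, Heis.mul_self]
    congr 1
    refine Subtype.ext ?_
    simp only [ha, hy, ha2, map_mul]
    linear_combination (a * a) * hm
  have := hφ (Heis.cen l)
  rw [hl, hyy] at this
  rw [hl]
  exact mul_inv_eq_iff_eq_mul.1 this

include hS in
theorem Outer.comm_A {c : G} {m : Fˣ} (h : M.Outer c m) (hc : c ∈ cen t) {z : G} (hz : z ∈ M.A) :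
    c * z = z * c := by
  obtain ⟨e, he, w, hw, rfl⟩ := mem_sup_comm (fun p hp q hq => M.E_S₀_comm hS hp (M.Z₀_le hq)) hz
  rw [← mul_assoc, ← hS.E_central he hc, mul_assoc, Outer.comm_Z₀ hS M h hw, ← mul_assoc]

include hS in
/-- An outer involution commutes with no element of `S₀` outside `Z₀`. -/
theorem Outer.commute_S₀ {c : G} {m : Fˣ} (h : M.Outer c m) (h2 : c * c = 1) {x : G} (hx : x ∈ M.S₀)
    (hcx : c * x = x * c) : x ∈ M.Z₀ := by
  obtain ⟨φ, hφ, ha, hm⟩ := h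
  obtain ⟨x, rfl⟩ := M.mem_S₀.1 hx
  rw [M.ι_mem_Z₀]
  by_contra hxa
  have hfx : φ x = x := M.inj (by rw [← hφ, hcx, mul_inv_cancel_right])
  have hφ2 : ∀ y, φ (φ y) = y := fun y => M.inj (by
    rw [← M.auto_comp hφ hφ, h2]; simp)
  obtain ⟨k, hk⟩ : ∃ k : F, k + σ k = 1 := by
    haveI := Fintype.ofFinite F
    exact Hermitian.exists_trace M.ne_id (Inv2.inv2 (σ := σ)) (map_one σ)
  have hv : (m : F) * σ x.a = x.a := by rw [← ha, hfx]
  obtain ⟨y, hy⟩ := Heis.exists_mk (σ := σ) M.ne_id (k * x.a)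
  have hya : (y * φ y).a = x.a := by
    rw [Heis.mul_a, ha, hy, map_mul]
    linear_combination σ k * hv + x.a * hk
  have hz : (x⁻¹ * (y * φ y)).a = 0 := by
    rw [Heis.mul_a, Heis.inv_a, hya, CharTwo.add_self_eq_zero]
  have hzfix : φ (x⁻¹ * (y * φ y)) = x⁻¹ * (y * φ y) := M.inj (by
    rw [← hφ, Outer.comm_Z₀ hS M ⟨φ, hφ, ha, hm⟩ (M.ι_mem_Z₀.2 hz), mul_inv_cancel_right])
  rw [map_mul, map_inv, hfx, mul_right_inj, map_mul, hφ2] at hzfix
  have hcom := (Heis.comm_iff (φ y) y).1 hzfix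
  have hN : x.a * σ x.a = 0 := by
    rw [← hya, Heis.mul_a, map_add, ha, map_mul, Inv2.inv2]
    rw [ha, map_mul, Inv2.inv2] at hcom
    linear_combination (y.a * σ y.a) * hm + hcom + (y.a * σ y.a + (m : F) * σ y.a * σ y.a) *
      (CharTwo.two_eq_zero : (2 : F) = 0)
  rcases mul_eq_zero.1 hN with h0 | h0
  · exact hxa h0
  · exact hxa ((map_eq_zero σ).1 h0)

include hS in
theorem mem_A_of_invol {w : G} (hw : w ∈ M.W) (h2 : w * w = 1) : w ∈ M.A := by
  obtain ⟨e, he, x, rfl⟩ := (M.mem_W hS).1 hw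
  rw [M.mul_self_eq hS he] at h2
  have hx : x * x = 1 := M.inj (h2.trans M.ι.map_one.symm)
  exact mul_mem_sup he (M.ι_mem_Z₀.2 ((Heis.mul_self_eq_one_iff x).1 hx))

include hS in
theorem commute_mem_A {c : G} {m : Fˣ} (h : M.Outer c m) (hc : c ∈ cen t) (h2 : c * c = 1) {w : G}
    (hw : w ∈ M.W) (hcw : c * w = w * c) : w ∈ M.A := by
  obtain ⟨e, he, x, rfl⟩ := (M.mem_W hS).1 hw
  refine mul_mem_sup he (Outer.commute_S₀ hS M h h2 (M.ι_mem x) ?_)
  rw [← mul_assoc, ← hS.E_central he hc, mul_assoc, mul_assoc] at hcw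
  exact mul_left_cancel hcw

include hS in
/-- Two elements with the same outer action differ by an element of `W`. -/
theorem Outer.inv_mul_mem {c d : G} {m m' : Fˣ} (hc : c ∈ M.Sg) (hd : d ∈ M.Sg) (h : M.Outer c m)
    (h' : M.Outer d m') : c⁻¹ * d ∈ M.W := by
  obtain ⟨φ, hφ, ha, hm⟩ := h
  obtain ⟨ψ, hψ, ha', hm'⟩ := h'
  have hinv : ∀ x, c⁻¹ * M.ι x * c⁻¹⁻¹ = M.ι (φ⁻¹ x) := fun x => by
    have := hφ (φ⁻¹ x)
    rw [MulAut.apply_inv_self] at this
    rw [← this]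
    group
  refine M.mem_W_of_linear hS (mul_mem (inv_mem hc) hd) (φ := φ⁻¹ * ψ)
    (m := (m : F) * σ (m' : F)) (fun x => ?_) ?_
  · exact M.auto_comp hinv hψ x
  · intro x
    have e := ha ((φ⁻¹ * ψ) x)
    rw [MulAut.mul_apply, MulAut.apply_inv_self, ha'] at e
    have e' := congrArg σ e
    simp only [map_mul, Inv2.inv2] at e'
    rw [MulAut.mul_apply]
    linear_combination (-(m : F)) * e' - (φ⁻¹ (ψ x)).a * hm

include hS in
theorem outer_invol {c : G} (hc : c ∈ M.Sg) (hW : c ∉ M.W) (h2 : c * c = 1) : ∃ m, M.Outer c m :=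
  M.exists_outer hS hc hW (h2 ▸ one_mem _)

include hS in
/-- Every outer involution is a product of an element of `E` and a conjugate of a given one under `S₀`. -/
theorem outer_class {c c' : G} (hc : c ∈ M.Sg) (hW : c ∉ M.W) (h2 : c * c = 1) (hc' : c' ∈ M.Sg)
    (hW' : c' ∉ M.W) (h2' : c' * c' = 1) : ∃ e ∈ E, ∃ y ∈ M.S₀, c' = e * (y * c * y⁻¹) := by
  classical
  obtain ⟨m, hm⟩ := M.outer_invol hS hc hW h2
  obtain ⟨m', hm'⟩ := M.outer_invol hS hc' hW' h2'
  obtain ⟨e, he, x, hx⟩ := (M.mem_W hS).1 (Outer.inv_mul_mem hS M hc hc' hm hm')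
  obtain ⟨φ, hφ, ha, hmm⟩ := hm
  have hcC := M.Sg_le_cen hS hc
  have hc'e : c' = e * (c * M.ι x) := by
    rw [← mul_assoc, hS.E_central he hcC, mul_assoc, ← hx, mul_inv_cancel_left]
  have hxi : φ x = x⁻¹ := by
    refine M.inj ?_
    have h := h2'
    rw [hc'e, mul_assoc, ← mul_assoc (c * M.ι x),
      ← hS.E_central he (mul_mem hcC (M.S₀_le_cen hS (M.ι_mem x))), mul_assoc, ← mul_assoc,
      hS.E_mul_self he, one_mul] at h
    rw [← hφ, map_inv, eq_inv_iff_mul_eq_one, show c⁻¹ = c from inv_eq_of_mul_eq_one_left h2,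
      mul_assoc (c * _)]
    exact h
  suffices h : ∃ y : Heis σ, φ y * y⁻¹ = x by
    obtain ⟨y, hy⟩ := h
    refine ⟨e, he, M.ι y, M.ι_mem y, ?_⟩
    rw [hc'e]
    congr 1
    rw [← hy, map_mul, ← hφ, map_inv, show c * M.ι y * c⁻¹ * (M.ι y)⁻¹ = c * M.ι y * (c⁻¹ * (M.ι y)⁻¹) by
      group, show c⁻¹ = c from inv_eq_of_mul_eq_one_left h2, ← mul_assoc c, ← mul_assoc c, h2, one_mul]
    group
  set I : Set (Heis σ) := {z | φ z = z⁻¹} with hI
  have hfI : ∀ y, φ y * y⁻¹ ∈ I := fun y => by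
    show φ (φ y * y⁻¹) = _
    have h3 : φ (φ y) = y := M.inj (by rw [← M.auto_comp hφ hφ, h2]; simp)
    rw [map_mul, map_inv, h3]
    group
  -- the fibres are contained in the cosets of the centre
  have hfib : ∀ y y', φ y * y⁻¹ = φ y' * y'⁻¹ → y⁻¹ * y' ∈ center (Heis σ) := fun y y' h => by
    have hfix : φ (y⁻¹ * y') = y⁻¹ * y' := by
      rw [map_mul, map_inv, inv_mul_eq_iff_eq_mul, ← mul_assoc, h, mul_assoc, inv_mul_cancel, mul_one]
    have := Outer.commute_S₀ hS M ⟨φ, hφ, ha, hmm⟩ h2 (M.ι_mem (y⁻¹ * y')) (by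
      conv_rhs => rw [← hfix, ← hφ, inv_mul_cancel_right])
    exact (Heis.mem_center_iff M.ne_id _).2 (M.ι_mem_Z₀.1 this)
  have hcard : Nat.card I ≤ 2 ^ n * 2 ^ n := by
    by_cases h0 : ∃ v : F, v ≠ 0 ∧ (m : F) * σ v = v
    · obtain ⟨v, hv0, hv⟩ := h0
      have hk : ∀ z ∈ I, σ (z.a / v) = z.a / v := fun z hz => by
        have h := congrArg Heis.a (show φ z = z⁻¹ from hz)
        rw [ha, Heis.inv_a] at h
        have hσv : σ v ≠ 0 := (map_ne_zero σ).2 hv0
        rw [map_div₀, div_eq_div_iff hσv hv0]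
        linear_combination σ v * h - σ z.a * hv
      choose mk hmk using fun k : fixed σ => Heis.exists_mk (σ := σ) M.ne_id ((k : F) * v)
      refine (Nat.card_le_card_of_surjective
        (fun p : fixed σ × fixed σ => if h : mk p.1 * Heis.cen p.2 ∈ I then (⟨_, h⟩ : I) else ⟨1, by
          show φ 1 = 1⁻¹; simp⟩) ?_).trans (by rw [Nat.card_prod, M.card_fixed])
      rintro ⟨z, hz⟩
      set k : fixed σ := ⟨z.a / v, mem_fixed.2 (hk z hz)⟩ with hkdef
      have hd : ((mk k)⁻¹ * z).a = 0 := by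
        rw [Heis.mul_a, Heis.inv_a, hmk, hkdef, div_mul_cancel₀ _ hv0, CharTwo.add_self_eq_zero]
      refine ⟨(k, ⟨_, Heis.b_fixed hd⟩), ?_⟩
      simp only [← Heis.eq_cen hd, mul_inv_cancel_left]
      rw [dif_pos hz]
    · push Not at h0
      refine (Nat.card_le_card_of_injective (fun z : I => (⟨z.1.b, Heis.b_fixed (x := z.1) ?_⟩ : fixed σ))
        ?_).trans ?_
      · by_contra hz
        refine h0 z.1.a hz ?_
        have h := congrArg Heis.a (show φ z.1 = z.1⁻¹ from z.2)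
        rwa [ha, Heis.inv_a] at h
      · intro z z' h
        refine Subtype.ext (Heis.ext ?_ (congrArg Subtype.val h))
        have hz0 : ∀ w : I, w.1.a = 0 := fun w => by
          by_contra hw
          refine h0 w.1.a hw ?_
          have h := congrArg Heis.a (show φ w.1 = w.1⁻¹ from w.2)
          rwa [ha, Heis.inv_a] at h
        rw [hz0, hz0]
      · rw [M.card_fixed]; exact Nat.le_mul_of_pos_left _ (by positivity)
  let g : Heis σ ⧸ center (Heis σ) → I := fun q => ⟨_, hfI q.out⟩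
  have hg : Function.Injective g := fun q q' h => by
    have := hfib _ _ (congrArg Subtype.val h)
    rw [← QuotientGroup.out_eq' q, ← QuotientGroup.out_eq' q']
    exact QuotientGroup.eq.2 this
  have hq : Nat.card (Heis σ ⧸ center (Heis σ)) = 2 ^ n * 2 ^ n := by
    have h := card_eq_card_quotient_mul_card_subgroup (center (Heis σ))
    rw [Heis.card_eq M.ne_id M.card_fixed, Heis.card_center M.ne_id M.card_fixed] at h
    exact Nat.eq_of_mul_eq_mul_right (m := 2 ^ n) (by positivity) (by rw [← h]; ring)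
  have hsurj : Function.Surjective g := by
    refine ((Nat.bijective_iff_injective_and_card g).2 ⟨hg, ?_⟩).2
    exact le_antisymm (Nat.card_le_card_of_injective g hg) (hq ▸ hcard)
  obtain ⟨q, hq'⟩ := hsurj ⟨x, hxi⟩
  exact ⟨q.out, congrArg Subtype.val hq'⟩

include hS in
/-- An elementary abelian subgroup is contained in `A` or in `A⟨c⟩` for each of its outer elements `c`. -/
theorem elementary_le {P : Subgroup G} (hle : P ≤ M.Sg) (hP : Cfsg.IsElementaryAbelian 2 P) {c : G}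
    (hc : c ∈ P) (hW : c ∉ M.W) : P ≤ M.A ⊔ zpowers c := by
  have hsq : ∀ p ∈ P, p * p = 1 := fun p hp => by rw [← sq]; exact hP.2 p hp
  intro p hp
  by_cases hpW : p ∈ M.W
  · exact mem_sup_left (M.mem_A_of_invol hS hpW (hsq p hp))
  obtain ⟨m, hm⟩ := M.outer_invol hS (hle hc) hW (hsq c hc)
  obtain ⟨m', hm'⟩ := M.outer_invol hS (hle hp) hpW (hsq p hp)
  have h := Outer.inv_mul_mem hS M (hle hc) (hle hp) hm hm'
  have := M.mem_A_of_invol hS h (hsq _ (mul_mem (inv_mem hc) hp))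
  rw [← mul_inv_cancel_left c p]
  exact mul_mem (mem_sup_right (mem_zpowers c)) (mem_sup_left this)

include hS in
theorem elementary_le_A {P : Subgroup G} (hP : Cfsg.IsElementaryAbelian 2 P)
    (h : P ≤ M.W) : P ≤ M.A := fun p hp =>
  M.mem_A_of_invol hS (h hp) (by rw [← sq]; exact hP.2 p hp)

end Cfsg.Agent.UThreeEven.Model
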