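import Cfsg.Agent.Lib.Transfer.EngelTransfer

/-!
An involution is outside a subgroup of index 2 as soon as a character of a Sylow 2-subgroup is nontrivial on
its extremal conjugates.
-/

set_option autoImplicit false
set_option linter.style.haveILetI false
set_option linter.unusedSectionVars false

namespace Cfsg.Agent.UThreeEven

open Subgroup

universe u

variable {G : Type u} [Group G] [Finite G]

theorem eq_one_or_ofAdd (a : Multiplicative (ZMod 2)) : a = 1 ∨ a = Multiplicative.ofAdd 1 := by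
  revert a; decide

theorem ofAdd_sq : (Multiplicative.ofAdd (1 : ZMod 2)) ^ 2 = 1 := by decide

theorem ofAdd_ne : (Multiplicative.ofAdd (1 : ZMod 2)) ≠ 1 := by decide

/-- Thompson's transfer lemma with extremal conjugates. -/
theorem exists_hom_of_extremal (T : Sylow 2 G) {t : G} (ht : orderOf t = 2) (S : Subgroup G)
    (hS2 : IsPGroup 2 S) (hS : S ≤ centralizer ({t} : Set G))
    (χ : (T : Subgroup G) →* Multiplicative (ZMod 2))
    (hext : ∀ g : G, (∀ s ∈ S, g⁻¹ * s * g ∈ T) → ∀ h : g⁻¹ * t * g ∈ T, χ ⟨_, h⟩ ≠ 1) :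
    ∃ ψ : G →* Multiplicative (ZMod 2), ψ t ≠ 1 := by
  classical
  haveI : Fact (Nat.Prime 2) := ⟨Nat.prime_two⟩
  haveI := Fintype.ofFinite (G ⧸ (T : Subgroup G))
  refine ⟨MonoidHom.transfer χ, ?_⟩
  have htt : t * t = 1 := by rw [← sq, ← ht, pow_orderOf_eq_one]
  rw [EngelTransfer.transfer_eq_prod χ t fun k g h hk hd => by
    have hk2 : k = 2 := by
      rw [ht] at hd
      have := Nat.le_of_dvd two_pos hd
      omega
    subst hk2
    have h1 : (⟨g⁻¹ * t ^ 2 * g, h⟩ : (T : Subgroup G)) = 1 := Subtype.ext (by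
      show g⁻¹ * t ^ 2 * g = 1
      rw [sq, htt, mul_one, inv_mul_cancel])
    rw [h1, map_one]]
  set val := EngelTransfer.val χ t with hval
  -- the fixed cosets
  set Fx : Set (G ⧸ (T : Subgroup G)) := {c | t • c = c} with hFx
  have hmemT : ∀ g : G, t • (g : G ⧸ (T : Subgroup G)) = g ↔ g⁻¹ * t * g ∈ T := fun g => by
    rw [MulAction.Quotient.smul_mk, QuotientGroup.eq, smul_eq_mul]
    constructor <;> intro h
    · have := inv_mem h
      rwa [show ((t * g)⁻¹ * g)⁻¹ = g⁻¹ * t * g by group] at this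
    · have := inv_mem h
      rwa [show (g⁻¹ * t * g)⁻¹ = (t * g)⁻¹ * g by group] at this
  have hne : ∀ c, val c ≠ 1 → c ∈ Fx := by
    intro c hc
    obtain ⟨g, rfl⟩ := QuotientGroup.mk_surjective c
    by_contra h
    exact hc (EngelTransfer.val_mk_not χ t g fun h' => h ((hmemT g).2 h'))
  have hsmul : ∀ a ∈ centralizer ({t} : Set G), ∀ c, val (a • c) = val c := by
    intro a ha c
    obtain ⟨g, rfl⟩ := QuotientGroup.mk_surjective c
    rw [MulAction.Quotient.smul_mk, smul_eq_mul, hval, EngelTransfer.val_smul,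
      show a⁻¹ * t * a = t by rw [mul_assoc, ← mem_centralizer_singleton_iff.1 ha, inv_mul_cancel_left]]
  -- an odd number of fixed cosets
  have hodd : Odd (Nat.card (G ⧸ (T : Subgroup G))) := by
    rw [← Subgroup.index, Nat.odd_iff, Nat.two_dvd_ne_zero.symm]
    exact T.not_dvd_index
  have hA : ∀ a : S, ∀ c : G ⧸ (T : Subgroup G), (t • c = c ∧ val c = 1) → t • ((a : G) • c) = (a : G) • c ∧
      val ((a : G) • c) = 1 := fun a c h => by
    refine ⟨?_, (hsmul a (hS a.2) c).trans h.2⟩
    rw [← mul_smul, ← mem_centralizer_singleton_iff.1 (hS a.2), mul_smul, h.1]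
  let act : MulAction S {c : G ⧸ (T : Subgroup G) // t • c = c ∧ val c = 1} :=
    { smul := fun a c => ⟨(a : G) • c.1, hA a c.1 c.2⟩
      one_smul := fun c => Subtype.ext (one_smul G c.1)
      mul_smul := fun a b c => Subtype.ext (mul_smul (a : G) b c.1) }
  have heven : 2 ∣ Nat.card {c : G ⧸ (T : Subgroup G) // t • c = c ∧ val c = 1} := by
    letI := act
    refine (Nat.modEq_zero_iff_dvd).1 ((hS2.card_modEq_card_fixedPoints _).trans ?_)
    haveI : IsEmpty (MulAction.fixedPoints S {c : G ⧸ (T : Subgroup G) // t • c = c ∧ val c = 1}) := by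
      refine ⟨fun ⟨⟨c, hc, hv⟩, hf⟩ => ?_⟩
      obtain ⟨g, rfl⟩ := QuotientGroup.mk_surjective c
      have hm := (hmemT g).1 hc
      rw [hval, EngelTransfer.val_mk χ t g hm] at hv
      refine hext g (fun s hs => ?_) hm hv
      have h := congrArg Subtype.val (MulAction.mem_fixedPoints.1 hf ⟨s, hs⟩)
      change (s • (g : G ⧸ (T : Subgroup G))) = g at h
      rw [MulAction.Quotient.smul_mk, QuotientGroup.eq, smul_eq_mul] at h
      have := inv_mem h
      rwa [show ((s * g)⁻¹ * g)⁻¹ = g⁻¹ * s * g by group] at this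
    simp only [Nat.card_of_isEmpty]
    exact Nat.ModEq.refl 0
  have hfix : Nat.card (G ⧸ (T : Subgroup G)) ≡ Nat.card {c : G ⧸ (T : Subgroup G) // t • c = c} [MOD 2] := by
    have h2 : IsPGroup 2 (zpowers t) := IsPGroup.of_card (n := 1) (by rw [Nat.card_zpowers, ht, pow_one])
    have h := h2.card_modEq_card_fixedPoints (G ⧸ (T : Subgroup G))
    refine h.trans ?_
    have e : ∀ c : G ⧸ (T : Subgroup G), c ∈ MulAction.fixedPoints (zpowers t) (G ⧸ (T : Subgroup G)) ↔ t • c = c := by
      intro c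
      rw [MulAction.mem_fixedPoints]
      constructor
      · intro hc; exact hc ⟨t, mem_zpowers t⟩
      · rintro hc ⟨x, hx⟩
        obtain ⟨k, rfl⟩ := mem_zpowers_iff.1 hx
        exact zpow_mem (show t ∈ MulAction.stabilizer G c from hc) k
    rw [Nat.card_congr (Equiv.subtypeEquivRight e)]
  -- the product
  have hprod : ∏ c, val c = (Multiplicative.ofAdd (1 : ZMod 2)) ^ (Finset.univ.filter fun c => val c ≠ 1).card := by
    rw [← Finset.prod_filter_ne_one (s := Finset.univ) (f := val), Finset.prod_eq_pow_card]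
    intro c hc
    exact (eq_one_or_ofAdd _).resolve_left (Finset.mem_filter.1 hc).2
  rw [hprod]
  have hcount : Nat.card {c : G ⧸ (T : Subgroup G) // t • c = c} =
      Nat.card {c : G ⧸ (T : Subgroup G) // t • c = c ∧ val c = 1} +
        (Finset.univ.filter fun c => val c ≠ 1).card := by
    rw [Nat.card_eq_fintype_card, Nat.card_eq_fintype_card, Fintype.card_subtype, Fintype.card_subtype,
      ← Finset.card_filter_add_card_filter_not (s := Finset.univ.filter fun c => t • c = c) (fun c => val c = 1),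
      Finset.filter_filter, Finset.filter_filter]
    congr 2
    ext c
    simp only [Finset.mem_filter, Finset.mem_univ, true_and]
    exact ⟨fun h => h.2, fun h => ⟨hne c h, h⟩⟩
  have hn : Odd (Finset.univ.filter fun c => val c ≠ 1).card := by
    rw [Nat.odd_iff] at hodd ⊢
    unfold Nat.ModEq at hfix
    omega
  obtain ⟨k, hk⟩ := hn
  rw [hk, pow_succ, pow_mul]
  rw [ofAdd_sq, one_pow, one_mul]
  exact ofAdd_ne

/-- The form used by the theorem. -/
theorem exists_complement_of_hom {t : G} (ht : orderOf t = 2) (ψ : G →* Multiplicative (ZMod 2)) (hψ : ψ t ≠ 1) :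
    ∃ H : Subgroup G, IsComplement' (zpowers t) H := by
  refine ⟨ψ.ker, ?_⟩
  refine isComplement'_of_card_mul_and_disjoint ?_ ?_
  · rw [Nat.card_zpowers, ht, mul_comm, ← ψ.ker.card_mul_index]
    congr 1
    rw [index_ker]
    have hsurj : ψ.range = ⊤ := by
      rw [eq_top_iff]
      intro a _
      rcases eq_one_or_ofAdd a with rfl | rfl
      · exact one_mem _
      · exact ⟨t, (eq_one_or_ofAdd (ψ t)).resolve_left hψ⟩
    rw [hsurj, card_top, Nat.card_eq_fintype_card]
    rfl
  · rw [disjoint_def]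
    intro x hx hk
    obtain ⟨k, rfl⟩ := mem_zpowers_iff.1 hx
    obtain ⟨j, rfl | rfl⟩ := Int.even_or_odd' k
    · rw [zpow_mul, zpow_ofNat, show t ^ 2 = 1 from orderOf_dvd_iff_pow_eq_one.1 ht.dvd, one_zpow]
    · exfalso
      rw [MonoidHom.mem_ker, zpow_add, zpow_mul, zpow_one, zpow_ofNat,
        show t ^ 2 = 1 from orderOf_dvd_iff_pow_eq_one.1 ht.dvd, one_zpow, one_mul] at hk
      exact hψ hk

end Cfsg.Agent.UThreeEven
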