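import Cfsg.Agent.Lib.UThreeEven.Sylow

/-!
`E × S₀` is weakly closed in the Sylow subgroup of the centraliser; its normaliser fixes `E × Z₀` and `Z₀`.
-/

set_option autoImplicit false
set_option linter.style.haveILetI false
set_option linter.unusedSectionVars false

namespace Cfsg.Agent.UThreeEven.Model

open Subgroup SU3Sylow
open Hermitian (fixed mem_fixed)
open scoped commutatorElement

universe u v

variable {G : Type u} [Group G] {t : G} {E U U₀ : Subgroup G} {F : Type v} [Field F] [CharP F 2]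
  {σ : F →+* F} [SU3Sylow.Inv2 σ] {n : ℕ}
variable [Finite G] [Finite F] (hS : Setup t E U U₀) (M : Model t E U U₀ σ n)
include M

/-- Every element of `Z₀` is a commutator of two elements of `S₀`. -/
theorem exists_commutator {z : G} (hz : z ∈ M.Z₀) :
    ∃ a ∈ M.S₀, ∃ b ∈ M.S₀, ⁅a, b⁆ = z := by
  obtain ⟨c, rfl⟩ := M.mem_Z₀.1 hz
  haveI := Fintype.ofFinite F
  obtain ⟨v, hv⟩ := Hermitian.exists_trace M.ne_id (Inv2.inv2 (σ := σ)) (x := (c : F)) (mem_fixed.1 c.2)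
  obtain ⟨x, hx⟩ := Heis.exists_mk (σ := σ) M.ne_id 1
  obtain ⟨y, hy⟩ := Heis.exists_mk (σ := σ) M.ne_id v
  refine ⟨_, M.ι_mem x, _, M.ι_mem y, ?_⟩
  rw [commutatorElement_def, ← map_inv, ← map_inv, ← map_mul, ← map_mul, ← map_mul]
  congr 1
  have h : x * y * x⁻¹ = y * Heis.cen c := by
    refine Heis.ext ?_ ?_
    · rw [HeisAux.conj_a, Heis.mul_a, Heis.cen_a, add_zero]
    · rw [HeisAux.conj_b, Heis.mul_b, Heis.cen_a, Heis.cen_b, hx, hy, map_one, one_mul, mul_one, hv,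
        mul_zero, add_zero]
  rw [h, HeisAux.comm_cen, mul_inv_cancel_right]

include hS in
theorem commutator_mem_S₀ {a b : G} (ha : a ∈ M.Sg) (hb : b ∈ M.Sg) : ⁅a, b⁆ ∈ M.S₀ := by
  have hm : ⁅a, b⁆ ∈ M.Sg := by
    rw [commutatorElement_def]
    exact mul_mem (mul_mem (mul_mem ha hb) (inv_mem ha)) (inv_mem hb)
  rw [← M.Sg_inf_U₀ hS]
  exact mem_inf.2 ⟨hm, M.two_commutator _
    (commutator_mem_commutator (M.Sg_le_cen hS ha) (M.Sg_le_cen hS hb)) (M.pow_two_of_Sg hS hm)⟩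

include hS in
theorem A_comm_W {a w : G} (ha : a ∈ M.A) (hw : w ∈ M.W) : a * w = w * a := by
  obtain ⟨e, he, c, rfl⟩ := (M.mem_A hS).1 ha
  obtain ⟨e', he', x, rfl⟩ := (M.mem_W hS).1 hw
  calc e * M.ι (Heis.cen c) * (e' * M.ι x)
      = e * e' * (M.ι (Heis.cen c) * M.ι x) := by
        rw [mul_assoc, ← mul_assoc (M.ι _) e', ← M.E_S₀_comm hS he' (M.ι_mem _), mul_assoc e', ← mul_assoc e]
    _ = e' * e * (M.ι x * M.ι (Heis.cen c)) := by
        rw [hS.E_comm he he', ← map_mul, ← map_mul, HeisAux.comm_cen]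
    _ = _ := by
        rw [mul_assoc e', ← mul_assoc e, M.E_S₀_comm hS he (M.ι_mem _), mul_assoc, ← mul_assoc e']

include hS in
theorem W_center {w : G} (hw : w ∈ M.W) (h : ∀ x ∈ M.W, w * x = x * w) : w ∈ M.A := by
  obtain ⟨e, he, x, rfl⟩ := (M.mem_W hS).1 hw
  refine mul_mem_sup he (M.ι_mem_Z₀.2 ((Heis.mem_center_iff M.ne_id x).1 (mem_center_iff.2 fun y => ?_)))
  have h1 := h _ (mem_sup_right (S := E) (M.ι_mem y))
  rw [mul_assoc, ← map_mul, ← mul_assoc, ← M.E_S₀_comm hS he (M.ι_mem y), mul_assoc, ← map_mul] at h1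
  exact (M.inj (mul_left_cancel h1)).symm

include hS in
theorem mul_self_mem_Z₀ {w : G} (hw : w ∈ M.W) : w * w ∈ M.Z₀ := by
  obtain ⟨e, he, x, rfl⟩ := (M.mem_W hS).1 hw
  rw [M.mul_self_eq hS he, Heis.mul_self]
  exact M.mem_Z₀.2 ⟨_, rfl⟩

include hS in
theorem two_lt_W : 2 * Nat.card M.A * 2 ^ n < Nat.card M.W := by
  rw [M.card_A hS, M.card_W hS]
  have hE : 0 < Nat.card E := Nat.card_pos
  have h4 := M.four_le
  nlinarith [mul_pos hE (mul_pos (show 0 < 2 ^ n by positivity) (show 0 < 2 ^ n by positivity))]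

include hS in
/-- `E × S₀` is weakly closed in the Sylow subgroup. -/
theorem W_weakly_closed {g : G} (h : ∀ w ∈ M.W, g * w * g⁻¹ ∈ M.Sg) : g ∈ normalizer (M.W : Set G) := by
  classical
  set W' : Subgroup G := M.W.map (MulAut.conj g).toMonoidHom with hW'def
  have hmem : ∀ x, x ∈ W' ↔ ∃ w ∈ M.W, g * w * g⁻¹ = x := fun x => Subgroup.mem_map
  have hW'le : W' ≤ M.Sg := fun x hx => by
    obtain ⟨w, hw, rfl⟩ := (hmem x).1 hx; exact h w hw
  have hcardW' : Nat.card W' = Nat.card M.W :=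
    (Nat.card_congr (equivMapOfInjective _ _ (MulEquiv.injective _)).toEquiv).symm
  have hsqW : ∀ x ∈ W', x * x ∈ M.W := fun x hx => by
    obtain ⟨w, hw, rfl⟩ := (hmem x).1 hx
    obtain ⟨a, ha, b, hb, hab⟩ := M.exists_commutator (M.mul_self_mem_Z₀ hS hw)
    have e : g * w * g⁻¹ * (g * w * g⁻¹) = ⁅g * a * g⁻¹, g * b * g⁻¹⁆ := by
      rw [show g * w * g⁻¹ * (g * w * g⁻¹) = g * (w * w) * g⁻¹ by group, ← hab, commutatorElement_def,
        commutatorElement_def]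
      group
    rw [e]
    exact M.mem_W_of_mem_S₀ (M.commutator_mem_S₀ hS (h a (M.mem_W_of_mem_S₀ ha)) (h b (M.mem_W_of_mem_S₀ hb)))
  -- the centre
  have hA : ∀ a ∈ M.A, g * a * g⁻¹ ∈ M.A := by
    intro a ha
    set c := g * a * g⁻¹ with hc
    have hcS : c ∈ M.Sg := h a (M.A_le_W hS ha)
    have hc2 : c * c = 1 := by
      rw [hc, show g * a * g⁻¹ * (g * a * g⁻¹) = g * (a * a) * g⁻¹ by group, ← sq,
        (M.A_ea hS).2 a ha, mul_one, mul_inv_cancel]
    have hcom : ∀ x ∈ W', c * x = x * c := fun x hx => by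
      obtain ⟨w, hw, rfl⟩ := (hmem x).1 hx
      rw [hc, show g * a * g⁻¹ * (g * w * g⁻¹) = g * (a * w) * g⁻¹ by group, M.A_comm_W hS ha hw]
      group
    refine M.mem_A_of_invol hS ?_ hc2
    by_contra hcW
    obtain ⟨m, hm⟩ := M.outer_invol hS hcS hcW hc2
    -- then `W'` is abelian
    have hdec : ∀ x ∈ W', ∃ b ∈ M.A, x = b ∨ x = c * b := by
      intro x hx
      by_cases hxW : x ∈ M.W
      · exact ⟨x, M.commute_mem_A hS hm (M.Sg_le_cen hS hcS) hc2 hxW (hcom x hx), Or.inl rfl⟩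
      obtain ⟨m', hm'⟩ := M.exists_outer hS (hW'le hx) hxW (hsqW x hx)
      refine ⟨c⁻¹ * x, M.commute_mem_A hS hm (M.Sg_le_cen hS hcS) hc2
        (Outer.inv_mul_mem hS M hcS (hW'le hx) hm hm') ?_, Or.inr (mul_inv_cancel_left c x).symm⟩
      rw [← mul_assoc, mul_inv_cancel, one_mul, mul_assoc, ← hcom x hx, inv_mul_cancel_left]
    have hcA : ∀ b ∈ M.A, c * b = b * c := fun b hb => Outer.comm_A hS M hm (M.Sg_le_cen hS hcS) hb
    have hAc : ∀ b ∈ M.A, ∀ b' ∈ M.A, b * b' = b' * b := fun b hb b' hb' =>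
      M.A_comm_W hS hb (M.A_le_W hS hb')
    have hab : ∀ x ∈ W', ∀ y ∈ W', x * y = y * x := by
      intro x hx y hy
      obtain ⟨b, hb, hx'⟩ := hdec x hx
      obtain ⟨b', hb', hy'⟩ := hdec y hy
      rcases hx' with rfl | rfl <;> rcases hy' with rfl | rfl
      · exact hAc _ hb _ hb'
      · rw [← mul_assoc, ← hcA _ hb, mul_assoc, hAc _ hb _ hb', ← mul_assoc]
      · rw [mul_assoc, hAc _ hb _ hb', ← mul_assoc, hcA _ hb', mul_assoc]
      · rw [mul_assoc, ← mul_assoc b, ← hcA _ hb, mul_assoc c b, hAc _ hb _ hb', mul_assoc c b',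
          ← mul_assoc b', ← hcA _ hb', mul_assoc c b']
    obtain ⟨x, hx⟩ := Heis.exists_mk (σ := σ) M.ne_id 1
    have hxc : x ∈ center (Heis σ) := mem_center_iff.2 fun y => M.inj (by
      have := hab _ ((hmem _).2 ⟨_, M.mem_W_of_mem_S₀ (M.ι_mem y), rfl⟩) _
        ((hmem _).2 ⟨_, M.mem_W_of_mem_S₀ (M.ι_mem x), rfl⟩)
      rw [show g * M.ι y * g⁻¹ * (g * M.ι x * g⁻¹) = g * (M.ι y * M.ι x) * g⁻¹ by group,
        show g * M.ι x * g⁻¹ * (g * M.ι y * g⁻¹) = g * (M.ι x * M.ι y) * g⁻¹ by group] at this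
      rw [map_mul, map_mul]
      exact mul_left_cancel (mul_right_cancel this))
    rw [Heis.mem_center_iff M.ne_id, hx] at hxc
    exact one_ne_zero hxc
  -- the images in `V` lie in the fixed line of an outer element
  refine mem_normalizer_fintype fun w hw => ?_
  by_contra hcW
  set c := g * w * g⁻¹ with hc
  have hcS : c ∈ M.Sg := h w hw
  have hc' : c ∈ W' := (hmem c).2 ⟨w, hw, rfl⟩
  obtain ⟨m, hm⟩ := M.exists_outer hS hcS hcW (hsqW c hc')
  obtain ⟨φ, hφ, ha, hmm⟩ := hm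
  have hsplit : ∀ x ∈ W', x ∈ M.W ∨ c⁻¹ * x ∈ M.W := fun x hx => by
    by_cases hxW : x ∈ M.W
    · exact Or.inl hxW
    obtain ⟨m', hm'⟩ := M.exists_outer hS (hW'le hx) hxW (hsqW x hx)
    exact Or.inr (Outer.inv_mul_mem hS M hcS (hW'le hx) ⟨φ, hφ, ha, hmm⟩ hm')
  set X : Subgroup G := W' ⊓ M.W with hX
  have hfix : ∀ y : Heis σ, (∃ e ∈ E, e * M.ι y ∈ X) → (m : F) * σ y.a = y.a := by
    rintro y ⟨e, he, hy⟩
    obtain ⟨v, hv, hev⟩ := (hmem _).1 (mem_inf.1 hy).1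
    have hcomm : ⁅c, e * M.ι y⁆ ∈ M.A := by
      rw [← hev, hc, show ⁅g * w * g⁻¹, g * v * g⁻¹⁆ = g * ⁅w, v⁆ * g⁻¹ by
        rw [commutatorElement_def, commutatorElement_def]; group]
      have hZA : ∀ u ∈ M.W, u * u ∈ M.A := fun u hu => mem_sup_right (M.mul_self_mem_Z₀ hS hu)
      refine hA _ ?_
      have hk := M.A_comm_W hS (inv_mem (hZA w hw)) (inv_mem hv)
      have key : ⁅w, v⁆ = w * v * (w * v) * ((v⁻¹ * (w * w)⁻¹) * v⁻¹) := by
        rw [commutatorElement_def]; group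
      rw [key, ← hk, mul_assoc (w * w)⁻¹, ← mul_inv_rev v v]
      exact mul_mem (hZA _ (mul_mem hw hv)) (mul_mem (inv_mem (hZA w hw)) (inv_mem (hZA v hv)))
    have hey : c * (e * M.ι y) * c⁻¹ = e * M.ι (φ y) := by
      rw [← hφ, ← mul_assoc c e, ← hS.E_central he (M.Sg_le_cen hS hcS)]
      group
    rw [commutatorElement_def, hey] at hcomm
    have he' : e * M.ι (φ y) * (e * M.ι y)⁻¹ = M.ι (φ y * y⁻¹) := by
      rw [mul_inv_rev, map_mul, map_inv, show e⁻¹ = e from inv_eq_of_mul_eq_one_left (hS.E_mul_self he)]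
      have c1 : Commute e (M.ι (φ y) * (M.ι y)⁻¹) :=
        M.E_S₀_comm hS he (mul_mem (M.ι_mem _) (inv_mem (M.ι_mem _)))
      rw [show e * M.ι (φ y) * ((M.ι y)⁻¹ * e) = e * (M.ι (φ y) * (M.ι y)⁻¹) * e by group, c1.eq,
        mul_assoc, hS.E_mul_self he, mul_one]
    rw [he'] at hcomm
    have hz : (φ y * y⁻¹).a = 0 := (Heis.mul_self_eq_one_iff _).1 (M.inj (by
      rw [map_mul, ← sq, (M.A_ea hS).2 _ hcomm, map_one]))
    rw [Heis.mul_a, Heis.inv_a, ha] at hz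
    exact CharTwo.add_eq_zero.1 hz
  -- count
  have hle1 : Nat.card W' ≤ 2 * Nat.card X := by
    rw [← Nat.card_fin 2, ← Nat.card_prod]
    refine Nat.card_le_card_of_surjective (fun p : Fin 2 × X =>
      (⟨(if p.1 = 0 then 1 else c) * p.2.1, mul_mem (by split <;> [exact one_mem _; exact hc'])
        (mem_inf.1 p.2.2).1⟩ : W')) ?_
    rintro ⟨x, hx⟩
    rcases hsplit x hx with h1 | h1
    · exact ⟨(0, ⟨x, mem_inf.2 ⟨hx, h1⟩⟩), by simp⟩
    · exact ⟨(1, ⟨c⁻¹ * x, mem_inf.2 ⟨mul_mem (inv_mem hc') hx, h1⟩⟩), by simp⟩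
  have hle2 : Nat.card X ≤ Nat.card M.A * 2 ^ n := by
    by_cases h0 : ∃ v : F, v ≠ 0 ∧ (m : F) * σ v = v
    · obtain ⟨v, hv0, hv⟩ := h0
      choose mk hmk using fun k : fixed σ => Heis.exists_mk (σ := σ) M.ne_id ((k : F) * v)
      rw [← M.card_fixed, ← Nat.card_prod]
      refine (Nat.card_le_card_of_surjective (fun p : M.A × fixed σ =>
        if hp : p.1.1 * M.ι (mk p.2) ∈ X then (⟨_, hp⟩ : X) else ⟨1, one_mem _⟩) ?_)
      rintro ⟨x, hx⟩
      obtain ⟨e, he, y, rfl⟩ := (M.mem_W hS).1 (mem_inf.1 hx).2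
      have hy := hfix y ⟨e, he, hx⟩
      have hk : σ (y.a / v) = y.a / v := by
        have hσv : σ v ≠ 0 := (map_ne_zero σ).2 hv0
        rw [map_div₀, div_eq_div_iff hσv hv0]
        linear_combination σ v * hy - σ y.a * hv
      set k : fixed σ := ⟨y.a / v, mem_fixed.2 hk⟩ with hkdef
      have hd : (y * (mk k)⁻¹).a = 0 := by
        rw [Heis.mul_a, Heis.inv_a, hmk, hkdef, div_mul_cancel₀ _ hv0, CharTwo.add_self_eq_zero]
      refine ⟨(⟨e * M.ι (y * (mk k)⁻¹), mul_mem_sup he (M.ι_mem_Z₀.2 hd)⟩, k), ?_⟩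
      have heq : e * M.ι (y * (mk k)⁻¹) * M.ι (mk k) = e * M.ι y := by
        rw [mul_assoc, ← map_mul, inv_mul_cancel_right]
      simp only [heq]
      rw [dif_pos hx]
    · push Not at h0
      refine (Nat.card_le_card_of_injective (fun x : X => (⟨x.1, ?_⟩ : M.A)) fun a b hab => ?_).trans
        (Nat.le_mul_of_pos_right _ (by positivity))
      · obtain ⟨e, he, y, hy⟩ := (M.mem_W hS).1 (mem_inf.1 x.2).2
        have h1 := hfix y ⟨e, he, hy ▸ x.2⟩
        by_cases hy0 : y.a = 0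
        · rw [hy]; exact mul_mem_sup he (M.ι_mem_Z₀.2 hy0)
        · exact absurd h1 (h0 _ hy0)
      · exact Subtype.ext (congrArg (fun z : M.A => (z : G)) hab)
  have := M.two_lt_W hS
  rw [← hcardW'] at this
  nlinarith

include hS in
theorem normalizer_W_le_A : normalizer (M.W : Set G) ≤ normalizer (M.A : Set G) := fun g hg =>
  mem_normalizer_fintype fun a ha => by
    refine M.W_center hS ((mem_normalizer_iff.1 hg a).1 (M.A_le_W hS ha)) fun x hx => ?_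
    have hx' : g⁻¹ * x * g ∈ M.W := by
      refine (mem_normalizer_iff.1 hg _).2 ?_
      rwa [show g * (g⁻¹ * x * g) * g⁻¹ = x by group]
    calc g * a * g⁻¹ * x = g * (a * (g⁻¹ * x * g)) * g⁻¹ := by group
      _ = g * (g⁻¹ * x * g * a) * g⁻¹ := by rw [M.A_comm_W hS ha hx']
      _ = x * (g * a * g⁻¹) := by group

include hS in
theorem normalizer_W_le_Z₀ : normalizer (M.W : Set G) ≤ normalizer (M.Z₀ : Set G) := fun g hg =>
  mem_normalizer_fintype fun z hz => by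
    obtain ⟨c, rfl⟩ := M.mem_Z₀.1 hz
    obtain ⟨a, ha, haa⟩ := Algebra.exists_sq (l := (c : F)) (mem_fixed.1 c.2)
    obtain ⟨y, hy⟩ := Heis.exists_mk (σ := σ) M.ne_id a
    have hl : Heis.cen c = y * y := by
      rw [Heis.mul_self]
      congr 1
      exact Subtype.ext (by simp [hy, ha, haa])
    rw [hl, map_mul, show g * (M.ι y * M.ι y) * g⁻¹ = g * M.ι y * g⁻¹ * (g * M.ι y * g⁻¹) by group]
    exact M.mul_self_mem_Z₀ hS ((mem_normalizer_iff.1 hg _).1 (M.mem_W_of_mem_S₀ (M.ι_mem y)))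

end Cfsg.Agent.UThreeEven.Model
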